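import Mathlib
import Cfsg.Agent.Lib.Lead.CoprimeSylow

set_option autoImplicit false

namespace Cfsg.Agent.Lib.Lead

theorem mem_normalizer_of_conj_le {G : Type*} [Group G] [Finite G] (D : Subgroup G) (y : G)
    (h : ∀ d ∈ D, y * d * y⁻¹ ∈ D) : y ∈ Subgroup.normalizer (D : Set G) := by
  rw [Subgroup.mem_normalizer_iff]
  intro x
  constructor
  · exact h x
  · intro hx
    let f : D → D := fun d => ⟨y * d * y⁻¹, h d d.2⟩
    have hf : Function.Injective f := by
      intro a b hab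
      have h1 : y * (a : G) * y⁻¹ = y * (b : G) * y⁻¹ := congrArg Subtype.val hab
      apply Subtype.ext
      exact mul_left_cancel (mul_right_cancel h1)
    obtain ⟨d, hd⟩ := Finite.surjective_of_injective hf ⟨y * x * y⁻¹, hx⟩
    have h1 : y * (d : G) * y⁻¹ = y * x * y⁻¹ := congrArg Subtype.val hd
    have h2 : (d : G) = x := mul_left_cancel (mul_right_cancel h1)
    rw [← h2]
    exact d.2

/-- **Baer–Suzuki**, element form: a normal set of elements any two of which generate a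
`p`-group generates a `p`-group. -/
theorem baer_suzuki_elt {G : Type*} [Group G] [Finite G] {p : ℕ} [Fact p.Prime] (K : Set G)
    (hKn : ∀ k ∈ K, ∀ g : G, g * k * g⁻¹ ∈ K)
    (hK2 : ∀ a ∈ K, ∀ b ∈ K, IsPGroup p (Subgroup.closure ({a, b} : Set G))) :
    IsPGroup p (Subgroup.closure K) := by
  classical
  let 𝒯 : Set (Subgroup G) := {T | IsPGroup p T ∧ T ≤ Subgroup.closure (K ∩ (T : Set G))}
  have hbot : (⊥ : Subgroup G) ∈ 𝒯 := ⟨IsPGroup.of_bot, bot_le⟩
  obtain ⟨S, hS, hSmax⟩ := Set.exists_max_image 𝒯 (fun V => Nat.card V) (Set.toFinite _) ⟨⊥, hbot⟩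
  have hKS : K ⊆ (S : Set G) := by
    by_contra hcon
    rw [Set.not_subset] at hcon
    obtain ⟨z, hzK, hzS⟩ := hcon
    let 𝒰 : Set (Subgroup G) := {T | T ∈ 𝒯 ∧ ¬ T ≤ S}
    have hz𝒰 : Subgroup.closure ({z} : Set G) ∈ 𝒰 := by
      refine ⟨⟨?_, ?_⟩, ?_⟩
      · have h1 := hK2 z hzK z hzK
        rw [Set.pair_eq_singleton] at h1
        exact h1
      · apply Subgroup.closure_mono
        intro x hx
        rw [Set.mem_singleton_iff] at hx
        rw [hx]
        exact ⟨hzK, Subgroup.subset_closure (Set.mem_singleton z)⟩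
      · intro h
        exact hzS (h (Subgroup.subset_closure (Set.mem_singleton z)))
    obtain ⟨T, hT, hTmax⟩ := Set.exists_max_image 𝒰
      (fun T => Nat.card (Subgroup.closure (K ∩ (S : Set G) ∩ (T : Set G)))) (Set.toFinite _)
      ⟨_, hz𝒰⟩
    set D := Subgroup.closure (K ∩ (S : Set G) ∩ (T : Set G)) with hD
    have hDS : D ≤ S := by
      rw [hD, Subgroup.closure_le]
      intro x hx
      exact hx.1.2
    have hDT : D ≤ T := by
      rw [hD, Subgroup.closure_le]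
      intro x hx
      exact hx.2
    have hDgen : D ≤ Subgroup.closure (K ∩ (D : Set G)) :=
      Subgroup.closure_mono (fun x hx => ⟨hx.1.1, Subgroup.subset_closure hx⟩)
    have hDneS : D ≠ S := by
      intro h
      have hST : S ≤ T := h ▸ hDT
      have h1 := hSmax T hT.1
      have h2 : S = T := Subgroup.eq_of_le_of_card_ge hST h1
      exact hT.2 (h2 ▸ le_refl _)
    have hDneT : D ≠ T := by
      intro h
      exact hT.2 (h ▸ hDS)
    have L : ∀ P : Subgroup G, IsPGroup p P → P ≤ Subgroup.closure (K ∩ (P : Set G)) → D ≤ P →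
        D ≠ P → ∃ y, y ∈ K ∧ y ∈ P ∧ y ∉ D ∧ y ∈ Subgroup.normalizer (D : Set G) := by
      intro P hP hPgen hDP hDneP
      let ℳ : Set (Subgroup G) := {M | D ≤ M ∧ M ≤ P ∧ ∀ x ∈ K, x ∈ M → x ∈ D}
      have hDℳ : D ∈ ℳ := ⟨le_refl _, hDP, fun x _ hx => hx⟩
      obtain ⟨M, hM, hMmax⟩ := Set.exists_max_image ℳ (fun M => Nat.card M) (Set.toFinite _)
        ⟨D, hDℳ⟩
      have hMneP : M ≠ P := by
        intro h
        apply hDneP
        apply le_antisymm hDP
        refine hPgen.trans ?_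
        rw [Subgroup.closure_le]
        intro x hx
        exact hM.2.2 x hx.1 (h ▸ hx.2)
      have hMP : M < P := lt_of_le_of_ne hM.2.1 hMneP
      obtain ⟨t, htP, htN, htM⟩ := exists_mem_normalizer_not_mem hP hMP
      have hM' : ¬ (Subgroup.normalizer (M : Set G) ⊓ P) ∈ ℳ := by
        intro hmem
        have h1 := hMmax _ hmem
        have h2 : M ≤ Subgroup.normalizer (M : Set G) ⊓ P := le_inf Subgroup.le_normalizer hM.2.1
        have h3 := Subgroup.eq_of_le_of_card_ge h2 h1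
        apply htM
        rw [h3]
        exact ⟨htN, htP⟩
      have hex : ∃ y ∈ K, y ∈ Subgroup.normalizer (M : Set G) ⊓ P ∧ y ∉ D := by
        by_contra hcon
        push Not at hcon
        exact hM' ⟨hM.1.trans (le_inf Subgroup.le_normalizer hM.2.1), inf_le_right, hcon⟩
      obtain ⟨y, hyK, ⟨hyN, hyP⟩, hyD⟩ := hex
      refine ⟨y, hyK, hyP, hyD, ?_⟩
      apply mem_normalizer_of_conj_le
      have hle : D ≤ D.comap (MulAut.conj y).toMonoidHom := by
        rw [hD, Subgroup.closure_le]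
        intro x hx
        show (MulAut.conj y) x ∈ Subgroup.closure (K ∩ (S : Set G) ∩ (T : Set G))
        rw [MulAut.conj_apply]
        have hxD : x ∈ D := Subgroup.subset_closure hx
        have hxM : x ∈ M := hM.1 hxD
        exact hM.2.2 _ (hKn x hx.1.1 y) ((Subgroup.mem_normalizer_iff.mp hyN x).mp hxM)
      intro d hd
      have := hle hd
      rw [Subgroup.mem_comap] at this
      exact this
    obtain ⟨y₁, hy₁K, hy₁S, hy₁D, hy₁N⟩ := L S hS.1 hS.2 hDS hDneS
    obtain ⟨y₂, hy₂K, hy₂T, hy₂D, hy₂N⟩ := L T hT.1.1 hT.1.2 hDT hDneT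
    have hy₂S : y₂ ∉ S := fun h => hy₂D (Subgroup.subset_closure ⟨⟨hy₂K, h⟩, hy₂T⟩)
    set Q := Subgroup.closure ({y₁, y₂} : Set G) with hQdef
    have hQ : IsPGroup p Q := hK2 y₁ hy₁K y₂ hy₂K
    have hy₁Q : y₁ ∈ Q := Subgroup.subset_closure (Set.mem_insert _ _)
    have hy₂Q : y₂ ∈ Q := Subgroup.subset_closure (Set.mem_insert_of_mem _ (Set.mem_singleton _))
    have hQN : Q ≤ Subgroup.normalizer (D : Set G) := by
      rw [hQdef, Subgroup.closure_le]
      intro x hx
      rcases hx with rfl | hx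
      · exact hy₁N
      · rw [Set.mem_singleton_iff] at hx
        rw [hx]
        exact hy₂N
    have hDp : IsPGroup p D := hS.1.to_le hDS
    have hR : IsPGroup p (D ⊔ Q : Subgroup G) := IsPGroup.to_sup_of_normal_left' hDp hQ hQN
    have hR𝒯 : (D ⊔ Q) ∈ 𝒯 := by
      refine ⟨hR, ?_⟩
      rw [sup_le_iff]
      constructor
      · refine hDgen.trans (Subgroup.closure_mono ?_)
        intro x hx
        exact ⟨hx.1, (le_sup_left : D ≤ D ⊔ Q) hx.2⟩
      · rw [hQdef, Subgroup.closure_le]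
        intro x hx
        apply Subgroup.subset_closure
        have hxQ : x ∈ Q := Subgroup.subset_closure hx
        refine ⟨?_, (le_sup_right : Q ≤ D ⊔ Q) hxQ⟩
        rcases hx with rfl | hx
        · exact hy₁K
        · rw [Set.mem_singleton_iff] at hx
          rw [hx]
          exact hy₂K
    have hR𝒰 : (D ⊔ Q) ∈ 𝒰 := ⟨hR𝒯, fun h => hy₂S (h ((le_sup_right : Q ≤ D ⊔ Q) hy₂Q))⟩
    have hcontra := hTmax _ hR𝒰
    have hle : D ≤ Subgroup.closure (K ∩ (S : Set G) ∩ ((D ⊔ Q : Subgroup G) : Set G)) :=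
      Subgroup.closure_mono
        (fun x hx => ⟨hx.1, (le_sup_left : D ≤ D ⊔ Q) (Subgroup.subset_closure hx)⟩)
    have heq := Subgroup.eq_of_le_of_card_ge hle hcontra
    apply hy₁D
    rw [heq]
    exact Subgroup.subset_closure ⟨⟨hy₁K, hy₁S⟩, (le_sup_right : Q ≤ D ⊔ Q) hy₁Q⟩
  exact hS.1.to_le ((Subgroup.closure_le S).mpr hKS)

theorem closure_normal_of_conj_invariant {G : Type*} [Group G] (K : Set G)
    (hKn : ∀ k ∈ K, ∀ g : G, g * k * g⁻¹ ∈ K) : (Subgroup.closure K).Normal := by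
  constructor
  intro n hn g
  induction hn using Subgroup.closure_induction with
  | mem x hx => exact Subgroup.subset_closure (hKn x hx g)
  | one => rw [mul_one, mul_inv_cancel]; exact Subgroup.one_mem _
  | mul x y _ _ hx hy =>
    have : g * (x * y) * g⁻¹ = (g * x * g⁻¹) * (g * y * g⁻¹) := by group
    rw [this]
    exact Subgroup.mul_mem _ hx hy
  | inv x _ hx =>
    have : g * x⁻¹ * g⁻¹ = (g * x * g⁻¹)⁻¹ := by group
    rw [this]
    exact Subgroup.inv_mem _ hx

/-- **Baer–Suzuki**, subgroup form -/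
theorem baer_suzuki {G : Type*} [Group G] [Finite G] {p : ℕ} [Fact p.Prime] (X : Subgroup G)
    (h : ∀ g : G, IsPGroup p ↥(X ⊔ X.map (MulAut.conj g).toMonoidHom)) :
    ∃ N : Subgroup G, N.Normal ∧ IsPGroup p N ∧ X ≤ N := by
  let K : Set G := {k | ∃ g : G, ∃ x ∈ X, k = g * x * g⁻¹}
  have hKn : ∀ k ∈ K, ∀ g : G, g * k * g⁻¹ ∈ K := by
    rintro k ⟨g₁, x, hx, rfl⟩ g
    exact ⟨g * g₁, x, hx, by group⟩
  have hK2 : ∀ a ∈ K, ∀ b ∈ K, IsPGroup p (Subgroup.closure ({a, b} : Set G)) := by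
    rintro a ⟨g₁, x₁, hx₁, rfl⟩ b ⟨g₂, x₂, hx₂, rfl⟩
    have h1 := (h (g₁⁻¹ * g₂)).map (MulAut.conj g₁).toMonoidHom
    apply h1.to_le
    rw [Subgroup.closure_le]
    intro y hy
    rcases hy with rfl | hy
    · refine ⟨x₁, (le_sup_left : X ≤ X ⊔ _) hx₁, ?_⟩
      show (MulAut.conj g₁) x₁ = _
      rw [MulAut.conj_apply]
    · rw [Set.mem_singleton_iff] at hy
      rw [hy]
      refine ⟨(g₁⁻¹ * g₂) * x₂ * (g₁⁻¹ * g₂)⁻¹, ?_, ?_⟩
      · apply (le_sup_right : X.map (MulAut.conj (g₁⁻¹ * g₂)).toMonoidHom ≤ X ⊔ _)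
        refine ⟨x₂, hx₂, ?_⟩
        show (MulAut.conj (g₁⁻¹ * g₂)) x₂ = _
        rw [MulAut.conj_apply]
      · show (MulAut.conj g₁) ((g₁⁻¹ * g₂) * x₂ * (g₁⁻¹ * g₂)⁻¹) = _
        rw [MulAut.conj_apply]
        group
  refine ⟨Subgroup.closure K, closure_normal_of_conj_invariant K hKn, baer_suzuki_elt K hKn hK2, ?_⟩
  intro x hx
  apply Subgroup.subset_closure
  exact ⟨1, x, hx, by group⟩

end Cfsg.Agent.Lib.Lead
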