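import Mathlib

set_option autoImplicit false

namespace Cfsg.Agent.Lib.Lead

theorem orderOf_eq_two_iff_ne_one_and_mul_self {G : Type*} [Group G] (t : G) :
    orderOf t = 2 ↔ t ≠ 1 ∧ t * t = 1 := by
  rw [orderOf_eq_prime_iff (p := 2), pow_two]
  exact ⟨fun h => ⟨h.2, h.1⟩, fun h => ⟨h.2, h.1⟩⟩

theorem inv_eq_self_of_orderOf_eq_two {G : Type*} [Group G] {t : G} (ht : orderOf t = 2) : t⁻¹ = t := by
  have := ((orderOf_eq_two_iff_ne_one_and_mul_self t).mp ht).2
  exact inv_eq_of_mul_eq_one_left this

theorem mul_self_of_orderOf_eq_two {G : Type*} [Group G] {t : G} (ht : orderOf t = 2) : t * t = 1 :=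
  ((orderOf_eq_two_iff_ne_one_and_mul_self t).mp ht).2

theorem ne_one_of_orderOf_eq_two {G : Type*} [Group G] {t : G} (ht : orderOf t = 2) : t ≠ 1 :=
  ((orderOf_eq_two_iff_ne_one_and_mul_self t).mp ht).1

/-- The number of solutions of `g⁻¹ = g` is one more than the number of involutions. -/
theorem card_inv_eq_self {G : Type*} [Group G] [Finite G] :
    Nat.card {g : G // g⁻¹ = g} = Nat.card {t : G // orderOf t = 2} + 1 := by
  classical
  have : Fintype G := Fintype.ofFinite G
  rw [Nat.card_eq_fintype_card, Nat.card_eq_fintype_card, Fintype.card_subtype, Fintype.card_subtype]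
  have h : (Finset.univ.filter (fun g : G => g⁻¹ = g)) =
      insert 1 (Finset.univ.filter (fun t : G => orderOf t = 2)) := by
    ext g
    simp only [Finset.mem_filter, Finset.mem_univ, true_and, Finset.mem_insert]
    constructor
    · intro h
      by_cases h1 : g = 1
      · left; exact h1
      · right
        rw [orderOf_eq_two_iff_ne_one_and_mul_self]
        refine ⟨h1, ?_⟩
        nth_rewrite 1 [← h]
        exact inv_mul_cancel g
    · rintro (rfl | h)
      · simp
      · exact inv_eq_self_of_orderOf_eq_two h
  rw [h, Finset.card_insert_of_notMem]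
  simp

/-- The number of solutions of `g⁻¹ = g` has the parity of the group order. -/
theorem card_inv_eq_self_modEq {G : Type*} [Group G] [Finite G] :
    Nat.card {g : G // g⁻¹ = g} ≡ Nat.card G [MOD 2] := by
  classical
  have : Fintype G := Fintype.ofFinite G
  let f : Function.End G := fun g => g⁻¹
  have hf : f ^ 2 ^ 1 = 1 := by
    rw [pow_one, pow_two]
    funext g
    show (g⁻¹)⁻¹ = g
    exact inv_inv g
  have h := Equiv.Perm.card_fixedPoints_modEq (p := 2) (n := 1) hf
  rw [Nat.card_eq_fintype_card, Nat.card_eq_fintype_card]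
  refine Nat.ModEq.trans ?_ h.symm
  have e : Fintype.card {g : G // g⁻¹ = g} = Fintype.card (Function.fixedPoints f) := by
    apply Fintype.card_congr
    exact Equiv.subtypeEquivRight (fun g => by simp [f, Function.mem_fixedPoints, Function.IsFixedPt])
  rw [e]

/-- A finite group of even order has an odd number of involutions. -/
theorem odd_card_involutions {G : Type*} [Group G] [Finite G] (heven : Even (Nat.card G)) :
    Odd (Nat.card {t : G // orderOf t = 2}) := by
  have h1 := card_inv_eq_self_modEq (G := G)
  rw [card_inv_eq_self] at h1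
  have h2 : (Nat.card {t : G // orderOf t = 2} + 1) % 2 = 0 := by
    rw [h1, Nat.even_iff.mp heven]
  rw [Nat.odd_iff]
  omega

/-- Removing one point satisfying `P` from a finite subtype. -/
theorem card_subtype_and_ne_add_one {α : Type*} [Finite α] (P : α → Prop) (x : α) (hx : P x) :
    Nat.card {t : α // P t ∧ t ≠ x} + 1 = Nat.card {t : α // P t} := by
  classical
  have : Fintype α := Fintype.ofFinite α
  rw [Nat.card_eq_fintype_card, Nat.card_eq_fintype_card, Fintype.card_subtype, Fintype.card_subtype]
  have h : (Finset.univ.filter (fun t : α => P t)) =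
      insert x (Finset.univ.filter (fun t : α => P t ∧ t ≠ x)) := by
    ext g
    simp only [Finset.mem_filter, Finset.mem_univ, true_and, Finset.mem_insert]
    constructor
    · intro h
      by_cases h1 : g = x
      · left; exact h1
      · right; exact ⟨h, h1⟩
    · rintro (rfl | h)
      · exact hx
      · exact h.1
  rw [h, Finset.card_insert_of_notMem]
  simp

/-- If `u`, `v` are involutions then `u` inverts `u * v`. -/
theorem conj_mul_of_involutions {G : Type*} [Group G] {u v : G} (hu : orderOf u = 2) (hv : orderOf v = 2) :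
    u * (u * v) * u⁻¹ = (u * v)⁻¹ := by
  rw [mul_inv_rev, inv_eq_self_of_orderOf_eq_two hu, inv_eq_self_of_orderOf_eq_two hv, ← mul_assoc,
    mul_self_of_orderOf_eq_two hu, one_mul]

end Cfsg.Agent.Lib.Lead
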