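import Mathlib
import Cfsg.Agent.Lib.Lead.Invol

set_option autoImplicit false

namespace Cfsg.Agent.Lib.Lead

/-- For involutions `x`, `y`: `x * (x*y)^j = (x*y)^(-j) * x`. -/
theorem invol_mul_zpow {G : Type*} [Group G] {x y : G} (hx : orderOf x = 2) (hy : orderOf y = 2) (j : ℤ) :
    x * (x * y) ^ j = (x * y) ^ (-j) * x := by
  have h1 := conj_mul_of_involutions hx hy
  have h2 : x * (x * y) ^ j * x⁻¹ = (x * y) ^ (-j) := by
    rw [← conj_zpow, h1, inv_zpow, zpow_neg]
  rw [← h2, inv_mul_cancel_right]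

/-- For involutions `x`, `y`: `y = (x*y)^(-1) * x`. -/
theorem invol_snd_eq {G : Type*} [Group G] {x y : G} (hx : orderOf x = 2) (hy : orderOf y = 2) :
    y = (x * y) ^ (-1 : ℤ) * x := by
  rw [zpow_neg, zpow_one, mul_inv_rev, inv_eq_self_of_orderOf_eq_two hx, inv_eq_self_of_orderOf_eq_two hy,
    mul_assoc, mul_self_of_orderOf_eq_two hx, mul_one]

/-- Normal form for the elements of the group generated by two involutions. -/
theorem mem_closure_pair_invol {G : Type*} [Group G] {x y : G} (hx : orderOf x = 2) (hy : orderOf y = 2)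
    {d : G} (hd : d ∈ Subgroup.closure ({x, y} : Set G)) :
    ∃ j : ℤ, d = (x * y) ^ j ∨ d = (x * y) ^ j * x := by
  have hxx := mul_self_of_orderOf_eq_two hx
  have hxi := inv_eq_self_of_orderOf_eq_two hx
  induction hd using Subgroup.closure_induction with
  | mem z hz =>
    rcases hz with rfl | hz
    · exact ⟨0, Or.inr (by simp)⟩
    · rw [Set.mem_singleton_iff] at hz
      subst hz
      exact ⟨-1, Or.inr (invol_snd_eq hx hy)⟩
  | one => exact ⟨0, Or.inl (by simp)⟩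
  | mul a b _ _ iha ihb =>
    obtain ⟨i, hi | hi⟩ := iha <;> obtain ⟨j, hj | hj⟩ := ihb
    · exact ⟨i + j, Or.inl (by rw [hi, hj, zpow_add])⟩
    · exact ⟨i + j, Or.inr (by rw [hi, hj, zpow_add, mul_assoc])⟩
    · refine ⟨i - j, Or.inr ?_⟩
      rw [hi, hj, mul_assoc, invol_mul_zpow hx hy, ← mul_assoc, ← zpow_add, sub_eq_add_neg]
    · refine ⟨i - j, Or.inl ?_⟩
      rw [hi, hj, mul_assoc, ← mul_assoc x, invol_mul_zpow hx hy, mul_assoc, hxx, mul_one, ← zpow_add,
        sub_eq_add_neg]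
  | inv a _ iha =>
    obtain ⟨i, hi | hi⟩ := iha
    · exact ⟨-i, Or.inl (by rw [hi, zpow_neg])⟩
    · refine ⟨i, Or.inr ?_⟩
      rw [hi, mul_inv_rev, hxi, ← zpow_neg, invol_mul_zpow hx hy, neg_neg]

theorem zpow_mem_closure_pair {G : Type*} [Group G] (x y : G) (j : ℤ) :
    (x * y) ^ j ∈ Subgroup.closure ({x, y} : Set G) :=
  Subgroup.zpow_mem _ (Subgroup.mul_mem _ (Subgroup.subset_closure (by simp)) (Subgroup.subset_closure (by simp))) j

/-- Conjugating `x` by an element of `⟨x, y⟩` gives `(x*y)^(2j) * x`. -/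
theorem conj_invol_of_mem_closure {G : Type*} [Group G] {x y : G} (hx : orderOf x = 2) (hy : orderOf y = 2)
    {d : G} (hd : d ∈ Subgroup.closure ({x, y} : Set G)) :
    ∃ j : ℤ, d * x * d⁻¹ = (x * y) ^ (2 * j) * x := by
  have hxx := mul_self_of_orderOf_eq_two hx
  have hxi := inv_eq_self_of_orderOf_eq_two hx
  obtain ⟨j, hj | hj⟩ := mem_closure_pair_invol hx hy hd
  · refine ⟨j, ?_⟩
    rw [hj, mul_assoc, ← zpow_neg, invol_mul_zpow hx hy, neg_neg, ← mul_assoc, ← zpow_add, two_mul]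
  · refine ⟨j, ?_⟩
    rw [hj, mul_inv_rev, hxi, ← zpow_neg, mul_assoc, mul_assoc, ← mul_assoc x x, hxx, one_mul,
      invol_mul_zpow hx hy, neg_neg, ← mul_assoc, ← zpow_add, two_mul]

end Cfsg.Agent.Lib.Lead
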