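import Mathlib
import Cfsg.Agent.Lib.Lead.Dihedral

set_option autoImplicit false

namespace Cfsg.Agent.Lib.Lead

section Invol2
variable {G : Type*} [Group G]

theorem orderOf_conj_eq (g x : G) : orderOf (g * x * g⁻¹) = orderOf x := by
  have h := orderOf_injective (MulAut.conj g).toMonoidHom (MulAut.conj g).injective x
  simpa [MulAut.conj_apply] using h

/-- Any `p`-subgroup can be conjugated into a given Sylow `p`-subgroup. -/
theorem exists_conj_into_sylow [Finite G] {p : ℕ} [Fact p.Prime] (P : Sylow p G) (Q : Subgroup G)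
    (hQ : IsPGroup p Q) : ∃ h : G, ∀ x ∈ Q, h * x * h⁻¹ ∈ (P : Subgroup G) := by
  obtain ⟨Q', hQ'⟩ := hQ.exists_le_sylow
  obtain ⟨h, hh⟩ := MulAction.exists_smul_eq G Q' P
  refine ⟨h, fun x hx => ?_⟩
  rw [← hh, Sylow.coe_subgroup_smul]
  have h2 := Subgroup.smul_mem_pointwise_smul x (MulAut.conj h) (Q' : Subgroup G) (hQ' hx)
  simpa [MulAut.smul_def] using h2

/-- An element isolated in a Sylow subgroup is isolated in every `p`-subgroup containing it. -/
theorem sylow_isolated_transfer [Finite G] {p : ℕ} [Fact p.Prime] (P : Sylow p G) (u : G)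
    (hiso : ∀ g : G, g * u * g⁻¹ ∈ (P : Subgroup G) → g * u * g⁻¹ = u) (Q : Subgroup G)
    (hQ : IsPGroup p Q) (huQ : u ∈ Q) (g : G) (hg : g * u * g⁻¹ ∈ Q) : g * u * g⁻¹ = u := by
  obtain ⟨h, key⟩ := exists_conj_into_sylow P Q hQ
  have h1 : h * u * h⁻¹ = u := hiso h (key u huQ)
  have h2 : (h * g) * u * (h * g)⁻¹ = u := by
    apply hiso
    have h3 := key _ hg
    have e : h * g * u * (h * g)⁻¹ = h * (g * u * g⁻¹) * h⁻¹ := by group
    rw [e]; exact h3
  calc g * u * g⁻¹ = h⁻¹ * ((h * g) * u * (h * g)⁻¹) * h := by group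
    _ = h⁻¹ * u * h := by rw [h2]
    _ = h⁻¹ * (h * u * h⁻¹) * h := by rw [h1]
    _ = u := by group

/-- An involution inverting a `2`-element generates a `2`-group with it. -/
theorem isPGroup_sup_zpowers_of_invert [Finite G] (u w : G) (hu : orderOf u = 2) (k : ℕ)
    (hw : orderOf w = 2 ^ k) (hinv : u * w * u⁻¹ = w⁻¹) :
    IsPGroup 2 (Subgroup.zpowers w ⊔ Subgroup.zpowers u : Subgroup G) := by
  haveI : Fact (Nat.Prime 2) := ⟨Nat.prime_two⟩
  have hU : IsPGroup 2 (Subgroup.zpowers w) :=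
    IsPGroup.of_card (n := k) (by rw [Nat.card_zpowers, hw])
  have hT : IsPGroup 2 (Subgroup.zpowers u) :=
    IsPGroup.of_card (n := 1) (by rw [Nat.card_zpowers, hu, pow_one])
  have hTN : Subgroup.zpowers u ≤ Subgroup.normalizer (Subgroup.zpowers w : Set G) := by
    rw [Subgroup.zpowers_le, Subgroup.mem_normalizer_iff]
    intro d
    have hfwd : ∀ e : G, e ∈ Subgroup.zpowers w → u * e * u⁻¹ ∈ Subgroup.zpowers w := by
      intro e he
      obtain ⟨j, rfl⟩ := Subgroup.mem_zpowers_iff.mp he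
      have h2 : u * w ^ j * u⁻¹ = (u * w * u⁻¹) ^ j := conj_zpow.symm
      rw [h2, hinv]
      exact Subgroup.zpow_mem _ (Subgroup.inv_mem _ (Subgroup.mem_zpowers w)) j
    have hui : u⁻¹ = u := inv_eq_self_of_orderOf_eq_two hu
    have huu : u * u = 1 := mul_self_of_orderOf_eq_two hu
    constructor
    · exact hfwd d
    · intro hd
      have h3 := hfwd _ hd
      have e : u * (u * d * u⁻¹) * u⁻¹ = d := by
        rw [hui]
        calc u * (u * d * u) * u = (u * u) * d * (u * u) := by group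
          _ = d := by rw [huu, one_mul, mul_one]
      rwa [e] at h3
  exact IsPGroup.to_sup_of_normal_left' hU hT hTN

theorem mem_sup_zpowers_left (u w : G) : w ∈ (Subgroup.zpowers w ⊔ Subgroup.zpowers u : Subgroup G) :=
  (le_sup_left : Subgroup.zpowers w ≤ _) (Subgroup.mem_zpowers w)

theorem mem_sup_zpowers_right (u w : G) : u ∈ (Subgroup.zpowers w ⊔ Subgroup.zpowers u : Subgroup G) :=
  (le_sup_right : Subgroup.zpowers u ≤ _) (Subgroup.mem_zpowers u)

/-- Odd powers: for involutions `u`, `v`, `u * (u*v)^(2j+1)` is a conjugate of `v`. -/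
theorem invol_mul_odd_pow (u v : G) (hu : orderOf u = 2) (hv : orderOf v = 2) (j : ℕ) :
    u * (u * v) ^ (2 * j + 1) = ((u * v) ^ j)⁻¹ * v * (u * v) ^ j := by
  have huu := mul_self_of_orderOf_eq_two hu
  have h1 := invol_mul_zpow hu hv (j : ℤ)
  rw [zpow_neg, zpow_natCast] at h1
  have h2 : (u * v) ^ (2 * j + 1) = (u * v) ^ j * (u * v) * (u * v) ^ j := by
    have e : 2 * j + 1 = j + 1 + j := by ring
    rw [e, pow_add, pow_add, pow_one]
  have h3 : u * (u * v) = v := by rw [← mul_assoc, huu, one_mul]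
  rw [h2, ← mul_assoc, ← mul_assoc, h1, mul_assoc ((u * v) ^ j)⁻¹ u (u * v), h3]

theorem orderOf_odd_part [Finite G] (x : G) :
    ∃ k j : ℕ, orderOf x = 2 ^ k * (2 * j + 1) ∧ orderOf (x ^ (2 * j + 1)) = 2 ^ k := by
  have hn0 : orderOf x ≠ 0 := (orderOf_pos x).ne'
  obtain ⟨k, m, hm, hkm⟩ := Nat.exists_eq_two_pow_mul_odd hn0
  obtain ⟨j, hj⟩ := hm
  subst hj
  refine ⟨k, j, hkm, ?_⟩
  have hm0 : 2 * j + 1 ≠ 0 := by omega
  rw [orderOf_pow' x hm0, hkm, Nat.gcd_eq_right (Dvd.intro_left _ rfl)]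
  exact Nat.mul_div_cancel _ (Nat.pos_of_ne_zero hm0)

end Invol2

end Cfsg.Agent.Lib.Lead
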