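import Mathlib
import Cfsg.Prelude.Def_Characters
import Cfsg.Agent.Lib.Lead.Char18

set_option autoImplicit false

namespace Cfsg.Agent.Lib.Lead

open Module Representation

section lin

variable {G : Type*} [Group G]

theorem extendByZero_add (H : Subgroup G) (θ₁ θ₂ : H → ℂ) :
    Cfsg.extendByZero H (θ₁ + θ₂) = Cfsg.extendByZero H θ₁ + Cfsg.extendByZero H θ₂ := by
  funext g
  by_cases hg : g ∈ H
  · rw [Pi.add_apply, extendByZero_mem' _ _ hg, extendByZero_mem' _ _ hg,
      extendByZero_mem' _ _ hg, Pi.add_apply]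
  · rw [Pi.add_apply, extendByZero_not_mem _ _ hg, extendByZero_not_mem _ _ hg,
      extendByZero_not_mem _ _ hg, add_zero]

theorem extendByZero_smul (H : Subgroup G) (c : ℂ) (θ : H → ℂ) :
    Cfsg.extendByZero H (c • θ) = c • Cfsg.extendByZero H θ := by
  funext g
  by_cases hg : g ∈ H
  · rw [Pi.smul_apply, extendByZero_mem' _ _ hg, extendByZero_mem' _ _ hg, Pi.smul_apply]
  · rw [Pi.smul_apply, extendByZero_not_mem _ _ hg, extendByZero_not_mem _ _ hg, smul_zero]

/-- induction as a linear map -/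
noncomputable def indLin [Fintype G] (H : Subgroup G) : (H → ℂ) →ₗ[ℂ] (G → ℂ) where
  toFun := Cfsg.indFun H
  map_add' := by
    intro θ₁ θ₂
    funext g
    rw [Pi.add_apply, indFun_apply, indFun_apply, indFun_apply, extendByZero_add, ← mul_add,
      ← Finset.sum_add_distrib]
    rfl
  map_smul' := by
    intro c θ
    funext g
    rw [RingHom.id_apply, Pi.smul_apply, indFun_apply, indFun_apply, extendByZero_smul, smul_eq_mul]
    simp only [Pi.smul_apply, smul_eq_mul]
    rw [← Finset.mul_sum]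
    ring

theorem indLin_apply [Fintype G] (H : Subgroup G) (θ : H → ℂ) : indLin H θ = Cfsg.indFun H θ := rfl

end lin

/-! ### generalized characters -/

theorem isGen_of_char {G : Type*} [Group G] {χ : G → ℂ} (h : Cfsg.IsCharacter G χ) :
    Cfsg.IsGeneralizedCharacter G χ := ⟨χ, 0, h, isCharacter_zero, (sub_zero χ).symm⟩

theorem isGen_zero {G : Type*} [Group G] : Cfsg.IsGeneralizedCharacter G 0 :=
  isGen_of_char isCharacter_zero

theorem isGen_add {G : Type*} [Group G] {θ₁ θ₂ : G → ℂ} (h1 : Cfsg.IsGeneralizedCharacter G θ₁)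
    (h2 : Cfsg.IsGeneralizedCharacter G θ₂) : Cfsg.IsGeneralizedCharacter G (θ₁ + θ₂) := by
  obtain ⟨χ₁, ψ₁, hχ₁, hψ₁, rfl⟩ := h1
  obtain ⟨χ₂, ψ₂, hχ₂, hψ₂, rfl⟩ := h2
  exact ⟨χ₁ + χ₂, ψ₁ + ψ₂, isCharacter_add hχ₁ hχ₂, isCharacter_add hψ₁ hψ₂, by abel⟩

theorem isGen_neg {G : Type*} [Group G] {θ : G → ℂ} (h : Cfsg.IsGeneralizedCharacter G θ) :
    Cfsg.IsGeneralizedCharacter G (-θ) := by
  obtain ⟨χ, ψ, hχ, hψ, rfl⟩ := h
  exact ⟨ψ, χ, hψ, hχ, by abel⟩

theorem isGen_sub {G : Type*} [Group G] {θ₁ θ₂ : G → ℂ} (h1 : Cfsg.IsGeneralizedCharacter G θ₁)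
    (h2 : Cfsg.IsGeneralizedCharacter G θ₂) : Cfsg.IsGeneralizedCharacter G (θ₁ - θ₂) := by
  rw [sub_eq_add_neg]
  exact isGen_add h1 (isGen_neg h2)

theorem isGen_sum {G : Type*} [Group G] {ι : Type*} (s : Finset ι) (f : ι → G → ℂ)
    (h : ∀ i ∈ s, Cfsg.IsGeneralizedCharacter G (f i)) :
    Cfsg.IsGeneralizedCharacter G (∑ i ∈ s, f i) := by
  classical
  induction s using Finset.induction_on with
  | empty => rw [Finset.sum_empty]; exact isGen_zero
  | insert a s ha ih =>
    rw [Finset.sum_insert ha]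
    exact isGen_add (h a (Finset.mem_insert_self a s))
      (ih (fun i hi => h i (Finset.mem_insert_of_mem hi)))

theorem isGen_indFun {G : Type*} [Group G] [Fintype G] (H : Subgroup G) {θ : H → ℂ}
    (h : Cfsg.IsGeneralizedCharacter H θ) : Cfsg.IsGeneralizedCharacter G (Cfsg.indFun H θ) := by
  obtain ⟨χ, ψ, hχ, hψ, rfl⟩ := h
  refine ⟨Cfsg.indFun H χ, Cfsg.indFun H ψ, isCharacter_indFun H χ hχ, isCharacter_indFun H ψ hψ, ?_⟩
  rw [← indLin_apply, ← indLin_apply, ← indLin_apply, map_sub]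

theorem isGen_mul_char {G : Type*} [Group G] {θ χ : G → ℂ} (h : Cfsg.IsGeneralizedCharacter G θ)
    (hχ : Cfsg.IsCharacter G χ) : Cfsg.IsGeneralizedCharacter G (θ * χ) := by
  obtain ⟨χ₁, ψ₁, hχ₁, hψ₁, rfl⟩ := h
  exact ⟨χ₁ * χ, ψ₁ * χ, isCharacter_mul hχ₁ hχ, isCharacter_mul hψ₁ hχ, by rw [sub_mul]⟩

/-! ### the Artin function -/

open Classical in
/-- `|A|` on generators of `A`, zero elsewhere -/
noncomputable def thetaFun (A : Type*) [Group A] : A → ℂ :=
  fun a => if Subgroup.zpowers a = ⊤ then (Nat.card A : ℂ) else 0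

theorem zpowers_eq_top_iff {G : Type*} [Group G] (H : Subgroup G) (h : H) :
    Subgroup.zpowers h = ⊤ ↔ Subgroup.zpowers (h : G) = H := by
  have h1 : (Subgroup.zpowers h).map H.subtype = Subgroup.zpowers (h : G) :=
    MonoidHom.map_zpowers H.subtype h
  have h2 : (⊤ : Subgroup H).map H.subtype = H := by
    rw [← MonoidHom.range_eq_map, Subgroup.range_subtype]
  constructor
  · intro h3
    rw [← h1, h3, h2]
  · intro h3
    apply Subgroup.map_injective H.subtype_injective
    rw [h1, h2, h3]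

open Classical in
theorem ind_theta_apply {G : Type*} [Group G] [Fintype G] (H : Subgroup G) (χ : G → ℂ)
    (hχ : Cfsg.IsClassFunction G χ) (g : G) :
    Cfsg.indFun H (fun h => thetaFun H h * χ h) g
      = ∑ x : G, if Subgroup.zpowers (x⁻¹ * g * x) = H then χ g else 0 := by
  rw [indFun_apply, Finset.mul_sum]
  apply Finset.sum_congr rfl
  intro x _
  have hH0 : (Nat.card H : ℂ) ≠ 0 := by exact_mod_cast Nat.card_pos.ne'
  have hcl : χ (x⁻¹ * g * x) = χ g := by
    have := hχ g x⁻¹
    rwa [inv_inv] at this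
  by_cases hy : x⁻¹ * g * x ∈ H
  · rw [extendByZero_mem' _ _ hy]
    show (Nat.card H : ℂ)⁻¹ * (thetaFun H ⟨x⁻¹ * g * x, hy⟩ * χ (x⁻¹ * g * x)) = _
    unfold thetaFun
    by_cases hz : Subgroup.zpowers (x⁻¹ * g * x) = H
    · rw [if_pos hz, if_pos ((zpowers_eq_top_iff H ⟨_, hy⟩).mpr hz), hcl, ← mul_assoc,
        inv_mul_cancel₀ hH0, one_mul]
    · rw [if_neg hz, if_neg (fun h => hz ((zpowers_eq_top_iff H ⟨_, hy⟩).mp h)), zero_mul, mul_zero]
  · rw [extendByZero_not_mem _ _ hy, mul_zero, if_neg]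
    intro hz
    apply hy
    rw [← hz]
    exact Subgroup.mem_zpowers _

/-- Artin's formula -/
theorem artin_sum {G : Type*} [Group G] [Fintype G] [Fintype (Subgroup G)] (χ : G → ℂ)
    (hχ : Cfsg.IsClassFunction G χ) :
    ∑ H : Subgroup G, Cfsg.indFun H (fun h => thetaFun H h * χ h) = (Nat.card G : ℂ) • χ := by
  classical
  funext g
  rw [Finset.sum_apply, Finset.sum_congr rfl (fun H _ => ind_theta_apply H χ hχ g), Finset.sum_comm]
  have h1 : ∀ x : G, ∑ H : Subgroup G, (if Subgroup.zpowers (x⁻¹ * g * x) = H then χ g else 0)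
      = χ g := by
    intro x
    rw [Finset.sum_ite_eq, if_pos (Finset.mem_univ _)]
  rw [Finset.sum_congr rfl (fun x _ => h1 x), Finset.sum_const, Finset.card_univ, nsmul_eq_mul,
    Pi.smul_apply, smul_eq_mul, Nat.card_eq_fintype_card]

/-- the Artin function is a generalized character -/
theorem thetaFun_isGen.{u} : ∀ (n : ℕ) (A : Type u) [Group A] [Fintype A], Nat.card A = n →
    Cfsg.IsGeneralizedCharacter A (thetaFun A) := by
  intro n
  induction n using Nat.strong_induction_on with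
  | _ n ih =>
    intro A _ _ hAn
    classical
    by_cases hc : IsCyclic A
    · haveI : Fintype (Subgroup A) := Fintype.ofFinite _
      have hcomm : ∀ a b : A, a * b = b * a := by
        obtain ⟨g, hg⟩ := IsCyclic.exists_generator (α := A)
        intro a b
        obtain ⟨i, rfl⟩ := Subgroup.mem_zpowers_iff.mp (hg a)
        obtain ⟨j, rfl⟩ := Subgroup.mem_zpowers_iff.mp (hg b)
        rw [← zpow_add, ← zpow_add, add_comm]
      have hone : Cfsg.IsClassFunction A (fun _ => (1 : ℂ)) := fun _ _ => rfl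
      have hsum := artin_sum (G := A) (fun _ => (1 : ℂ)) hone
      have htop : Cfsg.indFun (⊤ : Subgroup A) (fun h => thetaFun (⊤ : Subgroup A) h * 1)
          = thetaFun A := by
        funext g
        rw [ind_theta_apply (⊤ : Subgroup A) (fun _ => (1 : ℂ)) hone g]
        have h1 : ∀ x : A, x⁻¹ * g * x = g := by
          intro x
          rw [mul_assoc, hcomm g x, inv_mul_cancel_left]
        simp only [h1]
        rw [Finset.sum_const, Finset.card_univ, nsmul_eq_mul]
        unfold thetaFun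
        by_cases hz : Subgroup.zpowers g = ⊤
        · rw [if_pos hz, if_pos hz, mul_one, Nat.card_eq_fintype_card]
        · rw [if_neg hz, if_neg hz, mul_zero]
      rw [← Finset.add_sum_erase Finset.univ _ (Finset.mem_univ (⊤ : Subgroup A)), htop] at hsum
      have heq : thetaFun A = (Nat.card A : ℂ) • (fun _ : A => (1 : ℂ))
          - ∑ H ∈ Finset.univ.erase (⊤ : Subgroup A),
              Cfsg.indFun H (fun h => thetaFun H h * 1) := by
        rw [← hsum]; abel
      rw [heq]
      apply isGen_sub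
      · exact isGen_of_char (isCharacter_nsmul _ isCharacter_one)
      · apply isGen_sum
        intro H hH
        have hHne : H ≠ ⊤ := Finset.ne_of_mem_erase hH
        have hcard : Nat.card H < n := by
          rw [← hAn]
          have h1 := Subgroup.card_le_card_group H
          have h2 : Nat.card H ≠ Nat.card A := fun h => hHne (Subgroup.eq_top_of_card_eq H h)
          omega
        haveI : Fintype H := Fintype.ofFinite H
        have hgen := ih (Nat.card H) hcard H rfl
        have h3 : (fun h : H => thetaFun H h * 1) = thetaFun H := by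
          funext h; rw [mul_one]
        rw [h3]
        exact isGen_indFun H hgen
    · have h0 : thetaFun A = 0 := by
        funext a
        unfold thetaFun
        rw [if_neg]
        · rfl
        · intro h
          exact hc (isCyclic_iff_exists_zpowers_eq_top.mpr ⟨a, h⟩)
      rw [h0]
      exact isGen_zero

/-- a one-dimensional representation has a character that is a homomorphism to `ℂˣ` -/
theorem linear_of_finrank_one {G : Type*} [Group G] {V : Type*} [AddCommGroup V] [Module ℂ V]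
    [FiniteDimensional ℂ V] (ρ : Representation ℂ G V) (h : finrank ℂ V = 1) :
    ∃ lam : G →* ℂˣ, ρ.character = fun g => (lam g : ℂ) := by
  have hnt : Nontrivial V := Module.nontrivial_of_finrank_pos (R := ℂ) (by rw [h]; exact Nat.one_pos)
  have hone : (1 : Module.End ℂ V) ≠ 0 := by
    intro h0
    obtain ⟨v, hv⟩ := exists_ne (0 : V)
    apply hv
    have : (1 : Module.End ℂ V) v = (0 : Module.End ℂ V) v := by rw [h0]
    simpa using this
  have hsc : ∀ g : G, ρ g = ρ.character g • (1 : Module.End ℂ V) :=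
    fun g => end_eq_trace_smul_of_finrank_one h (ρ g)
  have hcinj : ∀ a b : ℂ, a • (1 : Module.End ℂ V) = b • (1 : Module.End ℂ V) → a = b :=
    fun a b h => smul_left_injective ℂ hone h
  let f : G →* ℂ :=
    { toFun := ρ.character
      map_one' := by
        apply hcinj
        rw [← hsc, map_one, one_smul]
      map_mul' := by
        intro a b
        apply hcinj
        rw [← hsc, map_mul, hsc a, hsc b, smul_mul_smul_comm, one_mul] }
  refine ⟨f.toHomUnits, ?_⟩
  funext g
  rw [MonoidHom.coe_toHomUnits]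
  rfl

/-- the generators of the Artin span -/
def artinGens (G : Type*) [Group G] [Fintype G] : Set (G → ℂ) :=
  {f | ∃ (A : Subgroup G) (lam : A →* ℂˣ), IsCyclic A ∧ f = Cfsg.indFun A (fun a => (lam a : ℂ))}

theorem artin_list_neg {G : Type*} [Group G] [Fintype G]
    (l : List ((A : Subgroup G) × ((A →* ℂˣ) × ℤ))) :
    ((l.map (fun t => (⟨t.1, (t.2.1, -t.2.2)⟩ : (A : Subgroup G) × ((A →* ℂˣ) × ℤ)))).map
      fun t => (t.2.2 : ℂ) • Cfsg.indFun t.1 (fun a => (t.2.1 a : ℂ))).sum
      = -(l.map fun t => (t.2.2 : ℂ) • Cfsg.indFun t.1 (fun a => (t.2.1 a : ℂ))).sum := by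
  induction l with
  | nil => simp
  | cons t l ih =>
    rw [List.map_cons, List.map_cons, List.sum_cons, ih, List.map_cons, List.sum_cons, neg_add]
    congr 1
    push_cast
    rw [neg_smul]

theorem artin_list_of_mem {G : Type*} [Group G] [Fintype G] {f : G → ℂ}
    (hf : f ∈ AddSubgroup.closure (artinGens G)) :
    ∃ l : List ((A : Subgroup G) × ((A →* ℂˣ) × ℤ)), (∀ t ∈ l, IsCyclic t.1) ∧
      f = (l.map fun t => (t.2.2 : ℂ) • Cfsg.indFun t.1 (fun a => (t.2.1 a : ℂ))).sum := by
  induction hf using AddSubgroup.closure_induction with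
  | mem x hx =>
    obtain ⟨A, lam, hA, rfl⟩ := hx
    refine ⟨[⟨A, (lam, 1)⟩], ?_, ?_⟩
    · intro t ht
      rw [List.mem_singleton] at ht
      rw [ht]
      exact hA
    · simp
  | zero => exact ⟨[], by simp, by simp⟩
  | add x y _ _ hx hy =>
    obtain ⟨l₁, h1, rfl⟩ := hx
    obtain ⟨l₂, h2, rfl⟩ := hy
    refine ⟨l₁ ++ l₂, ?_, ?_⟩
    · intro t ht
      rcases List.mem_append.mp ht with h | h
      · exact h1 t h
      · exact h2 t h
    · rw [List.map_append, List.sum_append]
  | neg x _ hx =>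
    obtain ⟨l, h1, rfl⟩ := hx
    refine ⟨l.map (fun t => (⟨t.1, (t.2.1, -t.2.2)⟩ : (A : Subgroup G) × ((A →* ℂˣ) × ℤ))), ?_, ?_⟩
    · intro t ht
      obtain ⟨t', ht', rfl⟩ := List.mem_map.mp ht
      exact h1 t' ht'
    · rw [artin_list_neg]

/-- **Artin's induction theorem** -/
theorem artin_induction {G : Type*} [Group G] [Fintype G] (χ : G → ℂ)
    (hχ : Cfsg.IsCharacter G χ) :
    ∃ l : List ((A : Subgroup G) × ((A →* ℂˣ) × ℤ)), (∀ t ∈ l, IsCyclic t.1) ∧
      (Nat.card G : ℂ) • χ
        = (l.map fun t => (t.2.2 : ℂ) • Cfsg.indFun t.1 (fun a => (t.2.1 a : ℂ))).sum := by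
  classical
  haveI : Fintype (Subgroup G) := Fintype.ofFinite _
  apply artin_list_of_mem
  rw [← artin_sum χ (isClassFunction_of_char hχ)]
  apply AddSubgroup.sum_mem
  intro A _
  haveI : Fintype A := Fintype.ofFinite A
  haveI : Fintype (Cfsg.IrrCharacter A) := Fintype.ofFinite _
  by_cases hc : IsCyclic A
  · have hgen : Cfsg.IsGeneralizedCharacter A (fun h : A => thetaFun A h * χ h) :=
      isGen_mul_char (thetaFun_isGen _ A rfl) (isCharacter_restrict A hχ)
    obtain ⟨χ₁, χ₂, hχ₁, hχ₂, heq⟩ := hgen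
    obtain ⟨m₁, hm₁⟩ := isCharacter_decomp hχ₁
    obtain ⟨m₂, hm₂⟩ := isCharacter_decomp hχ₂
    have hcomm : ∀ a b : A, a * b = b * a := by
      obtain ⟨g, hg⟩ := IsCyclic.exists_generator (α := A)
      intro a b
      obtain ⟨i, rfl⟩ := Subgroup.mem_zpowers_iff.mp (hg a)
      obtain ⟨j, rfl⟩ := Subgroup.mem_zpowers_iff.mp (hg b)
      rw [← zpow_add, ← zpow_add, add_comm]
    haveI : IsMulCommutative A := ⟨⟨hcomm⟩⟩
    have hlin : ∀ φ : Cfsg.IrrCharacter A, Cfsg.indFun A φ.1 ∈ AddSubgroup.closure (artinGens G) := by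
      intro φ
      obtain ⟨k, ρ, hρ, hρφ⟩ := φ.2
      have h1 : finrank ℂ (Fin k → ℂ) = 1 :=
        Representation.IsIrreducible.finrank_eq_one_of_isMulCommutative ρ
      obtain ⟨lam, hlam⟩ := linear_of_finrank_one ρ h1
      apply AddSubgroup.subset_closure
      refine ⟨A, lam, hc, ?_⟩
      rw [← hρφ, hlam]
    have hchar : ∀ m : Cfsg.IrrCharacter A → ℕ,
        Cfsg.indFun A (∑ φ, (m φ : ℂ) • φ.1) ∈ AddSubgroup.closure (artinGens G) := by
      intro m
      rw [← indLin_apply, map_sum]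
      apply AddSubgroup.sum_mem
      intro φ _
      rw [map_smul, indLin_apply, Nat.cast_smul_eq_nsmul]
      exact AddSubgroup.nsmul_mem _ (hlin φ) _
    rw [heq, ← indLin_apply, map_sub, indLin_apply, indLin_apply, hm₁, hm₂]
    exact AddSubgroup.sub_mem _ (hchar m₁) (hchar m₂)
  · have h0 : (fun h : A => thetaFun A h * χ h) = 0 := by
      funext a
      unfold thetaFun
      rw [if_neg, zero_mul]
      · rfl
      · intro h
        exact hc (isCyclic_iff_exists_zpowers_eq_top.mpr ⟨a, h⟩)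
    rw [h0, ← indLin_apply, map_zero]
    exact AddSubgroup.zero_mem _

end Cfsg.Agent.Lib.Lead
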