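import Mathlib
import Cfsg.Prelude.Def_Characters
import Cfsg.Agent.Lib.Lead.Char18

set_option autoImplicit false

namespace Cfsg.Agent.Lib.Lead

open Module Representation

theorem classInner_sub_left {G : Type*} [Group G] [Fintype G] (φ₁ φ₂ ψ : G → ℂ) :
    Cfsg.classInner (φ₁ - φ₂) ψ = Cfsg.classInner φ₁ ψ - Cfsg.classInner φ₂ ψ := by
  have h : φ₁ - φ₂ = φ₁ + (-1 : ℂ) • φ₂ := by rw [neg_one_smul, sub_eq_add_neg]
  rw [h, classInner_add_left, classInner_smul_left]; ring

theorem classInner_sub_right {G : Type*} [Group G] [Fintype G] (φ ψ₁ ψ₂ : G → ℂ) :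
    Cfsg.classInner φ (ψ₁ - ψ₂) = Cfsg.classInner φ ψ₁ - Cfsg.classInner φ ψ₂ := by
  have h : ψ₁ - ψ₂ = ψ₁ + (-1 : ℂ) • ψ₂ := by rw [neg_one_smul, sub_eq_add_neg]
  rw [h, classInner_add_right, classInner_smul_right, map_neg, map_one]; ring

theorem int_sq_eq_one {x : ℤ} (h0 : x ≠ 0) (h2 : x ^ 2 ≤ 2) : x ^ 2 = 1 := by
  have h1 : -1 ≤ x := by nlinarith
  have h3 : x ≤ 1 := by nlinarith
  interval_cases x <;> simp_all

theorem int_sq_sum_two {ι : Type*} [Fintype ι] [DecidableEq ι] (a : ι → ℤ)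
    (h : ∑ i, a i ^ 2 = 2) :
    ∃ p q, p ≠ q ∧ a p ^ 2 = 1 ∧ a q ^ 2 = 1 ∧ ∀ r, r ≠ p → r ≠ q → a r = 0 := by
  have hex : ∃ p, a p ≠ 0 := by
    by_contra hcon
    push Not at hcon
    simp [hcon] at h
  obtain ⟨p, hp⟩ := hex
  have h1 := Finset.add_sum_erase Finset.univ (fun i => a i ^ 2) (Finset.mem_univ p)
  rw [h] at h1
  have hnn : 0 ≤ ∑ i ∈ Finset.univ.erase p, a i ^ 2 := Finset.sum_nonneg (fun i _ => sq_nonneg _)
  have hp1 : a p ^ 2 = 1 := int_sq_eq_one hp (by linarith)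
  have h2 : ∑ i ∈ Finset.univ.erase p, a i ^ 2 = 1 := by linarith
  have hex2 : ∃ q ∈ Finset.univ.erase p, a q ≠ 0 := by
    by_contra hcon
    push Not at hcon
    rw [Finset.sum_eq_zero (fun i hi => by rw [hcon i hi]; rfl)] at h2
    exact absurd h2 (by norm_num)
  obtain ⟨q, hq, hq0⟩ := hex2
  have h3 := Finset.add_sum_erase (Finset.univ.erase p) (fun i => a i ^ 2) hq
  rw [h2] at h3
  have hnn2 : 0 ≤ ∑ i ∈ (Finset.univ.erase p).erase q, a i ^ 2 :=
    Finset.sum_nonneg (fun i _ => sq_nonneg _)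
  have hq1 : a q ^ 2 = 1 := int_sq_eq_one hq0 (by linarith)
  have h4 : ∑ i ∈ (Finset.univ.erase p).erase q, a i ^ 2 = 0 := by linarith
  refine ⟨p, q, (Finset.ne_of_mem_erase hq).symm, hp1, hq1, ?_⟩
  intro r hrp hrq
  have h5 := (Finset.sum_eq_zero_iff_of_nonneg (fun i _ => sq_nonneg (a i))).mp h4 r
    (Finset.mem_erase.mpr ⟨hrq, Finset.mem_erase.mpr ⟨hrp, Finset.mem_univ r⟩⟩)
  exact pow_eq_zero_iff (two_ne_zero) |>.mp h5

/-- a generalized character of norm 2 vanishing at 1 is a difference of two distinct irreducible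
characters -/
theorem gen_char_norm_two {G : Type*} [Group G] [Fintype G] (θ : G → ℂ)
    (hθ : Cfsg.IsGeneralizedCharacter G θ) (h2 : Cfsg.classInner θ θ = 2) (h1 : θ 1 = 0) :
    ∃ P Q : Cfsg.IrrCharacter G, P ≠ Q ∧ θ = P.1 - Q.1 := by
  classical
  haveI : Fintype (Cfsg.IrrCharacter G) := Fintype.ofFinite _
  obtain ⟨χ, ψ, hχ, hψ, rfl⟩ := hθ
  obtain ⟨m, hm⟩ := isCharacter_decomp hχ
  obtain ⟨m', hm'⟩ := isCharacter_decomp hψ
  let a : Cfsg.IrrCharacter G → ℤ := fun φ => (m φ : ℤ) - m' φ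
  have hθa : χ - ψ = ∑ φ, ((a φ : ℤ) : ℂ) • φ.1 := by
    rw [hm, hm', ← Finset.sum_sub_distrib]
    apply Finset.sum_congr rfl
    intro φ _
    rw [← sub_smul]
    congr 1
    simp [a]
  have hinner : Cfsg.classInner (χ - ψ) (χ - ψ) = ((∑ φ, a φ ^ 2 : ℤ) : ℂ) := by
    rw [hθa, classInner_sum_left]
    push_cast
    apply Finset.sum_congr rfl
    intro φ _
    rw [classInner_smul_left]
    have h3 : Cfsg.classInner φ.1 (∑ φ', ((a φ' : ℤ) : ℂ) • φ'.1) = (a φ : ℂ) := by
      rw [← classInner_conj_symm, classInner_nat_comb, map_intCast]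
    rw [h3]; ring
  rw [h2] at hinner
  have hsum : ∑ φ, a φ ^ 2 = 2 := by exact_mod_cast hinner.symm
  obtain ⟨p, q, hpq, hp1, hq1, hrest⟩ := int_sq_sum_two a hsum
  have hexp : χ - ψ = ((a p : ℤ) : ℂ) • p.1 + ((a q : ℤ) : ℂ) • q.1 := by
    rw [hθa]
    apply Fintype.sum_eq_add p q hpq
    intro r hr
    rw [hrest r hr.1 hr.2, Int.cast_zero, zero_smul]
  obtain ⟨dp, hdp, hdp'⟩ := irr_one_eq_nat p
  obtain ⟨dq, hdq, hdq'⟩ := irr_one_eq_nat q
  have hval : ((a p : ℤ) : ℂ) * (dp : ℂ) + ((a q : ℤ) : ℂ) * (dq : ℂ) = 0 := by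
    have := congrFun hexp 1
    rw [h1] at this
    simp only [Pi.add_apply, Pi.smul_apply, smul_eq_mul, hdp', hdq'] at this
    exact this.symm
  have hval' : a p * (dp : ℤ) + a q * (dq : ℤ) = 0 := by exact_mod_cast hval
  have hp' : a p = 1 ∨ a p = -1 := by
    have : (a p - 1) * (a p + 1) = 0 := by ring_nf; linarith
    rcases mul_eq_zero.mp this with h | h
    · left; linarith
    · right; linarith
  have hq' : a q = 1 ∨ a q = -1 := by
    have : (a q - 1) * (a q + 1) = 0 := by ring_nf; linarith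
    rcases mul_eq_zero.mp this with h | h
    · left; linarith
    · right; linarith
  have hdp'' : (0 : ℤ) < dp := by exact_mod_cast hdp
  have hdq'' : (0 : ℤ) < dq := by exact_mod_cast hdq
  rcases hp' with hp' | hp' <;> rcases hq' with hq' | hq'
  · rw [hp', hq'] at hval'; exfalso; linarith
  · refine ⟨p, q, hpq, ?_⟩
    rw [hexp, hp', hq']
    push_cast
    rw [one_smul, neg_one_smul, sub_eq_add_neg]
  · refine ⟨q, p, hpq.symm, ?_⟩
    rw [hexp, hp', hq']
    push_cast
    rw [one_smul, neg_one_smul, sub_eq_add_neg, add_comm]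
  · rw [hp', hq'] at hval'; exfalso; linarith

/-- the Gram matrix lemma behind exceptional characters -/
theorem gram_lemma {G : Type*} [Group G] [Fintype G] (n : ℕ) (i₀ : Fin n) (τ : Fin n → (G → ℂ))
    (h0 : τ i₀ = 0) (hgen : ∀ i, Cfsg.IsGeneralizedCharacter G (τ i)) (hone : ∀ i, τ i 1 = 0)
    (hgram : ∀ i j, i ≠ i₀ → j ≠ i₀ → Cfsg.classInner (τ i) (τ j) = if i = j then 2 else 1) :
    ∃ ε : ℂ, (ε = 1 ∨ ε = -1) ∧ ∃ μ : Fin n → (G → ℂ), (∀ i, Cfsg.IsIrrCharacter G (μ i)) ∧
      Function.Injective μ ∧ ∀ i, τ i = ε • (μ i - μ i₀) := by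
  classical
  have hex : ∀ i, ∃ P Q : Cfsg.IrrCharacter G, i ≠ i₀ → (P ≠ Q ∧ τ i = P.1 - Q.1) := by
    intro i
    by_cases hi : i = i₀
    · exact ⟨irrOne G, irrOne G, fun h => absurd hi h⟩
    · obtain ⟨P, Q, h1, h2⟩ := gen_char_norm_two (τ i) (hgen i)
        (by rw [hgram i i hi hi, if_pos rfl]) (hone i)
      exact ⟨P, Q, fun _ => ⟨h1, h2⟩⟩
  choose P Q hPQ using hex
  have key : ∀ i j, i ≠ i₀ → j ≠ i₀ → i ≠ j →
      (P i = P j ∧ Q i ≠ Q j) ∨ (P i ≠ P j ∧ Q i = Q j) := by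
    intro i j hi hj hij
    have h := hgram i j hi hj
    rw [if_neg hij, (hPQ i hi).2, (hPQ j hj).2, classInner_sub_left, classInner_sub_right,
      classInner_sub_right] at h
    simp only [irr_inner] at h
    have hi' := (hPQ i hi).1
    have hj' := (hPQ j hj).1
    by_cases e1 : P i = P j
    · left
      refine ⟨e1, ?_⟩
      intro e2
      have e3 : P i ≠ Q j := fun h3 => hj' (e1 ▸ h3)
      have e4 : Q i ≠ P j := fun h4 => hi' (e1.trans h4.symm)
      rw [if_pos e1, if_pos e2, if_neg e3, if_neg e4] at h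
      norm_num at h
    · right
      refine ⟨e1, ?_⟩
      by_contra e2
      rw [if_neg e1, if_neg e2] at h
      split_ifs at h <;> norm_num at h
  have hdich : (∀ i j, i ≠ i₀ → j ≠ i₀ → P i = P j) ∨
      (∃ i, i ≠ i₀ ∧ ∀ k, k ≠ i₀ → Q k = Q i) := by
    by_cases hall : ∀ i j, i ≠ i₀ → j ≠ i₀ → P i = P j
    · left; exact hall
    · right
      push Not at hall
      obtain ⟨i, j, hi, hj, hne⟩ := hall
      have hij : i ≠ j := fun h => hne (h ▸ rfl)
      have hQ : Q i = Q j := by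
        rcases key i j hi hj hij with ⟨h1, _⟩ | ⟨_, h2⟩
        · exact absurd h1 hne
        · exact h2
      refine ⟨i, hi, ?_⟩
      intro k hk
      by_contra hkQ
      have hki : k ≠ i := fun h => hkQ (h ▸ rfl)
      have hkj : k ≠ j := fun h => hkQ (by rw [h, hQ])
      have h1 : P k = P i := by
        rcases key k i hk hi hki with ⟨h1, _⟩ | ⟨_, h2⟩
        · exact h1
        · exact absurd h2 hkQ
      have h2 : P k = P j := by
        rcases key k j hk hj hkj with ⟨h1, _⟩ | ⟨_, h2⟩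
        · exact h1
        · exact absurd (h2.trans hQ.symm) hkQ
      exact hne (h1.symm.trans h2)
  rcases hdich with hall | ⟨i₁, hi₁, hall⟩
  · by_cases hI : ∃ i₁, i₁ ≠ i₀
    · obtain ⟨i₁, hi₁⟩ := hI
      refine ⟨-1, Or.inr rfl, fun i => if i = i₀ then (P i₁).1 else (Q i).1, ?_, ?_, ?_⟩
      · intro i
        show Cfsg.IsIrrCharacter G (if i = i₀ then (P i₁).1 else (Q i).1)
        split_ifs
        · exact (P i₁).2
        · exact (Q i).2
      · intro i j hij
        have hij' : (if i = i₀ then (P i₁).1 else (Q i).1)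
            = (if j = i₀ then (P i₁).1 else (Q j).1) := hij
        by_cases hi : i = i₀ <;> by_cases hj : j = i₀
        · rw [hi, hj]
        · exfalso
          rw [if_pos hi, if_neg hj] at hij'
          have h1 : P i₁ = Q j := Subtype.ext hij'
          exact (hPQ j hj).1 ((hall j i₁ hj hi₁).trans h1)
        · exfalso
          rw [if_neg hi, if_pos hj] at hij'
          have h1 : Q i = P i₁ := Subtype.ext hij'
          exact (hPQ i hi).1 ((hall i i₁ hi hi₁).trans h1.symm)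
        · rw [if_neg hi, if_neg hj] at hij'
          have h1 : Q i = Q j := Subtype.ext hij'
          by_contra hne
          rcases key i j hi hj hne with ⟨_, h2⟩ | ⟨h2, _⟩
          · exact h2 h1
          · exact h2 (hall i j hi hj)
      · intro i
        show τ i = (-1 : ℂ) • ((if i = i₀ then (P i₁).1 else (Q i).1)
          - (if i₀ = i₀ then (P i₁).1 else (Q i₀).1))
        rw [if_pos (rfl : i₀ = i₀)]
        by_cases hi : i = i₀
        · rw [if_pos hi, hi, h0, sub_self, smul_zero]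
        · rw [if_neg hi, (hPQ i hi).2, hall i i₁ hi hi₁, neg_one_smul, neg_sub]
    · push Not at hI
      refine ⟨1, Or.inl rfl, fun _ => (irrOne G).1, fun _ => (irrOne G).2, ?_, ?_⟩
      · intro i j _
        rw [hI i, hI j]
      · intro i
        rw [hI i, h0]
        simp
  · refine ⟨1, Or.inl rfl, fun i => if i = i₀ then (Q i₁).1 else (P i).1, ?_, ?_, ?_⟩
    · intro i
      show Cfsg.IsIrrCharacter G (if i = i₀ then (Q i₁).1 else (P i).1)
      split_ifs
      · exact (Q i₁).2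
      · exact (P i).2
    · intro i j hij
      have hij' : (if i = i₀ then (Q i₁).1 else (P i).1)
          = (if j = i₀ then (Q i₁).1 else (P j).1) := hij
      by_cases hi : i = i₀ <;> by_cases hj : j = i₀
      · rw [hi, hj]
      · exfalso
        rw [if_pos hi, if_neg hj] at hij'
        have h1 : Q i₁ = P j := Subtype.ext hij'
        exact (hPQ j hj).1 (h1.symm.trans (hall j hj).symm)
      · exfalso
        rw [if_neg hi, if_pos hj] at hij'
        have h1 : P i = Q i₁ := Subtype.ext hij'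
        exact (hPQ i hi).1 (h1.trans (hall i hi).symm)
      · rw [if_neg hi, if_neg hj] at hij'
        have h1 : P i = P j := Subtype.ext hij'
        by_contra hne
        rcases key i j hi hj hne with ⟨_, h2⟩ | ⟨h2, _⟩
        · exact h2 ((hall i hi).trans (hall j hj).symm)
        · exact h2 h1
    · intro i
      show τ i = (1 : ℂ) • ((if i = i₀ then (Q i₁).1 else (P i).1)
        - (if i₀ = i₀ then (Q i₁).1 else (P i₀).1))
      rw [if_pos (rfl : i₀ = i₀), one_smul]
      by_cases hi : i = i₀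
      · rw [if_pos hi, hi, h0, sub_self]
      · rw [if_neg hi, (hPQ i hi).2, hall i hi]

end Cfsg.Agent.Lib.Lead
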