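import Mathlib
import Cfsg.Prelude.Def_Blocks

set_option autoImplicit false

namespace Cfsg.Agent.Lib.Lead

section localring

variable {M : Ideal Cfsg.AlgInt}

theorem blk_one_notMem (hM : M.IsMaximal) : (1 : Cfsg.AlgInt) ∉ M := by
  intro h
  exact hM.ne_top ((Ideal.eq_top_iff_one M).mpr h)

theorem blk_coe_ne_zero {b : Cfsg.AlgInt} (hb : b ∉ M) : (b : ℂ) ≠ 0 := by
  intro h
  apply hb
  have : b = 0 := Subtype.ext h
  rw [this]
  exact M.zero_mem

theorem mlr_algInt (hM : M.IsMaximal) (a : Cfsg.AlgInt) : Cfsg.MemLocalRing M (a : ℂ) := by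
  refine ⟨a, 1, blk_one_notMem hM, ?_⟩
  simp

theorem mlr_of_integral (hM : M.IsMaximal) {z : ℂ} (hz : IsIntegral ℤ z) :
    Cfsg.MemLocalRing M z :=
  mlr_algInt hM ⟨z, hz⟩

theorem mlr_zero (hM : M.IsMaximal) : Cfsg.MemLocalRing M 0 := by
  have := mlr_algInt hM 0
  simpa using this

theorem mlr_one (hM : M.IsMaximal) : Cfsg.MemLocalRing M 1 := by
  have := mlr_algInt hM 1
  simpa using this

theorem mlr_natCast (hM : M.IsMaximal) (n : ℕ) : Cfsg.MemLocalRing M (n : ℂ) := by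
  have := mlr_algInt hM (n : Cfsg.AlgInt)
  simpa using this

theorem mlr_add (hM : M.IsMaximal) {x y : ℂ} (hx : Cfsg.MemLocalRing M x)
    (hy : Cfsg.MemLocalRing M y) : Cfsg.MemLocalRing M (x + y) := by
  obtain ⟨a, b, hb, rfl⟩ := hx
  obtain ⟨c, d, hd, rfl⟩ := hy
  have hprime := hM.isPrime
  have hb0 := blk_coe_ne_zero hb
  have hd0 := blk_coe_ne_zero hd
  refine ⟨a * d + c * b, b * d, ?_, ?_⟩
  · intro h
    rcases hprime.mem_or_mem h with h | h
    · exact hb h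
    · exact hd h
  · push_cast
    field_simp

theorem mlr_mul (hM : M.IsMaximal) {x y : ℂ} (hx : Cfsg.MemLocalRing M x)
    (hy : Cfsg.MemLocalRing M y) : Cfsg.MemLocalRing M (x * y) := by
  obtain ⟨a, b, hb, rfl⟩ := hx
  obtain ⟨c, d, hd, rfl⟩ := hy
  have hprime := hM.isPrime
  have hb0 := blk_coe_ne_zero hb
  have hd0 := blk_coe_ne_zero hd
  refine ⟨a * c, b * d, ?_, ?_⟩
  · intro h
    rcases hprime.mem_or_mem h with h | h
    · exact hb h
    · exact hd h
  · push_cast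
    field_simp

theorem mlr_neg {x : ℂ} (hx : Cfsg.MemLocalRing M x) : Cfsg.MemLocalRing M (-x) := by
  obtain ⟨a, b, hb, rfl⟩ := hx
  refine ⟨-a, b, hb, ?_⟩
  push_cast
  ring

theorem mlr_sub (hM : M.IsMaximal) {x y : ℂ} (hx : Cfsg.MemLocalRing M x)
    (hy : Cfsg.MemLocalRing M y) : Cfsg.MemLocalRing M (x - y) := by
  rw [sub_eq_add_neg]
  exact mlr_add hM hx (mlr_neg hy)

theorem mlr_sum (hM : M.IsMaximal) {ι : Type*} (s : Finset ι) (f : ι → ℂ)
    (h : ∀ i ∈ s, Cfsg.MemLocalRing M (f i)) : Cfsg.MemLocalRing M (∑ i ∈ s, f i) := by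
  classical
  induction s using Finset.induction_on with
  | empty => simpa using mlr_zero hM
  | insert a s ha ih =>
    rw [Finset.sum_insert ha]
    exact mlr_add hM (h a (Finset.mem_insert_self a s))
      (ih (fun i hi => h i (Finset.mem_insert_of_mem hi)))

theorem mlr_prod (hM : M.IsMaximal) {ι : Type*} (s : Finset ι) (f : ι → ℂ)
    (h : ∀ i ∈ s, Cfsg.MemLocalRing M (f i)) : Cfsg.MemLocalRing M (∏ i ∈ s, f i) := by
  classical
  induction s using Finset.induction_on with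
  | empty => simpa using mlr_one hM
  | insert a s ha ih =>
    rw [Finset.prod_insert ha]
    exact mlr_mul hM (h a (Finset.mem_insert_self a s))
      (ih (fun i hi => h i (Finset.mem_insert_of_mem hi)))

theorem mli_mlr {z : ℂ} (h : Cfsg.MemLocalIdeal M z) : Cfsg.MemLocalRing M z := by
  obtain ⟨a, b, _, hb, h⟩ := h
  exact ⟨a, b, hb, h⟩

theorem mli_of_mem (hM : M.IsMaximal) {a : Cfsg.AlgInt} (ha : a ∈ M) :
    Cfsg.MemLocalIdeal M (a : ℂ) := by
  refine ⟨a, 1, ha, blk_one_notMem hM, ?_⟩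
  simp

theorem mli_zero (hM : M.IsMaximal) : Cfsg.MemLocalIdeal M 0 := by
  have := mli_of_mem hM M.zero_mem
  simpa using this

theorem mli_add (hM : M.IsMaximal) {x y : ℂ} (hx : Cfsg.MemLocalIdeal M x)
    (hy : Cfsg.MemLocalIdeal M y) : Cfsg.MemLocalIdeal M (x + y) := by
  obtain ⟨a, b, ha, hb, rfl⟩ := hx
  obtain ⟨c, d, hc, hd, rfl⟩ := hy
  have hprime := hM.isPrime
  have hb0 := blk_coe_ne_zero hb
  have hd0 := blk_coe_ne_zero hd
  refine ⟨a * d + c * b, b * d, ?_, ?_, ?_⟩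
  · exact M.add_mem (M.mul_mem_right d ha) (M.mul_mem_right b hc)
  · intro h
    rcases hprime.mem_or_mem h with h | h
    · exact hb h
    · exact hd h
  · push_cast
    field_simp

theorem mli_mul (hM : M.IsMaximal) {x y : ℂ} (hx : Cfsg.MemLocalRing M x)
    (hy : Cfsg.MemLocalIdeal M y) : Cfsg.MemLocalIdeal M (x * y) := by
  obtain ⟨a, b, hb, rfl⟩ := hx
  obtain ⟨c, d, hc, hd, rfl⟩ := hy
  have hprime := hM.isPrime
  have hb0 := blk_coe_ne_zero hb
  have hd0 := blk_coe_ne_zero hd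
  refine ⟨a * c, b * d, ?_, ?_, ?_⟩
  · exact M.mul_mem_left a hc
  · intro h
    rcases hprime.mem_or_mem h with h | h
    · exact hb h
    · exact hd h
  · push_cast
    field_simp

theorem mli_neg {x : ℂ} (hx : Cfsg.MemLocalIdeal M x) : Cfsg.MemLocalIdeal M (-x) := by
  obtain ⟨a, b, ha, hb, rfl⟩ := hx
  refine ⟨-a, b, M.neg_mem ha, hb, ?_⟩
  push_cast
  ring

theorem mli_sub (hM : M.IsMaximal) {x y : ℂ} (hx : Cfsg.MemLocalIdeal M x)
    (hy : Cfsg.MemLocalIdeal M y) : Cfsg.MemLocalIdeal M (x - y) := by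
  rw [sub_eq_add_neg]
  exact mli_add hM hx (mli_neg hy)

theorem mli_sum (hM : M.IsMaximal) {ι : Type*} (s : Finset ι) (f : ι → ℂ)
    (h : ∀ i ∈ s, Cfsg.MemLocalIdeal M (f i)) : Cfsg.MemLocalIdeal M (∑ i ∈ s, f i) := by
  classical
  induction s using Finset.induction_on with
  | empty => simpa using mli_zero hM
  | insert a s ha ih =>
    rw [Finset.sum_insert ha]
    exact mli_add hM (h a (Finset.mem_insert_self a s))
      (ih (fun i hi => h i (Finset.mem_insert_of_mem hi)))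

theorem not_mli_one (hM : M.IsMaximal) : ¬ Cfsg.MemLocalIdeal M 1 := by
  rintro ⟨a, b, ha, hb, h⟩
  have hb0 := blk_coe_ne_zero hb
  have h1 : (a : ℂ) = (b : ℂ) := by
    field_simp at h
    exact h
  have h2 : a = b := Subtype.ext h1
  exact hb (h2 ▸ ha)

theorem mlr_inv {z : ℂ} (hz : Cfsg.MemLocalRing M z) (hz' : ¬ Cfsg.MemLocalIdeal M z) :
    Cfsg.MemLocalRing M z⁻¹ := by
  obtain ⟨a, b, hb, rfl⟩ := hz
  have ha : a ∉ M := fun ha => hz' ⟨a, b, ha, hb, rfl⟩
  exact ⟨b, a, ha, by rw [inv_div]⟩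

theorem mli_prime (hM : M.IsMaximal) {x y : ℂ} (hx : Cfsg.MemLocalRing M x)
    (hy : Cfsg.MemLocalRing M y) (h : Cfsg.MemLocalIdeal M (x * y)) :
    Cfsg.MemLocalIdeal M x ∨ Cfsg.MemLocalIdeal M y := by
  obtain ⟨a, b, hb, rfl⟩ := hx
  obtain ⟨c, d, hd, rfl⟩ := hy
  obtain ⟨e, f, he, hf, h⟩ := h
  have hprime := hM.isPrime
  have hb0 := blk_coe_ne_zero hb
  have hd0 := blk_coe_ne_zero hd
  have hf0 := blk_coe_ne_zero hf
  have h1 : (a : ℂ) * c * f = e * b * d := by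
    field_simp at h
    linear_combination -h
  have h2 : a * c * f = e * b * d := Subtype.ext (by push_cast; exact h1)
  have h3 : a * c * f ∈ M := by
    rw [h2]
    exact M.mul_mem_right d (M.mul_mem_right b he)
  rcases hprime.mem_or_mem h3 with h4 | h4
  · rcases hprime.mem_or_mem h4 with h5 | h5
    · exact Or.inl ⟨a, b, h5, hb, rfl⟩
    · exact Or.inr ⟨c, d, h5, hd, rfl⟩
  · exact absurd h4 hf

theorem not_mli_prod (hM : M.IsMaximal) {ι : Type*} (s : Finset ι) (f : ι → ℂ)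
    (h1 : ∀ i ∈ s, Cfsg.MemLocalRing M (f i)) (h2 : ∀ i ∈ s, ¬ Cfsg.MemLocalIdeal M (f i)) :
    ¬ Cfsg.MemLocalIdeal M (∏ i ∈ s, f i) := by
  classical
  induction s using Finset.induction_on with
  | empty => simpa using not_mli_one hM
  | insert a s ha ih =>
    rw [Finset.prod_insert ha]
    intro h
    rcases mli_prime hM (h1 a (Finset.mem_insert_self a s))
      (mlr_prod hM s f (fun i hi => h1 i (Finset.mem_insert_of_mem hi))) h with h3 | h3
    · exact h2 a (Finset.mem_insert_self a s) h3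
    · exact ih (fun i hi => h1 i (Finset.mem_insert_of_mem hi))
        (fun i hi => h2 i (Finset.mem_insert_of_mem hi)) h3

/-- if `x ≡ y` and `x ∉ P` then `y ∉ P` -/
theorem not_mli_of_sub (hM : M.IsMaximal) {x y : ℂ} (hxy : Cfsg.MemLocalIdeal M (x - y))
    (hx : ¬ Cfsg.MemLocalIdeal M x) : ¬ Cfsg.MemLocalIdeal M y := by
  intro hy
  apply hx
  have := mli_add hM hxy hy
  simpa using this

theorem mli_natCast_of_dvd {p : ℕ} (hM : Cfsg.IsPModular p M) {n : ℕ} (h : p ∣ n) :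
    Cfsg.MemLocalIdeal M (n : ℂ) := by
  obtain ⟨hp, hmax, hpM⟩ := hM
  obtain ⟨k, rfl⟩ := h
  have h1 : ((p * k : ℕ) : Cfsg.AlgInt) ∈ M := by
    push_cast
    exact M.mul_mem_right _ hpM
  have := mli_of_mem hmax h1
  simpa using this

theorem not_mli_natCast {p : ℕ} (hM : Cfsg.IsPModular p M) {n : ℕ} (h : ¬ p ∣ n) :
    ¬ Cfsg.MemLocalIdeal M (n : ℂ) := by
  obtain ⟨hp, hmax, hpM⟩ := hM
  rintro ⟨a, b, ha, hb, hab⟩
  have hprime := hmax.isPrime
  have hb0 := blk_coe_ne_zero hb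
  have h1 : (a : ℂ) = (n : ℂ) * b := by
    field_simp at hab
    linear_combination hab
  have h2 : a = (n : Cfsg.AlgInt) * b := Subtype.ext (by push_cast; exact h1)
  have h3 : (n : Cfsg.AlgInt) ∈ M := by
    rw [h2] at ha
    rcases hprime.mem_or_mem ha with h | h
    · exact h
    · exact absurd h hb
  have hcop : Nat.Coprime p n := (Nat.Prime.coprime_iff_not_dvd hp).mpr h
  obtain ⟨u, v, huv⟩ := Nat.isCoprime_iff_coprime.mpr hcop
  have h4 : (u : Cfsg.AlgInt) * (p : Cfsg.AlgInt) + (v : Cfsg.AlgInt) * (n : Cfsg.AlgInt) = 1 := by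
    exact_mod_cast congrArg (Int.cast : ℤ → Cfsg.AlgInt) huv
  apply blk_one_notMem hmax
  rw [← h4]
  exact M.add_mem (M.mul_mem_left _ hpM) (M.mul_mem_left _ h3)

end localring

end Cfsg.Agent.Lib.Lead
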