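import Mathlib
import Cfsg.Prelude.Def_Blocks
import Cfsg.Agent.Lib.Lead.Char14
import Cfsg.Agent.Lib.Lead.Block1

set_option autoImplicit false

namespace Cfsg.Agent.Lib.Lead

open scoped ComplexConjugate
open Module

section spectral

variable {G : Type*} [Group G] [Fintype G]

/-- the central character functional: `Om χ c = (∑ c g χ g) / χ 1` -/
noncomputable def Om (χ : G → ℂ) (c : G → ℂ) : ℂ := (∑ g : G, c g * χ g) / χ 1

/-- convolution -/
noncomputable def cconv (c d : G → ℂ) : G → ℂ := fun x => ∑ g : G, c g * d (g⁻¹ * x)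

theorem Top_cconv {V : Type*} [AddCommGroup V] [Module ℂ V] (c d : G → ℂ)
    (ρ : Representation ℂ G V) : Top (cconv c d) ρ = Top c ρ * Top d ρ := by
  unfold Top cconv
  rw [Finset.sum_mul]
  simp_rw [Finset.sum_smul]
  rw [Finset.sum_comm]
  apply Finset.sum_congr rfl
  intro g _
  rw [Finset.mul_sum]
  apply Fintype.sum_equiv (Equiv.mulLeft g⁻¹)
  intro x
  simp only [Equiv.coe_mulLeft]
  rw [smul_mul_smul_comm, ← map_mul]
  congr 2
  group

theorem cconv_classFn {c d : G → ℂ} (hc : Cfsg.IsClassFunction G c)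
    (hd : Cfsg.IsClassFunction G d) : Cfsg.IsClassFunction G (cconv c d) := by
  intro x k
  unfold cconv
  apply Fintype.sum_equiv (MulAut.conj k⁻¹).toEquiv
  intro g
  simp only [MulEquiv.toEquiv_eq_coe, EquivLike.coe_coe, MulAut.conj_apply, inv_inv]
  have h1 : c (k⁻¹ * g * k) = c g := by
    have := hc g k⁻¹
    rwa [inv_inv] at this
  have h2 : d ((k⁻¹ * g * k)⁻¹ * x) = d (g⁻¹ * (k * x * k⁻¹)) := by
    have := hd ((k⁻¹ * g * k)⁻¹ * x) k
    rw [← this]
    congr 1
    group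
  rw [h1, h2]

theorem Om_cconv (χ : Cfsg.IrrCharacter G) {c d : G → ℂ} (hc : Cfsg.IsClassFunction G c)
    (hd : Cfsg.IsClassFunction G d) : Om χ.1 (cconv c d) = Om χ.1 c * Om χ.1 d := by
  obtain ⟨n, ρ, hρ, hρχ⟩ := χ.2
  haveI := hρ
  obtain ⟨a, ha, ha2⟩ := Top_irr c hc ρ
  obtain ⟨b, hb, hb2⟩ := Top_irr d hd ρ
  have hV : Nontrivial (Fin n → ℂ) := ((irr_iff ρ).mp hρ).1
  have hfr : (finrank ℂ (Fin n → ℂ) : ℂ) ≠ 0 := by
    have : 0 < finrank ℂ (Fin n → ℂ) := Module.finrank_pos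
    exact_mod_cast this.ne'
  have h3 := Top_trace (cconv c d) ρ
  rw [Top_cconv, ha, hb, smul_mul_smul_comm, mul_one, map_smul, LinearMap.trace_one,
    smul_eq_mul] at h3
  unfold Om
  rw [← hρχ, ← ha2, ← hb2, ← h3, Representation.char_one]
  field_simp

theorem Om_add (χ : G → ℂ) (c d : G → ℂ) :
    Om χ (fun x => c x + d x) = Om χ c + Om χ d := by
  unfold Om
  rw [← add_div, ← Finset.sum_add_distrib]
  congr 1
  apply Finset.sum_congr rfl
  intro g _
  ring

theorem Om_smul (χ : G → ℂ) (a : ℂ) (c : G → ℂ) :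
    Om χ (fun x => a * c x) = a * Om χ c := by
  unfold Om
  rw [← mul_div_assoc, Finset.mul_sum]
  congr 1
  apply Finset.sum_congr rfl
  intro g _
  ring

theorem Om_sub (χ : G → ℂ) (c d : G → ℂ) :
    Om χ (fun x => c x - d x) = Om χ c - Om χ d := by
  unfold Om
  rw [← sub_div, ← Finset.sum_sub_distrib]
  congr 1
  apply Finset.sum_congr rfl
  intro g _
  ring

theorem Om_delta [DecidableEq G] (χ : G → ℂ) (hχ : χ 1 ≠ 0) (a : ℂ) :
    Om χ (fun x => if x = 1 then a else 0) = a := by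
  unfold Om
  rw [Finset.sum_eq_single 1]
  · show (if (1 : G) = 1 then a else 0) * χ 1 / χ 1 = a
    rw [if_pos rfl]
    field_simp
  · intro b _ hb
    show (if b = 1 then a else 0) * χ b = 0
    rw [if_neg hb, zero_mul]
  · intro h
    exact absurd (Finset.mem_univ _) h

theorem Om_classInd (χ : Cfsg.IrrCharacter G) (g : G) [∀ x, Decidable (IsConj g x)] :
    Om χ.1 (fun x => if IsConj g x then (1 : ℂ) else 0) = Cfsg.centralChar χ.1 g := by
  unfold Om Cfsg.centralChar
  rw [sum_conjInd_mul g χ.1 (isClassFunction_of_irr χ)]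

theorem isClassFunction_delta [DecidableEq G] (a : ℂ) :
    Cfsg.IsClassFunction G (fun x => if x = 1 then a else 0) := by
  intro x k
  have : k * x * k⁻¹ = 1 ↔ x = 1 := by
    constructor
    · intro h
      have h2 : x = k⁻¹ * (k * x * k⁻¹) * k := by group
      rw [h2, h]
      group
    · intro h
      rw [h]
      group
  simp only [this]

/-- the class function with prescribed spectral vector -/
theorem Om_expand [Fintype (Cfsg.IrrCharacter G)] (t : Cfsg.IrrCharacter G → ℂ)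
    (χ : Cfsg.IrrCharacter G) :
    Om χ.1 (fun g => (Nat.card G : ℂ)⁻¹ *
      ∑ θ : Cfsg.IrrCharacter G, θ.1 1 * conj (θ.1 g) * t θ) = t χ := by
  classical
  unfold Om
  have hχ1 := irr_deg_ne_zero χ
  have h1 : ∑ g : G, ((Nat.card G : ℂ)⁻¹ *
      ∑ θ : Cfsg.IrrCharacter G, θ.1 1 * conj (θ.1 g) * t θ) * χ.1 g
      = ∑ θ : Cfsg.IrrCharacter G, θ.1 1 * t θ * Cfsg.classInner χ.1 θ.1 := by
    unfold Cfsg.classInner
    simp_rw [Finset.mul_sum, Finset.sum_mul]
    rw [Finset.sum_comm]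
    apply Finset.sum_congr rfl
    intro θ _
    apply Finset.sum_congr rfl
    intro g _
    ring
  rw [h1]
  simp_rw [irr_inner]
  rw [Finset.sum_eq_single χ]
  · rw [if_pos rfl]
    field_simp
  · intro b _ hb
    rw [if_neg (Ne.symm hb), mul_zero]
  · intro h
    exact absurd (Finset.mem_univ _) h

theorem isClassFunction_expand [Fintype (Cfsg.IrrCharacter G)] (t : Cfsg.IrrCharacter G → ℂ) :
    Cfsg.IsClassFunction G (fun g => (Nat.card G : ℂ)⁻¹ *
      ∑ θ : Cfsg.IrrCharacter G, θ.1 1 * conj (θ.1 g) * t θ) := by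
  intro x k
  show (Nat.card G : ℂ)⁻¹ * ∑ θ : Cfsg.IrrCharacter G, θ.1 1 * conj (θ.1 (k * x * k⁻¹)) * t θ
    = (Nat.card G : ℂ)⁻¹ * ∑ θ : Cfsg.IrrCharacter G, θ.1 1 * conj (θ.1 x) * t θ
  congr 1
  apply Finset.sum_congr rfl
  intro θ _
  rw [isClassFunction_of_irr θ x k]

/-- inversion: a class function is determined by its spectral vector -/
theorem Om_inv [Fintype (Cfsg.IrrCharacter G)] {c : G → ℂ} (hc : Cfsg.IsClassFunction G c)
    (g : G) :
    c g = (Nat.card G : ℂ)⁻¹ *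
      ∑ χ : Cfsg.IrrCharacter G, χ.1 1 * conj (χ.1 g) * Om χ.1 c := by
  classical
  have h1 : ∀ χ : Cfsg.IrrCharacter G, χ.1 1 * conj (χ.1 g) * Om χ.1 c
      = ∑ h : G, c h * (χ.1 h * conj (χ.1 g)) := by
    intro χ
    have hχ1 := irr_deg_ne_zero χ
    unfold Om
    rw [mul_comm (χ.1 1), mul_assoc, mul_div_cancel₀ _ hχ1, Finset.mul_sum]
    apply Finset.sum_congr rfl
    intro h _
    ring
  rw [Finset.sum_congr rfl (fun χ _ => h1 χ), Finset.sum_comm]
  simp_rw [← Finset.mul_sum]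
  have h2 : ∀ h : G, ∑ χ : Cfsg.IrrCharacter G, χ.1 h * conj (χ.1 g)
      = if IsConj g h then (Nat.card (Subgroup.centralizer ({g} : Set G)) : ℂ) else 0 := by
    intro h
    have h3 := col_orth' g h
    have h4 : ∑ χ : Cfsg.IrrCharacter G, χ.1 h * conj (χ.1 g)
        = conj (∑ χ : Cfsg.IrrCharacter G, χ.1 g * conj (χ.1 h)) := by
      rw [map_sum]
      apply Finset.sum_congr rfl
      intro χ _
      rw [map_mul, Complex.conj_conj, mul_comm]
    rw [h4, h3]
    split_ifs
    · rw [Complex.conj_natCast]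
    · rw [map_zero]
  simp_rw [h2]
  have h5 : ∑ h : G, c h * (if IsConj g h then
      (Nat.card (Subgroup.centralizer ({g} : Set G)) : ℂ) else 0)
      = (Nat.card (Subgroup.centralizer ({g} : Set G)) : ℂ) *
        ∑ h : G, (if IsConj g h then (1 : ℂ) else 0) * c h := by
    rw [Finset.mul_sum]
    apply Finset.sum_congr rfl
    intro h _
    split_ifs <;> ring
  rw [h5, sum_conjInd_mul g c hc]
  have h6 := Subgroup.card_mul_index (Subgroup.centralizer ({g} : Set G))
  have h7 : (Nat.card G : ℂ) ≠ 0 := by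
    have : 0 < Nat.card G := Nat.card_pos
    exact_mod_cast this.ne'
  have h8 : (Nat.card (Subgroup.centralizer ({g} : Set G)) : ℂ)
      * ((Subgroup.centralizer ({g} : Set G)).index : ℂ) = (Nat.card G : ℂ) := by
    exact_mod_cast h6
  rw [← mul_assoc, ← mul_assoc, mul_assoc ((Nat.card G : ℂ)⁻¹), h8, inv_mul_cancel₀ h7, one_mul]

theorem Om_ext [Fintype (Cfsg.IrrCharacter G)] {c d : G → ℂ} (hc : Cfsg.IsClassFunction G c)
    (hd : Cfsg.IsClassFunction G d) (h : ∀ χ : Cfsg.IrrCharacter G, Om χ.1 c = Om χ.1 d) :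
    c = d := by
  funext g
  rw [Om_inv hc g, Om_inv hd g]
  congr 1
  apply Finset.sum_congr rfl
  intro χ _
  rw [h χ]

/-- a choice of class representatives -/
noncomputable def ccRep (C : ConjClasses G) : G := Classical.choose (ConjClasses.exists_rep C)

theorem ccRep_spec (C : ConjClasses G) : ConjClasses.mk (ccRep C) = C :=
  Classical.choose_spec (ConjClasses.exists_rep C)

theorem Om_class_sum [Fintype (ConjClasses G)] (χ : Cfsg.IrrCharacter G) {c : G → ℂ}
    (hc : Cfsg.IsClassFunction G c) :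
    Om χ.1 c = ∑ C : ConjClasses G, c (ccRep C) * Cfsg.centralChar χ.1 (ccRep C) := by
  classical
  unfold Om
  have hF : Cfsg.IsClassFunction G (fun g => c g * χ.1 g) := by
    intro x k
    show c (k * x * k⁻¹) * χ.1 (k * x * k⁻¹) = c x * χ.1 x
    rw [hc x k, isClassFunction_of_irr χ x k]
  rw [sum_eq_sum_classes _ hF ccRep ccRep_spec, Finset.sum_div]
  apply Finset.sum_congr rfl
  intro C _
  unfold Cfsg.centralChar
  ring

theorem centralChar_isIntegral (χ : Cfsg.IrrCharacter G) (g : G) :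
    IsIntegral ℤ (Cfsg.centralChar χ.1 g) := by
  obtain ⟨n, ρ, hρ, hρχ⟩ := χ.2
  haveI := hρ
  have := omega_isIntegral ρ g
  unfold Cfsg.centralChar
  rw [← hρχ, Representation.char_one]
  exact this

theorem blockCoeff_eq [Fintype (Cfsg.IrrCharacter G)] (B : Set (Cfsg.IrrCharacter G))
    [DecidablePred (· ∈ B)] (g : G) :
    Cfsg.blockCoeff B g = (Nat.card G : ℂ)⁻¹ *
      ∑ χ : Cfsg.IrrCharacter G, χ.1 1 * conj (χ.1 g) * (if χ ∈ B then 1 else 0) := by
  unfold Cfsg.blockCoeff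
  congr 1
  rw [finsum_eq_sum_of_fintype]
  apply Finset.sum_congr rfl
  intro χ _
  rw [finsum_eq_if]
  split_ifs <;> ring

end spectral

end Cfsg.Agent.Lib.Lead
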