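import Mathlib
import Cfsg.Prelude.Def_Blocks
import Cfsg.Agent.Lib.Lead.Block2

set_option autoImplicit false

namespace Cfsg.Agent.Lib.Lead

open scoped ComplexConjugate
open Module

section specgood

variable {G : Type*} [Group G] [Fintype G]

/-- spectral vectors realised by class functions with locally integral values -/
def SpecGood (M : Ideal Cfsg.AlgInt) (v : Cfsg.IrrCharacter G → ℂ) : Prop :=
  ∃ c : G → ℂ, Cfsg.IsClassFunction G c ∧ (∀ g, Cfsg.MemLocalRing M (c g)) ∧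
    ∀ χ : Cfsg.IrrCharacter G, Om χ.1 c = v χ

variable {M : Ideal Cfsg.AlgInt}

theorem specGood_const (hM : M.IsMaximal) {a : ℂ} (ha : Cfsg.MemLocalRing M a) :
    SpecGood (G := G) M (fun _ => a) := by
  classical
  refine ⟨fun x => if x = 1 then a else 0, isClassFunction_delta a, ?_, ?_⟩
  · intro g
    show Cfsg.MemLocalRing M (if g = 1 then a else 0)
    split_ifs
    · exact ha
    · exact mlr_zero hM
  · intro χ
    exact Om_delta χ.1 (irr_deg_ne_zero χ) a

theorem specGood_add (hM : M.IsMaximal) {v w : Cfsg.IrrCharacter G → ℂ}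
    (hv : SpecGood M v) (hw : SpecGood M w) : SpecGood M (fun χ => v χ + w χ) := by
  obtain ⟨c, hc, hc2, hc3⟩ := hv
  obtain ⟨d, hd, hd2, hd3⟩ := hw
  refine ⟨fun x => c x + d x, ?_, fun g => mlr_add hM (hc2 g) (hd2 g), ?_⟩
  · intro x k
    show c (k * x * k⁻¹) + d (k * x * k⁻¹) = c x + d x
    rw [hc x k, hd x k]
  · intro χ
    rw [Om_add, hc3, hd3]

theorem specGood_sub (hM : M.IsMaximal) {v w : Cfsg.IrrCharacter G → ℂ}
    (hv : SpecGood M v) (hw : SpecGood M w) : SpecGood M (fun χ => v χ - w χ) := by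
  obtain ⟨c, hc, hc2, hc3⟩ := hv
  obtain ⟨d, hd, hd2, hd3⟩ := hw
  refine ⟨fun x => c x - d x, ?_, fun g => mlr_sub hM (hc2 g) (hd2 g), ?_⟩
  · intro x k
    show c (k * x * k⁻¹) - d (k * x * k⁻¹) = c x - d x
    rw [hc x k, hd x k]
  · intro χ
    rw [Om_sub, hc3, hd3]

theorem specGood_mul (hM : M.IsMaximal) {v w : Cfsg.IrrCharacter G → ℂ}
    (hv : SpecGood M v) (hw : SpecGood M w) : SpecGood M (fun χ => v χ * w χ) := by
  obtain ⟨c, hc, hc2, hc3⟩ := hv
  obtain ⟨d, hd, hd2, hd3⟩ := hw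
  refine ⟨cconv c d, cconv_classFn hc hd, ?_, ?_⟩
  · intro g
    exact mlr_sum hM _ _ (fun x _ => mlr_mul hM (hc2 x) (hd2 _))
  · intro χ
    rw [Om_cconv χ hc hd, hc3, hd3]

theorem specGood_prod (hM : M.IsMaximal) {ι : Type*} (s : Finset ι)
    (f : ι → Cfsg.IrrCharacter G → ℂ) (h : ∀ i ∈ s, SpecGood M (f i)) :
    SpecGood M (fun χ => ∏ i ∈ s, f i χ) := by
  classical
  induction s using Finset.induction_on with
  | empty => simpa using specGood_const (G := G) hM (mlr_one hM)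
  | insert a s ha ih =>
    have h1 := specGood_mul hM (h a (Finset.mem_insert_self a s))
      (ih (fun i hi => h i (Finset.mem_insert_of_mem hi)))
    have h2 : (fun χ => ∏ i ∈ insert a s, f i χ) = fun χ => f a χ * ∏ i ∈ s, f i χ := by
      funext χ
      rw [Finset.prod_insert ha]
    rw [h2]
    exact h1

theorem specGood_omega (hM : M.IsMaximal) (g : G) :
    SpecGood M (fun χ : Cfsg.IrrCharacter G => Cfsg.centralChar χ.1 g) := by
  classical
  refine ⟨fun x => if IsConj g x then 1 else 0, isClassFunction_conjInd g, ?_,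
    fun χ => Om_classInd χ g⟩
  intro x
  show Cfsg.MemLocalRing M (if IsConj g x then 1 else 0)
  split_ifs
  · exact mlr_one hM
  · exact mlr_zero hM

theorem specGood_mlr (hM : M.IsMaximal) {v : Cfsg.IrrCharacter G → ℂ} (hv : SpecGood M v)
    (χ : Cfsg.IrrCharacter G) : Cfsg.MemLocalRing M (v χ) := by
  obtain ⟨c, hc, hc2, hc3⟩ := hv
  haveI : Fintype (ConjClasses G) := Fintype.ofFinite _
  rw [← hc3 χ, Om_class_sum χ hc]
  exact mlr_sum hM _ _ (fun C _ => mlr_mul hM (hc2 _)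
    (mlr_of_integral hM (centralChar_isIntegral χ _)))

theorem specGood_coeff [Fintype (Cfsg.IrrCharacter G)] {v : Cfsg.IrrCharacter G → ℂ}
    (hv : SpecGood M v) (g : G) :
    Cfsg.MemLocalRing M ((Nat.card G : ℂ)⁻¹ *
      ∑ χ : Cfsg.IrrCharacter G, χ.1 1 * conj (χ.1 g) * v χ) := by
  obtain ⟨c, hc, hc2, hc3⟩ := hv
  have := Om_inv hc g
  simp_rw [hc3] at this
  rw [← this]
  exact hc2 g

/-- two characters in the same block have congruent spectral values -/
theorem specGood_congr (hM : M.IsMaximal) {v : Cfsg.IrrCharacter G → ℂ} (hv : SpecGood M v)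
    {χ ψ : Cfsg.IrrCharacter G} (h : Cfsg.SameBlock M χ.1 ψ.1) :
    Cfsg.MemLocalIdeal M (v χ - v ψ) := by
  obtain ⟨c, hc, hc2, hc3⟩ := hv
  haveI : Fintype (ConjClasses G) := Fintype.ofFinite _
  rw [← hc3 χ, ← hc3 ψ, Om_class_sum χ hc, Om_class_sum ψ hc, ← Finset.sum_sub_distrib]
  apply mli_sum hM
  intro C _
  rw [← mul_sub]
  exact mli_mul hM (hc2 _) (h _)

open Classical in
theorem Om_blockCoeff [Fintype (Cfsg.IrrCharacter G)] (B : Set (Cfsg.IrrCharacter G))
    (χ : Cfsg.IrrCharacter G) :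
    Om χ.1 (fun g => Cfsg.blockCoeff B g) = if χ ∈ B then 1 else 0 := by
  have h1 : (fun g => Cfsg.blockCoeff B g) = fun g => (Nat.card G : ℂ)⁻¹ *
      ∑ θ : Cfsg.IrrCharacter G, θ.1 1 * conj (θ.1 g) * (if θ ∈ B then 1 else 0) := by
    funext g
    exact blockCoeff_eq B g
  rw [h1, Om_expand]

theorem blockCoeff_classFn [Fintype (Cfsg.IrrCharacter G)] (B : Set (Cfsg.IrrCharacter G)) :
    Cfsg.IsClassFunction G (fun g => Cfsg.blockCoeff B g) := by
  classical
  have h1 : (fun g => Cfsg.blockCoeff B g) = fun g => (Nat.card G : ℂ)⁻¹ *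
      ∑ θ : Cfsg.IrrCharacter G, θ.1 1 * conj (θ.1 g) * (if θ ∈ B then 1 else 0) := by
    funext g
    exact blockCoeff_eq B g
  rw [h1]
  exact isClassFunction_expand _

open Classical in
/-- Osima: the indicator of a block is a good spectral vector -/
theorem osima_core [Fintype (Cfsg.IrrCharacter G)] {p : ℕ} (hM : Cfsg.IsPModular p M)
    (χ₀ : Cfsg.IrrCharacter G) :
    SpecGood M (fun χ : Cfsg.IrrCharacter G =>
      if χ ∈ Cfsg.blockOf M χ₀.1 then (1 : ℂ) else 0) := by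
  obtain ⟨hp, hmax, hpM⟩ := hM
  set B := Cfsg.blockOf M χ₀.1 with hB
  have hex : ∀ ψ : Cfsg.IrrCharacter G, ψ ∉ B → ∃ g : G,
      ¬ Cfsg.MemLocalIdeal M (Cfsg.centralChar χ₀.1 g - Cfsg.centralChar ψ.1 g) := by
    intro ψ hψ
    by_contra hcon
    push Not at hcon
    exact hψ hcon
  choose! gψ hgψ using hex
  let v : Cfsg.IrrCharacter G → Cfsg.IrrCharacter G → ℂ :=
    fun ψ χ => Cfsg.centralChar χ.1 (gψ ψ) - Cfsg.centralChar ψ.1 (gψ ψ)
  have hv : ∀ ψ, SpecGood M (v ψ) := fun ψ =>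
    specGood_sub hmax (specGood_omega hmax (gψ ψ))
      (specGood_const hmax (mlr_of_integral hmax (centralChar_isIntegral ψ (gψ ψ))))
  let FN : Finset (Cfsg.IrrCharacter G) := Finset.univ.filter (· ∉ B)
  let FB : Finset (Cfsg.IrrCharacter G) := Finset.univ.filter (· ∈ B)
  let z : Cfsg.IrrCharacter G → ℂ := fun χ => ∏ ψ ∈ FN, v ψ χ
  have hz : SpecGood M z := specGood_prod hmax FN v (fun ψ _ => hv ψ)
  have hz0 : ∀ χ, χ ∉ B → z χ = 0 := by
    intro χ hχ
    apply Finset.prod_eq_zero (i := χ) (Finset.mem_filter.mpr ⟨Finset.mem_univ _, hχ⟩)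
    show Cfsg.centralChar χ.1 (gψ χ) - Cfsg.centralChar χ.1 (gψ χ) = 0
    exact sub_self _
  have hzB : ∀ θ, θ ∈ B → ¬ Cfsg.MemLocalIdeal M (z θ) := by
    intro θ hθ
    apply not_mli_prod hmax
    · intro ψ _
      exact mlr_sub hmax (mlr_of_integral hmax (centralChar_isIntegral θ _))
        (mlr_of_integral hmax (centralChar_isIntegral ψ _))
    · intro ψ hψ
      have hψ' : ψ ∉ B := (Finset.mem_filter.mp hψ).2
      intro hcon
      apply hgψ ψ hψ'
      have h1 := mli_add hmax ((hθ : Cfsg.SameBlock M χ₀.1 θ.1) (gψ ψ)) hcon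
      have h2 : Cfsg.centralChar χ₀.1 (gψ ψ) - Cfsg.centralChar θ.1 (gψ ψ) + v ψ θ
          = Cfsg.centralChar χ₀.1 (gψ ψ) - Cfsg.centralChar ψ.1 (gψ ψ) := by
        show Cfsg.centralChar χ₀.1 (gψ ψ) - Cfsg.centralChar θ.1 (gψ ψ)
          + (Cfsg.centralChar θ.1 (gψ ψ) - Cfsg.centralChar ψ.1 (gψ ψ)) = _
        ring
      rw [← h2]
      exact h1
  have hzS : ∀ θ, Cfsg.MemLocalRing M (z θ) := fun θ => specGood_mlr hmax hz θ
  let w : Cfsg.IrrCharacter G → ℂ := fun χ => 1 - ∏ θ ∈ FB, (1 - (z θ)⁻¹ * z χ)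
  have hw : SpecGood M w := by
    apply specGood_sub hmax (specGood_const hmax (mlr_one hmax))
    apply specGood_prod hmax FB (fun θ χ => 1 - (z θ)⁻¹ * z χ)
    intro θ hθ
    have hθ' : θ ∈ B := (Finset.mem_filter.mp hθ).2
    apply specGood_sub hmax (specGood_const hmax (mlr_one hmax))
    exact specGood_mul hmax (specGood_const hmax (mlr_inv (hzS θ) (hzB θ hθ'))) hz
  have hweq : w = fun χ => if χ ∈ B then (1 : ℂ) else 0 := by
    funext χ
    show 1 - ∏ θ ∈ FB, (1 - (z θ)⁻¹ * z χ) = _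
    by_cases hχ : χ ∈ B
    · rw [if_pos hχ]
      have hne : z χ ≠ 0 := by
        intro h0
        apply hzB χ hχ
        rw [h0]
        exact mli_zero hmax
      rw [Finset.prod_eq_zero (i := χ) (Finset.mem_filter.mpr ⟨Finset.mem_univ _, hχ⟩)
        (by rw [inv_mul_cancel₀ hne, sub_self]), sub_zero]
    · rw [if_neg hχ, hz0 χ hχ]
      simp
  rw [← hweq]
  exact hw

end specgood

/-- Osima's theorem (S0913) -/
theorem osima_thm {G : Type*} [Group G] [Finite G] (p : ℕ) [Fact p.Prime]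
    (M : Ideal Cfsg.AlgInt) (hM : Cfsg.IsPModular p M) (B : Set (Cfsg.IrrCharacter G))
    (hB : Cfsg.IsPBlock M B) (g : G) : Cfsg.MemLocalRing M (Cfsg.blockCoeff B g) := by
  classical
  haveI : Fintype G := Fintype.ofFinite G
  haveI : Fintype (Cfsg.IrrCharacter G) := Fintype.ofFinite _
  obtain ⟨χ₀, rfl⟩ := hB
  have h := specGood_coeff (osima_core hM χ₀) g
  rw [blockCoeff_eq]
  exact h

/-- S0909 -/
theorem union_of_blocks {G : Type*} [Group G] [Finite G] (p : ℕ) [Fact p.Prime]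
    (M : Ideal Cfsg.AlgInt) (hM : Cfsg.IsPModular p M) (A : Set (Cfsg.IrrCharacter G))
    (hA : ∀ g : G, Cfsg.MemLocalRing M (Cfsg.blockCoeff A g)) (χ : Cfsg.IrrCharacter G)
    (hχ : χ ∈ A) : Cfsg.blockOf M (χ : G → ℂ) ⊆ A := by
  classical
  haveI : Fintype G := Fintype.ofFinite G
  haveI : Fintype (Cfsg.IrrCharacter G) := Fintype.ofFinite _
  obtain ⟨hp, hmax, hpM⟩ := hM
  intro ψ hψ
  by_contra hψA
  have hgood : SpecGood M (fun θ : Cfsg.IrrCharacter G => if θ ∈ A then (1 : ℂ) else 0) :=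
    ⟨fun g => Cfsg.blockCoeff A g, blockCoeff_classFn A, hA, fun θ => Om_blockCoeff A θ⟩
  have h1 := specGood_congr hmax hgood (hψ : Cfsg.SameBlock M χ.1 ψ.1)
  simp only [if_pos hχ, if_neg hψA, sub_zero] at h1
  exact not_mli_one hmax h1

/-- S0906 -/
theorem exists_defect_class_thm {G : Type*} [Group G] [Finite G] (p : ℕ) [Fact p.Prime]
    (M : Ideal Cfsg.AlgInt) (hM : Cfsg.IsPModular p M) (B : Set (Cfsg.IrrCharacter G))
    (hB : Cfsg.IsPBlock M B) : ∃ g : G, Cfsg.IsDefectClass M B g := by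
  classical
  haveI : Fintype G := Fintype.ofFinite G
  haveI : Fintype (Cfsg.IrrCharacter G) := Fintype.ofFinite _
  have hos := fun g => osima_thm p M hM B hB g
  obtain ⟨hp, hmax, hpM⟩ := hM
  obtain ⟨χ₀, rfl⟩ := hB
  have hχ₀ : χ₀ ∈ Cfsg.blockOf M χ₀.1 := by
    intro g
    rw [sub_self]
    exact mli_zero hmax
  haveI : Fintype (ConjClasses G) := Fintype.ofFinite _
  have h1 := Om_class_sum χ₀ (blockCoeff_classFn (Cfsg.blockOf M χ₀.1))
  rw [Om_blockCoeff, if_pos hχ₀] at h1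
  by_contra hcon
  push Not at hcon
  apply not_mli_one hmax
  rw [h1]
  apply mli_sum hmax
  intro C _
  by_cases ha : Cfsg.MemLocalIdeal M (Cfsg.blockCoeff (Cfsg.blockOf M χ₀.1) (ccRep C))
  · rw [mul_comm]
    exact mli_mul hmax (mlr_of_integral hmax (centralChar_isIntegral χ₀ _)) ha
  · by_cases hb : Cfsg.MemLocalIdeal M (Cfsg.centralChar χ₀.1 (ccRep C))
    · exact mli_mul hmax (hos _) hb
    · exfalso
      apply hcon (ccRep C)
      refine ⟨hos _, ha, ?_⟩
      intro χ hχ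
      exact not_mli_of_sub hmax ((hχ : Cfsg.SameBlock M χ₀.1 χ.1) (ccRep C)) hb

end Cfsg.Agent.Lib.Lead
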