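import Mathlib
import Cfsg.Prelude.Def_Blocks
import Cfsg.Agent.Lib.Lead.Block3
import Cfsg.Agent.Lib.Helper9.Basic
import Cfsg.Agent.S0905

set_option autoImplicit false

namespace Cfsg.Agent.Lib.Lead

open scoped ComplexConjugate
open Module

theorem mlr_pow {M : Ideal Cfsg.AlgInt} (hM : M.IsMaximal) {x : ℂ}
    (hx : Cfsg.MemLocalRing M x) (n : ℕ) : Cfsg.MemLocalRing M (x ^ n) := by
  induction n with
  | zero => rw [pow_zero]; exact mlr_one hM
  | succ n ih => rw [pow_succ]; exact mlr_mul hM ih hx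

theorem mli_of_pow {M : Ideal Cfsg.AlgInt} (hM : M.IsMaximal) {x : ℂ}
    (hx : Cfsg.MemLocalRing M x) (n : ℕ) (h : Cfsg.MemLocalIdeal M (x ^ n)) :
    Cfsg.MemLocalIdeal M x := by
  induction n with
  | zero =>
    rw [pow_zero] at h
    exact absurd h (not_mli_one hM)
  | succ n ih =>
    rw [pow_succ] at h
    rcases mli_prime hM (mlr_pow hM hx n) hx h with h1 | h1
    · exact ih h1
    · exact h1

section bridge

variable {G : Type*} [Group G] [Fintype G]

/-- coefficient function of an element of the integral group algebra -/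
noncomputable def maFn (a : MonoidAlgebra Cfsg.AlgInt G) : G → ℂ :=
  fun g => ((a.coeff g : Cfsg.AlgInt) : ℂ)

theorem maFn_mul (a b : MonoidAlgebra Cfsg.AlgInt G) :
    maFn (a * b) = cconv (maFn a) (maFn b) := by
  funext x
  unfold maFn cconv
  rw [MonoidAlgebra.coeff_mul_apply_left, Finsupp.sum_fintype _ _ (fun i => by rw [zero_mul])]
  push_cast
  rfl

theorem maFn_one [DecidableEq G] :
    maFn (1 : MonoidAlgebra Cfsg.AlgInt G) = fun x => if x = 1 then 1 else 0 := by
  funext x
  unfold maFn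
  rw [MonoidAlgebra.one_def, MonoidAlgebra.coeff_single, Finsupp.single_apply]
  by_cases h : x = 1
  · rw [if_pos h.symm, if_pos h]
    simp
  · rw [if_neg (Ne.symm h), if_neg h]
    simp

/-- the class sum in the integral group algebra -/
noncomputable def maClass (g : G) [∀ x, Decidable (IsConj g x)] : MonoidAlgebra Cfsg.AlgInt G :=
  ∑ x ∈ Finset.univ.filter (fun x => IsConj g x), MonoidAlgebra.single x 1

theorem maFn_class [DecidableEq G] (g : G) [∀ x, Decidable (IsConj g x)] :
    maFn (maClass g) = fun x => if IsConj g x then 1 else 0 := by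
  funext y
  unfold maFn maClass
  rw [MonoidAlgebra.coeff_sum, Finsupp.finset_sum_apply]
  simp only [MonoidAlgebra.coeff_single, Finsupp.single_apply]
  rw [Finset.sum_ite_eq' ]
  simp only [Finset.mem_filter, Finset.mem_univ, true_and]
  split_ifs
  · simp
  · simp

theorem maFn_pow [DecidableEq G] (g : G) [∀ x, Decidable (IsConj g x)] (n : ℕ) :
    Cfsg.IsClassFunction G (maFn ((maClass g) ^ n)) ∧
      ∀ χ : Cfsg.IrrCharacter G,
        Om χ.1 (maFn ((maClass g) ^ n)) = (Cfsg.centralChar χ.1 g) ^ n := by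
  induction n with
  | zero =>
    rw [pow_zero, maFn_one]
    exact ⟨isClassFunction_delta 1, fun χ => by
      rw [pow_zero]
      exact Om_delta χ.1 (irr_deg_ne_zero χ) 1⟩
  | succ n ih =>
    rw [pow_succ, maFn_mul, maFn_class]
    refine ⟨cconv_classFn ih.1 (isClassFunction_conjInd g), fun χ => ?_⟩
    rw [Om_cconv χ ih.1 (isClassFunction_conjInd g), ih.2, Om_classInd, pow_succ]

end bridge

/-- a class no member of which centralises `O_p(G)` has central character values in the
local ideal -/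
theorem central_char_mli_of_no_conj {G : Type*} [Group G] [Finite G] (p : ℕ) [Fact p.Prime]
    (M : Ideal Cfsg.AlgInt) (hM : Cfsg.IsPModular p M) (g : G)
    (hg : ∀ x : G, IsConj g x → x ∉ Subgroup.centralizer (Cfsg.pCore p G : Set G))
    (χ : Cfsg.IrrCharacter G) : Cfsg.MemLocalIdeal M (Cfsg.centralChar χ.1 g) := by
  classical
  haveI : Fintype G := Fintype.ofFinite G
  haveI : Fintype (ConjClasses G) := Fintype.ofFinite _
  obtain ⟨hp, hmax, hpM⟩ := hM
  haveI := hmax
  letI : Field (Cfsg.AlgInt ⧸ M) := Ideal.Quotient.field M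
  haveI : CharP (Cfsg.AlgInt ⧸ M) p := by
    rw [CharP.charP_iff_prime_eq_zero hp]
    have h1 : ((p : Cfsg.AlgInt ⧸ M)) = Ideal.Quotient.mk M (p : Cfsg.AlgInt) := by simp
    rw [h1, Ideal.Quotient.eq_zero_iff_mem]
    exact hpM
  obtain ⟨n, hn⟩ := Cfsg.Agent.S0905.result p (Cfsg.AlgInt ⧸ M) g hg
  have hset : (ConjClasses.mk g).carrier
      = ((Finset.univ.filter (fun x => IsConj g x) : Finset G) : Set G) := by
    ext x
    rw [ConjClasses.mem_carrier_iff_mk_eq, ConjClasses.mk_eq_mk_iff_isConj]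
    simp only [Finset.coe_filter, Finset.mem_univ, true_and, Set.mem_setOf_eq]
    exact ⟨fun h => h.symm, fun h => h.symm⟩
  have himg : (∑ᶠ x ∈ ConjClasses.carrier (ConjClasses.mk g),
      MonoidAlgebra.single x (1 : Cfsg.AlgInt ⧸ M) : MonoidAlgebra (Cfsg.AlgInt ⧸ M) G)
      = MonoidAlgebra.mapRingHom G (Ideal.Quotient.mk M) (maClass g) := by
    unfold maClass
    rw [map_sum, hset, finsum_mem_coe_finset]
    apply Finset.sum_congr rfl
    intro x _
    rw [MonoidAlgebra.mapRingHom_single, map_one]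
  rw [himg, ← map_pow] at hn
  have hcoef : ∀ x, ((maClass g) ^ n).coeff x ∈ M := by
    intro x
    have h2 := congrArg (fun a => a.coeff x) hn
    simp only [MonoidAlgebra.coeff_mapRingHom, MonoidAlgebra.coeff_zero, Finsupp.coe_zero,
      Pi.zero_apply] at h2
    exact Ideal.Quotient.eq_zero_iff_mem.mp h2
  obtain ⟨hcf, hOm⟩ := maFn_pow g n
  have h1 : Cfsg.MemLocalIdeal M ((Cfsg.centralChar χ.1 g) ^ n) := by
    rw [← hOm χ, Om_class_sum χ hcf]
    apply mli_sum hmax
    intro C _
    rw [mul_comm]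
    exact mli_mul hmax (mlr_of_integral hmax (centralChar_isIntegral χ _))
      (mli_of_mem hmax (hcoef _))
  exact mli_of_pow hmax (mlr_of_integral hmax (centralChar_isIntegral χ g)) n h1

/-- S0912 -/
theorem pcore_le_defect_thm {G : Type*} [Group G] [Finite G] (p : ℕ) [Fact p.Prime]
    (M : Ideal Cfsg.AlgInt) (hM : Cfsg.IsPModular p M) (B : Set (Cfsg.IrrCharacter G))
    (hB : Cfsg.IsPBlock M B) (D : Subgroup G) (hD : Cfsg.IsDefectGroup p M B D) :
    Cfsg.pCore p G ≤ D := by
  obtain ⟨g, hg, P, rfl⟩ := hD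
  obtain ⟨χ₀, rfl⟩ := hB
  have hmax := hM.2.1
  have hχ₀ : χ₀ ∈ Cfsg.blockOf M χ₀.1 := by
    intro k
    rw [sub_self]
    exact mli_zero hmax
  have hω := hg.2.2 χ₀ hχ₀
  haveI : (Cfsg.pCore p G).Normal := Cfsg.Agent.Lib.Helper9.pCore_normal p G
  have hgc : g ∈ Subgroup.centralizer (Cfsg.pCore p G : Set G) := by
    by_contra hcon
    apply hω
    apply central_char_mli_of_no_conj p M hM g _ χ₀
    intro x hx hxc
    apply hcon
    obtain ⟨t, ht⟩ := isConj_iff.mp hx
    have hn : (Subgroup.centralizer (Cfsg.pCore p G : Set G)).Normal := inferInstance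
    have h1 := hn.conj_mem x hxc t⁻¹
    have h2 : t⁻¹ * x * t⁻¹⁻¹ = g := by
      rw [← ht]
      group
    rw [h2] at h1
    exact h1
  have hle : Cfsg.pCore p G ≤ Subgroup.centralizer ({g} : Set G) := by
    intro y hy
    rw [Subgroup.mem_centralizer_iff]
    intro z hz
    rw [Set.mem_singleton_iff] at hz
    subst hz
    exact ((Subgroup.mem_centralizer_iff.mp hgc) y hy).symm
  have hpg : IsPGroup p ((Cfsg.pCore p G).subgroupOf (Subgroup.centralizer ({g} : Set G))) :=
    (Cfsg.Agent.Lib.Helper9.pCore_isPGroup p G).comap_subtype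
  have h1 := hpg.le_sylow_of_normal P
  intro y hy
  exact ⟨⟨y, hle hy⟩, h1 (show (⟨y, hle hy⟩ : Subgroup.centralizer ({g} : Set G))
    ∈ (Cfsg.pCore p G).subgroupOf (Subgroup.centralizer ({g} : Set G)) from hy), rfl⟩

end Cfsg.Agent.Lib.Lead
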