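import Mathlib
import Cfsg.Prelude.Def_Blocks
import Cfsg.Prelude.Def_Local
import Cfsg.Agent.Lib.Lead.Block7
import Cfsg.Agent.Lib.Helper2.PermMod
import Cfsg.Agent.Lib.Helper3.HallHigman

set_option autoImplicit false

namespace Cfsg.Agent.Lib.Lead

open scoped ComplexConjugate
open Module

/-- an element of the modular group algebra commuting with a `p`-subgroup `P` and killing the
`P`-fixed vectors is nilpotent -/
theorem nilp_of_kills_fixed {G : Type*} [Group G] [Finite G] (p : ℕ) [Fact p.Prime]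
    (F : Type*) [Field F] [CharP F p] (P : Subgroup G) (hPp : IsPGroup p P)
    (c : MonoidAlgebra F G)
    (hcomm : ∀ u ∈ P, MonoidAlgebra.single u (1 : F) * c = c * MonoidAlgebra.single u (1 : F))
    (key : ∀ w : MonoidAlgebra F G,
      (∀ u ∈ P, MonoidAlgebra.single u (1 : F) * w = w) → c * w = 0) :
    IsNilpotent c := by
  classical
  obtain ⟨ρ, hρ⟩ : ∃ ρ : Representation F P (MonoidAlgebra F G),
      ∀ (u : P) (w : MonoidAlgebra F G), ρ u w = MonoidAlgebra.single (u : G) (1 : F) * w := by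
    refine ⟨{ toFun := fun u => LinearMap.mulLeft F (MonoidAlgebra.single (u : G) (1 : F))
              map_one' := ?_
              map_mul' := ?_ }, fun u w => rfl⟩
    · refine LinearMap.ext (fun w => ?_)
      show MonoidAlgebra.single ((1 : P) : G) (1 : F) * w = w
      rw [Subgroup.coe_one, ← MonoidAlgebra.one_def, one_mul]
    · intro u v
      refine LinearMap.ext (fun w => ?_)
      show MonoidAlgebra.single ((u * v : P) : G) (1 : F) * w
        = MonoidAlgebra.single (u : G) (1 : F) * (MonoidAlgebra.single (v : G) (1 : F) * w)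
      rw [Subgroup.coe_mul, ← mul_assoc, MonoidAlgebra.single_mul_single, mul_one]
  obtain ⟨T, hTdef⟩ : ∃ T : Module.End F (MonoidAlgebra F G), T = LinearMap.mulLeft F c :=
    ⟨_, rfl⟩
  have hT : ∀ (k : ℕ) (v : MonoidAlgebra F G), (T ^ k) v = c ^ k * v := by
    intro k
    induction k with
    | zero =>
      intro v
      rw [pow_zero, pow_zero, one_mul]
      rfl
    | succ k ih =>
      intro v
      rw [pow_succ', pow_succ', Module.End.mul_apply, ih, hTdef, LinearMap.mulLeft_apply,
        mul_assoc]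
  obtain ⟨k, -, hker⟩ := Module.End.exists_ker_pow_eq_ker_pow_succ T
  refine ⟨k, ?_⟩
  by_contra hne
  have hW : LinearMap.range (T ^ k) ≠ ⊥ := by
    rw [Submodule.ne_bot_iff]
    refine ⟨(T ^ k) 1, LinearMap.mem_range_self _ _, ?_⟩
    rw [hT, mul_one]
    exact hne
  have hinv : ∀ u : P, ∀ w ∈ LinearMap.range (T ^ k), ρ u w ∈ LinearMap.range (T ^ k) := by
    intro u w hw
    obtain ⟨v, rfl⟩ := hw
    refine ⟨MonoidAlgebra.single (u : G) (1 : F) * v, ?_⟩
    have hcm : Commute (MonoidAlgebra.single (u : G) (1 : F)) c := hcomm (u : G) u.2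
    rw [hρ, hT, hT, ← mul_assoc, ← mul_assoc, (hcm.pow_right k).eq]
  obtain ⟨w, hwW, hw0, hwfix⟩ := Cfsg.Agent.Lib.Helper2.PermMod.pgroup_fixed p (K := F)
    (V := MonoidAlgebra F G) (Nat.card P) P le_rfl hPp ρ (LinearMap.range (T ^ k)) hinv hW
  obtain ⟨v, rfl⟩ := hwW
  have h1 : c * ((T ^ k) v) = 0 := by
    apply key
    intro u hu
    have h := hwfix ⟨u, hu⟩
    rw [hρ] at h
    exact h
  have h2 : (T ^ (k + 1)) v = 0 := by
    rw [hT, pow_succ', mul_assoc, ← hT]
    exact h1
  have h3 : v ∈ LinearMap.ker (T ^ k.succ) := LinearMap.mem_ker.mpr h2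
  rw [← hker] at h3
  exact hw0 (LinearMap.mem_ker.mp h3)

section bridge2

variable {G : Type*} [Group G] [Fintype G]

theorem maFn_pow' [DecidableEq G] (a : MonoidAlgebra Cfsg.AlgInt G)
    (ha : Cfsg.IsClassFunction G (maFn a)) (n : ℕ) :
    Cfsg.IsClassFunction G (maFn (a ^ n)) ∧
      ∀ χ : Cfsg.IrrCharacter G, Om χ.1 (maFn (a ^ n)) = (Om χ.1 (maFn a)) ^ n := by
  induction n with
  | zero =>
    rw [pow_zero, maFn_one]
    exact ⟨isClassFunction_delta 1, fun χ => by
      rw [pow_zero]
      exact Om_delta χ.1 (irr_deg_ne_zero χ) 1⟩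
  | succ n ih =>
    rw [pow_succ, maFn_mul]
    refine ⟨cconv_classFn ih.1 ha, fun χ => ?_⟩
    rw [Om_cconv χ ih.1 ha, ih.2, pow_succ]

theorem maFn_sub (a b : MonoidAlgebra Cfsg.AlgInt G) :
    maFn (a - b) = fun x => maFn a x - maFn b x := by
  funext x
  unfold maFn
  rw [MonoidAlgebra.coeff_sub, Finsupp.sub_apply]
  push_cast
  rfl

theorem maFn_natCast [DecidableEq G] (k : ℕ) :
    maFn ((k : MonoidAlgebra Cfsg.AlgInt G)) = fun x => if x = 1 then (k : ℂ) else 0 := by
  funext x
  unfold maFn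
  rw [MonoidAlgebra.coeff_natCast, Finsupp.single_apply]
  by_cases h : x = 1
  · rw [if_pos h.symm, if_pos h]
    simp
  · rw [if_neg (Ne.symm h), if_neg h]
    simp

end bridge2

/-- for `g ∈ O_p(G)` the central character value at `g` is congruent to the class size -/
theorem central_char_sub_index_mli {G : Type*} [Group G] [Finite G] (p : ℕ) [Fact p.Prime]
    (M : Ideal Cfsg.AlgInt) (hM : Cfsg.IsPModular p M) (g : G) (hg : g ∈ Cfsg.pCore p G)
    (χ : Cfsg.IrrCharacter G) :
    Cfsg.MemLocalIdeal M (Cfsg.centralChar χ.1 g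
      - ((Subgroup.centralizer ({g} : Set G)).index : ℂ)) := by
  classical
  haveI : Fintype G := Fintype.ofFinite G
  haveI : Fintype (ConjClasses G) := Fintype.ofFinite _
  obtain ⟨hp, hmax, hpM⟩ := hM
  haveI := hmax
  letI : Field (Cfsg.AlgInt ⧸ M) := Ideal.Quotient.field M
  haveI : CharP (Cfsg.AlgInt ⧸ M) p := by
    rw [CharP.charP_iff_prime_eq_zero hp]
    have h1 : ((p : Cfsg.AlgInt ⧸ M)) = Ideal.Quotient.mk M (p : Cfsg.AlgInt) := by simp
    rw [h1, Ideal.Quotient.eq_zero_iff_mem]
    exact hpM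
  haveI hPn : (Cfsg.pCore p G).Normal := Cfsg.Agent.Lib.Helper9.pCore_normal p G
  have hPp : IsPGroup p (Cfsg.pCore p G) := Cfsg.Agent.Lib.Helper9.pCore_isPGroup p G
  set k : ℕ := (Subgroup.centralizer ({g} : Set G)).index with hk
  set K : Finset G := Finset.univ.filter (fun x => IsConj g x) with hK
  have hKcard : K.card = k := by
    rw [hk, index_centralizer_eq, Nat.card_eq_fintype_card, Fintype.card_subtype]
  have hKP : ∀ x ∈ K, x ∈ Cfsg.pCore p G := by
    intro x hx
    obtain ⟨t, ht⟩ := isConj_iff.mp (Finset.mem_filter.mp hx).2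
    rw [← ht]
    exact hPn.conj_mem g hg t
  -- the element of the modular group algebra
  set c : MonoidAlgebra (Cfsg.AlgInt ⧸ M) G :=
    ∑ x ∈ K, MonoidAlgebra.single x (1 : Cfsg.AlgInt ⧸ M) - (k : MonoidAlgebra (Cfsg.AlgInt ⧸ M) G)
    with hc
  have hnil : IsNilpotent c := by
    apply nilp_of_kills_fixed p (Cfsg.AlgInt ⧸ M) (Cfsg.pCore p G) hPp c
    · intro u _
      rw [hc, mul_sub, sub_mul, Finset.mul_sum, Finset.sum_mul, Nat.cast_comm]
      congr 1
      apply Finset.sum_nbij' (fun x => u * x * u⁻¹) (fun x => u⁻¹ * x * u)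
      · intro x hx
        have h1 := (Finset.mem_filter.mp hx).2
        exact Finset.mem_filter.mpr ⟨Finset.mem_univ _, h1.trans (isConj_iff.mpr ⟨u, rfl⟩)⟩
      · intro x hx
        have h1 := (Finset.mem_filter.mp hx).2
        refine Finset.mem_filter.mpr ⟨Finset.mem_univ _, h1.trans (isConj_iff.mpr ⟨u⁻¹, ?_⟩)⟩
        rw [inv_inv]
      · intro x _
        group
      · intro x _
        group
      · intro x _
        rw [MonoidAlgebra.single_mul_single, MonoidAlgebra.single_mul_single]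
        have e2 : u * x = u * x * u⁻¹ * u := by group
        rw [← e2]
    · intro w hfix
      rw [hc, sub_mul, Finset.sum_mul]
      rw [Finset.sum_congr rfl (fun x hx => hfix x (hKP x hx)), Finset.sum_const, hKcard,
        nsmul_eq_mul, sub_self]
  obtain ⟨n, hn⟩ := hnil
  -- the integral lift
  set a : MonoidAlgebra Cfsg.AlgInt G := maClass g - (k : MonoidAlgebra Cfsg.AlgInt G) with ha
  have himg : MonoidAlgebra.mapRingHom G (Ideal.Quotient.mk M) a = c := by
    rw [ha, hc, map_sub, map_natCast]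
    congr 1
    unfold maClass
    rw [map_sum]
    apply Finset.sum_congr rfl
    intro x _
    rw [MonoidAlgebra.mapRingHom_single, map_one]
  rw [← himg, ← map_pow] at hn
  have hcoef : ∀ x, (a ^ n).coeff x ∈ M := by
    intro x
    have h2 := congrArg (fun b => b.coeff x) hn
    simp only [MonoidAlgebra.coeff_mapRingHom, MonoidAlgebra.coeff_zero, Finsupp.coe_zero,
      Pi.zero_apply] at h2
    exact Ideal.Quotient.eq_zero_iff_mem.mp h2
  have hafn : maFn a = fun x => (if IsConj g x then (1 : ℂ) else 0)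
      - (if x = 1 then (k : ℂ) else 0) := by
    rw [ha, maFn_sub, maFn_class, maFn_natCast]
  have hacf : Cfsg.IsClassFunction G (maFn a) := by
    rw [hafn]
    exact isClassFunction_sub (isClassFunction_conjInd g) (isClassFunction_delta (k : ℂ))
  have hOma : Om χ.1 (maFn a) = Cfsg.centralChar χ.1 g - (k : ℂ) := by
    rw [hafn, Om_sub, Om_classInd, Om_delta χ.1 (irr_deg_ne_zero χ)]
  obtain ⟨hcf, hOm⟩ := maFn_pow' a hacf n
  have h1 : Cfsg.MemLocalIdeal M ((Cfsg.centralChar χ.1 g - (k : ℂ)) ^ n) := by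
    rw [← hOma, ← hOm χ, Om_class_sum χ hcf]
    apply mli_sum hmax
    intro C _
    rw [mul_comm]
    exact mli_mul hmax (mlr_of_integral hmax (centralChar_isIntegral χ _))
      (mli_of_mem hmax (hcoef _))
  exact mli_of_pow hmax (mlr_sub hmax (mlr_of_integral hmax (centralChar_isIntegral χ g))
    (mlr_natCast hmax k)) n h1

/-- S0915 -/
theorem psolv_one_block {G : Type*} [Group G] [Finite G] (p : ℕ) [Fact p.Prime]
    (M : Ideal Cfsg.AlgInt) (hM : Cfsg.IsPModular p M) (hsolv : Cfsg.IsPSolvable p G)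
    (hcore : Cfsg.pPrimeCore p G = ⊥) (χ ψ : Cfsg.IrrCharacter G) :
    Cfsg.SameBlock M (χ : G → ℂ) (ψ : G → ℂ) := by
  intro g
  have hmax := hM.2.1
  have hHH := Cfsg.Agent.Lib.Helper3.centralizer_pCore_le_of_isPSolvable hsolv hcore
  by_cases hg : g ∈ Subgroup.centralizer (Cfsg.pCore p G : Set G)
  · have hgP : g ∈ Cfsg.pCore p G := hHH hg
    have h1 := central_char_sub_index_mli p M hM g hgP χ
    have h2 := central_char_sub_index_mli p M hM g hgP ψ
    have h3 := mli_sub hmax h1 h2
    have h4 : Cfsg.centralChar χ.1 g - ((Subgroup.centralizer ({g} : Set G)).index : ℂ)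
        - (Cfsg.centralChar ψ.1 g - ((Subgroup.centralizer ({g} : Set G)).index : ℂ))
        = Cfsg.centralChar χ.1 g - Cfsg.centralChar ψ.1 g := by ring
    rw [h4] at h3
    exact h3
  · haveI : (Cfsg.pCore p G).Normal := Cfsg.Agent.Lib.Helper9.pCore_normal p G
    have hno : ∀ x : G, IsConj g x → x ∉ Subgroup.centralizer (Cfsg.pCore p G : Set G) := by
      intro x hx hxc
      apply hg
      obtain ⟨t, ht⟩ := isConj_iff.mp hx
      have hn : (Subgroup.centralizer (Cfsg.pCore p G : Set G)).Normal := inferInstance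
      have h1 := hn.conj_mem x hxc t⁻¹
      have h2 : t⁻¹ * x * t⁻¹⁻¹ = g := by
        rw [← ht]
        group
      rw [h2] at h1
      exact h1
    exact mli_sub hmax (central_char_mli_of_no_conj p M hM g hno χ)
      (central_char_mli_of_no_conj p M hM g hno ψ)

end Cfsg.Agent.Lib.Lead
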