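import Mathlib
import Cfsg.Agent.Lib.Helper7.FS
import Cfsg.Agent.Lib.Helper7.DefectZero
import Cfsg.Agent.Lib.Lead.Char8
import Cfsg.Agent.Lib.Lead.Invol

set_option autoImplicit false

namespace Cfsg.Agent.Lib.Lead

open Cfsg

section BF1
variable {G : Type*} [Group G] [Finite G]

/-- The number of solutions of `g * g = 1` is at most the sum of the irreducible degrees. -/
theorem sq_one_le_sum_deg [Fintype (IrrCharacter G)] :
    Nat.card {g : G // g * g = 1} ≤ ∑ χ : IrrCharacter G, charDegree χ.1 := by
  classical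
  haveI : Fintype G := Fintype.ofFinite G
  have h := Cfsg.Agent.Lib.Helper7.FS.sum_fs (G := G)
  have h2 : ((Nat.card {g : G // g * g = 1} : ℕ) : ℝ)
      ≤ ((∑ χ : IrrCharacter G, charDegree χ.1 : ℕ) : ℝ) := by
    have h3 := congrArg Complex.re h
    rw [Complex.re_sum] at h3
    simp only [Complex.natCast_re] at h3
    rw [← h3]
    push_cast
    apply Finset.sum_le_sum
    intro χ _
    obtain ⟨hpos, h1, -⟩ := Cfsg.Agent.Lib.Helper7.DZ.charDegree_spec χ
    rw [h1]
    obtain ⟨hr, hn⟩ := Cfsg.Agent.Lib.Helper7.FS.fs_cases χ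
    by_cases hreal : ∀ g : G, ((χ : G → ℂ) g).im = 0
    · rcases hr hreal with h5 | h5
      · rw [h5]; simp
      · rw [h5]; simp
    · rw [hn hreal]; simp
  exact_mod_cast h2

theorem invol_add_one_le_sum_deg [Fintype (IrrCharacter G)] :
    Nat.card {t : G // orderOf t = 2} + 1 ≤ ∑ χ : IrrCharacter G, charDegree χ.1 := by
  rw [← card_inv_eq_self]
  have e : Nat.card {g : G // g⁻¹ = g} = Nat.card {g : G // g * g = 1} :=
    Nat.card_congr (Equiv.subtypeEquivRight (fun g => by
      rw [mul_eq_one_iff_eq_inv]; exact eq_comm))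
  rw [e]
  exact sq_one_le_sum_deg

theorem sum_deg_sq_nat [Fintype (IrrCharacter G)] :
    ∑ χ : IrrCharacter G, (charDegree χ.1) ^ 2 = Nat.card G := by
  have h := sum_deg_sq (G := G)
  rw [finsum_eq_sum_of_fintype] at h
  have h2 : ((∑ χ : IrrCharacter G, (charDegree χ.1) ^ 2 : ℕ) : ℂ) = (Nat.card G : ℂ) := by
    rw [← h]
    push_cast
    apply Finset.sum_congr rfl
    intro χ _
    rw [(Cfsg.Agent.Lib.Helper7.DZ.charDegree_spec χ).2.1]
  exact_mod_cast h2

/-- A simple group embeds in the symmetric group on the cosets of any proper subgroup. -/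
theorem simple_card_le_factorial_index [IsSimpleGroup G] (H : Subgroup G) (hH : H ≠ ⊤) :
    Nat.card G ≤ (H.index).factorial := by
  let φ : G →* Equiv.Perm (G ⧸ H) := MulAction.toPermHom G (G ⧸ H)
  have hker : φ.ker = ⊥ := by
    rcases IsSimpleGroup.eq_bot_or_eq_top_of_normal φ.ker inferInstance with h | h
    · exact h
    · exfalso
      apply hH
      rw [eq_top_iff]
      intro g _
      have hg : g ∈ φ.ker := by rw [h]; trivial
      rw [MonoidHom.mem_ker] at hg
      have h2 : φ g (QuotientGroup.mk 1) = QuotientGroup.mk 1 := by rw [hg]; rfl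
      have h3 : (QuotientGroup.mk (g * 1) : G ⧸ H) = QuotientGroup.mk 1 := h2
      rw [QuotientGroup.eq] at h3
      simpa using h3
  have hinj : Function.Injective φ := (MonoidHom.ker_eq_bot_iff φ).mp hker
  have h1 := Nat.card_le_card_of_injective φ hinj
  rw [Nat.card_perm] at h1
  exact h1

theorem card_conj_eq_index (g : G) :
    Nat.card {x : G // IsConj g x} = (Subgroup.centralizer ({g} : Set G)).index := by
  have h1 := card_conj_mul_card_centralizer g
  have h2 := Subgroup.card_mul_index (Subgroup.centralizer ({g} : Set G))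
  have hpos : 0 < Nat.card (Subgroup.centralizer ({g} : Set G)) := Nat.card_pos
  apply Nat.eq_of_mul_eq_mul_left hpos
  rw [h2, mul_comm, h1]

/-- Lower bound for the class equation: if every nonidentity class has at least `B` elements
then `1 + (k - 1) * B ≤ |G|`, stated without subtraction. -/
theorem class_eq_lower (B : ℕ)
    (hB : ∀ g : G, g ≠ 1 → B ≤ (Subgroup.centralizer ({g} : Set G)).index) :
    1 + Nat.card (ConjClasses G) * B ≤ Nat.card G + B := by
  classical
  haveI : Fintype G := Fintype.ofFinite G
  haveI : Fintype (ConjClasses G) := Fintype.ofFinite _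
  have hsum : (Finset.univ : Finset G).card = ∑ C : ConjClasses G,
      (Finset.univ.filter (fun x : G => ConjClasses.mk x = C)).card :=
    Finset.card_eq_sum_card_fiberwise (f := ConjClasses.mk) (s := Finset.univ) (t := Finset.univ)
      (fun x _ => Finset.mem_univ _)
  have hfib : ∀ g : G, g ≠ 1 →
      B ≤ (Finset.univ.filter (fun x : G => ConjClasses.mk x = ConjClasses.mk g)).card := by
    intro g hg
    have e : (Finset.univ.filter (fun x : G => ConjClasses.mk x = ConjClasses.mk g)).card
        = Nat.card {x : G // IsConj g x} := by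
      rw [Nat.card_eq_fintype_card, Fintype.card_subtype]
      congr 1
      ext x
      simp only [Finset.mem_filter, Finset.mem_univ, true_and]
      rw [ConjClasses.mk_eq_mk_iff_isConj]
      exact isConj_comm
    rw [e, card_conj_eq_index]
    exact hB g hg
  have h1 : 1 ≤ (Finset.univ.filter (fun x : G => ConjClasses.mk x = ConjClasses.mk 1)).card := by
    apply Finset.card_pos.mpr
    exact ⟨1, Finset.mem_filter.mpr ⟨Finset.mem_univ _, rfl⟩⟩
  rw [Nat.card_eq_fintype_card, Nat.card_eq_fintype_card, ← Finset.card_univ (α := G), hsum,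
    ← Finset.add_sum_erase Finset.univ _ (Finset.mem_univ (ConjClasses.mk (1 : G)))]
  have h2 : (Finset.univ.erase (ConjClasses.mk (1 : G))).card • B ≤
      ∑ C ∈ Finset.univ.erase (ConjClasses.mk (1 : G)),
        (Finset.univ.filter (fun x : G => ConjClasses.mk x = C)).card := by
    apply Finset.card_nsmul_le_sum
    intro C hC
    obtain ⟨g, rfl⟩ := ConjClasses.exists_rep C
    apply hfib
    rintro rfl
    exact (Finset.mem_erase.mp hC).1 rfl
  rw [Finset.card_erase_of_mem (Finset.mem_univ _), Finset.card_univ, smul_eq_mul] at h2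
  have hk : 1 ≤ Fintype.card (ConjClasses G) := Fintype.card_pos
  have h3 : Fintype.card (ConjClasses G) * B = (Fintype.card (ConjClasses G) - 1) * B + B := by
    have : Fintype.card (ConjClasses G) = (Fintype.card (ConjClasses G) - 1) + 1 := by omega
    nth_rewrite 1 [this]
    ring
  omega

/-- Cauchy–Schwarz consequence of the Frobenius–Schur count. -/
theorem invol_sq_le_classes_mul_card :
    (Nat.card {t : G // orderOf t = 2} + 1) ^ 2 ≤ Nat.card (ConjClasses G) * Nat.card G := by
  classical
  haveI : Fintype (IrrCharacter G) := Fintype.ofFinite _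
  have h1 := invol_add_one_le_sum_deg (G := G)
  have h2 := sq_sum_le_card_mul_sum_sq (s := (Finset.univ : Finset (IrrCharacter G)))
    (f := fun χ => charDegree χ.1)
  rw [sum_deg_sq_nat, Finset.card_univ, ← Nat.card_eq_fintype_card, card_irr] at h2
  calc (Nat.card {t : G // orderOf t = 2} + 1) ^ 2
      ≤ (∑ χ : IrrCharacter G, charDegree χ.1) ^ 2 := Nat.pow_le_pow_left h1 2
    _ ≤ _ := h2

end BF1

end Cfsg.Agent.Lib.Lead
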