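import Mathlib
import Cfsg.Prelude.Def_Characters
import Cfsg.Agent.Lib.Lead.Char18

set_option autoImplicit false

namespace Cfsg.Agent.Lib.Lead

open Module Representation

instance cycInstLead (N : ℕ) [NeZero N] : IsCyclotomicExtension {N} ℚ (CyclotomicField N ℚ) :=
  CyclotomicField.isCyclotomicExtension N ℚ

section cyc

variable (N : ℕ) [NeZero N]

/-- every embedding of the cyclotomic field sends `ζ` to a coprime power of `φ₀ ζ` -/
theorem cyc_embed_pow (φ₀ σ : CyclotomicField N ℚ →ₐ[ℚ] ℂ) :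
    ∃ m : ℕ, m.Coprime N ∧ σ (IsCyclotomicExtension.zeta N ℚ (CyclotomicField N ℚ))
      = (φ₀ (IsCyclotomicExtension.zeta N ℚ (CyclotomicField N ℚ))) ^ m := by
  have hζ := IsCyclotomicExtension.zeta_spec N ℚ (CyclotomicField N ℚ)
  have h0 : IsPrimitiveRoot (φ₀ (IsCyclotomicExtension.zeta N ℚ (CyclotomicField N ℚ))) N :=
    hζ.map_of_injective φ₀.toRingHom.injective
  have h1 : IsPrimitiveRoot (σ (IsCyclotomicExtension.zeta N ℚ (CyclotomicField N ℚ))) N :=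
    hζ.map_of_injective σ.toRingHom.injective
  obtain ⟨m, -, hm'⟩ := h0.eq_pow_of_pow_eq_one h1.pow_eq_one
  refine ⟨m, ?_, hm'.symm⟩
  rw [← h0.pow_iff_coprime (NeZero.pos N), hm']
  exact h1

/-- every coprime power arises from an embedding -/
theorem cyc_exists_embed (φ₀ : CyclotomicField N ℚ →ₐ[ℚ] ℂ) (m : ℕ) (hm : m.Coprime N) :
    ∃ σ : CyclotomicField N ℚ →ₐ[ℚ] ℂ, σ (IsCyclotomicExtension.zeta N ℚ (CyclotomicField N ℚ))
      = (φ₀ (IsCyclotomicExtension.zeta N ℚ (CyclotomicField N ℚ))) ^ m := by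
  have hζ := IsCyclotomicExtension.zeta_spec N ℚ (CyclotomicField N ℚ)
  have h0 : IsPrimitiveRoot (φ₀ (IsCyclotomicExtension.zeta N ℚ (CyclotomicField N ℚ))) N :=
    hζ.map_of_injective φ₀.toRingHom.injective
  have h1 : IsPrimitiveRoot ((φ₀ (IsCyclotomicExtension.zeta N ℚ (CyclotomicField N ℚ))) ^ m) N :=
    (h0.pow_iff_coprime (NeZero.pos N) m).mpr hm
  have hirr := Polynomial.cyclotomic.irreducible_rat (NeZero.pos N)
  refine ⟨(hζ.embeddingsEquivPrimitiveRoots ℂ hirr).symm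
    ⟨_, (mem_primitiveRoots (NeZero.pos N)).mpr h1⟩, ?_⟩
  have h2 := hζ.embeddingsEquivPrimitiveRoots_apply_coe ℂ hirr
    ((hζ.embeddingsEquivPrimitiveRoots ℂ hirr).symm ⟨_, (mem_primitiveRoots (NeZero.pos N)).mpr h1⟩)
  rw [Equiv.apply_symm_apply] at h2
  exact h2.symm

/-- character values live in the cyclotomic field, and Galois conjugation is a power map -/
theorem char_galois {G : Type*} [Group G] [Finite G] {V : Type*} [AddCommGroup V] [Module ℂ V]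
    [FiniteDimensional ℂ V] (ρ : Representation ℂ G V) (hN : ∀ g : G, g ^ N = 1)
    (φ₀ : CyclotomicField N ℚ →ₐ[ℚ] ℂ) (g : G) :
    ∃ x : CyclotomicField N ℚ, φ₀ x = ρ.character g ∧ IsIntegral ℤ x ∧
      ∀ (σ : CyclotomicField N ℚ →ₐ[ℚ] ℂ) (m : ℕ),
        σ (IsCyclotomicExtension.zeta N ℚ (CyclotomicField N ℚ))
          = (φ₀ (IsCyclotomicExtension.zeta N ℚ (CyclotomicField N ℚ))) ^ m →
        σ x = ρ.character (g ^ m) := by
  obtain ⟨S, d, hS1, -, -, hS4, -⟩ := char_eigen ρ g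
  have hζ := IsCyclotomicExtension.zeta_spec N ℚ (CyclotomicField N ℚ)
  have h0 : IsPrimitiveRoot (φ₀ (IsCyclotomicExtension.zeta N ℚ (CyclotomicField N ℚ))) N :=
    hζ.map_of_injective φ₀.toRingHom.injective
  have hpow : ∀ μ ∈ S, ∃ j : ℕ,
      (φ₀ (IsCyclotomicExtension.zeta N ℚ (CyclotomicField N ℚ))) ^ j = μ := by
    intro μ hμ
    have h2 : μ ^ N = 1 := by
      obtain ⟨k, hk⟩ := orderOf_dvd_of_pow_eq_one (hN g)
      rw [hk, pow_mul, hS1 μ hμ, one_pow]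
    obtain ⟨j, -, hj⟩ := h0.eq_pow_of_pow_eq_one h2
    exact ⟨j, hj⟩
  choose! j hj using hpow
  have hg1 : ρ.character g = ∑ μ ∈ S, μ * (d μ : ℂ) := by
    have := hS4 1
    simpa using this
  refine ⟨∑ μ ∈ S, (IsCyclotomicExtension.zeta N ℚ (CyclotomicField N ℚ)) ^ (j μ)
    * (d μ : CyclotomicField N ℚ), ?_, ?_, ?_⟩
  · rw [map_sum, hg1]
    apply Finset.sum_congr rfl
    intro μ hμ
    rw [map_mul, map_pow, hj μ hμ, map_natCast]
  · apply IsIntegral.sum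
    intro μ _
    apply IsIntegral.mul
    · exact IsIntegral.pow (hζ.isIntegral (NeZero.pos N)) _
    · have h3 : IsIntegral ℤ (((d μ : ℤ)) : CyclotomicField N ℚ) := isIntegral_algebraMap
      simpa using h3
  · intro σ m hσ
    rw [hS4 m, map_sum]
    apply Finset.sum_congr rfl
    intro μ hμ
    rw [map_mul, map_pow, hσ, map_natCast, ← pow_mul, mul_comm m, pow_mul, hj μ hμ]

end cyc

/-- **Burnside**: a nonlinear irreducible character vanishes somewhere -/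
theorem burnside_vanish {G : Type*} [Group G] [Finite G] {V : Type*} [AddCommGroup V]
    [Module ℂ V] [FiniteDimensional ℂ V] (ρ : Representation ℂ G V) [hρ : ρ.IsIrreducible]
    (hdeg : 1 < finrank ℂ V) : ∃ g : G, ρ.character g = 0 := by
  classical
  by_contra hcon
  push Not at hcon
  haveI : Fintype G := Fintype.ofFinite G
  haveI : NeZero (Nat.card G) := ⟨Nat.card_pos.ne'⟩
  let φ₀ : CyclotomicField (Nat.card G) ℚ →ₐ[ℚ] ℂ := IsAlgClosed.lift
  have hgN : ∀ g : G, g ^ Nat.card G = 1 := fun g => pow_card_eq_one'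
  choose x hx1 hx2 hx3 using fun g => char_galois (Nat.card G) ρ hgN φ₀ g
  haveI : Nonempty (CyclotomicField (Nat.card G) ℚ →ₐ[ℚ] ℂ) := ⟨φ₀⟩
  have hE : ∀ (inst : Fintype (CyclotomicField (Nat.card G) ℚ →ₐ[ℚ] ℂ)) (g : G),
      (Fintype.card (CyclotomicField (Nat.card G) ℚ →ₐ[ℚ] ℂ) : ℝ)
        ≤ ∑ σ : CyclotomicField (Nat.card G) ℚ →ₐ[ℚ] ℂ, ‖σ (x g)‖ ^ 2 := by
    intro inst g
    have hxne : x g ≠ 0 := by
      intro h
      apply hcon g
      rw [← hx1 g, h, map_zero]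
    have hnorm_int : IsIntegral ℤ (Algebra.norm ℚ (x g)) := Algebra.isIntegral_norm ℚ (hx2 g)
    obtain ⟨k, hk⟩ := IsIntegrallyClosed.isIntegral_iff.mp hnorm_int
    have hk0 : k ≠ 0 := by
      rintro rfl
      rw [map_zero] at hk
      exact hxne (Algebra.norm_eq_zero_iff.mp hk.symm)
    have hprod : (algebraMap ℚ ℂ) (Algebra.norm ℚ (x g))
        = ∏ σ : CyclotomicField (Nat.card G) ℚ →ₐ[ℚ] ℂ, σ (x g) := by
      rw [Algebra.norm_eq_prod_embeddings ℚ ℂ (x g)]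
      exact Finset.prod_congr (Finset.ext (by simp)) (fun _ _ => rfl)
    have h1 : (1 : ℝ) ≤ ∏ σ : CyclotomicField (Nat.card G) ℚ →ₐ[ℚ] ℂ, ‖σ (x g)‖ ^ 2 := by
      rw [Finset.prod_pow, ← norm_prod, ← hprod, ← hk]
      have h2 : ‖(algebraMap ℚ ℂ) ((algebraMap ℤ ℚ) k)‖ = |(k : ℝ)| := by
        simp
      rw [h2]
      have h3 : (1 : ℝ) ≤ |(k : ℝ)| := by exact_mod_cast Int.one_le_abs hk0
      nlinarith
    have hcard : (0 : ℝ) < Fintype.card (CyclotomicField (Nat.card G) ℚ →ₐ[ℚ] ℂ) := by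
      exact_mod_cast Fintype.card_pos
    have hamgm := Real.geom_mean_le_arith_mean Finset.univ
      (fun _ : CyclotomicField (Nat.card G) ℚ →ₐ[ℚ] ℂ => (1 : ℝ)) (fun σ => ‖σ (x g)‖ ^ 2)
      (fun _ _ => zero_le_one) (by
        rw [Finset.sum_const, Finset.card_univ, nsmul_eq_mul, mul_one]; exact hcard)
      (fun _ _ => by positivity)
    simp only [Real.rpow_one, one_mul, Finset.sum_const, Finset.card_univ, nsmul_eq_mul,
      mul_one] at hamgm
    have h2 : (1 : ℝ) ≤ (∏ σ : CyclotomicField (Nat.card G) ℚ →ₐ[ℚ] ℂ, ‖σ (x g)‖ ^ 2)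
        ^ ((Fintype.card (CyclotomicField (Nat.card G) ℚ →ₐ[ℚ] ℂ) : ℝ))⁻¹ :=
      Real.one_le_rpow h1 (inv_nonneg.mpr hcard.le)
    have h3 := h2.trans hamgm
    rwa [le_div_iff₀ hcard, one_mul] at h3
  haveI inst : Fintype (CyclotomicField (Nat.card G) ℚ →ₐ[ℚ] ℂ) := Fintype.ofFinite _
  have hcard : (0 : ℝ) < Fintype.card (CyclotomicField (Nat.card G) ℚ →ₐ[ℚ] ℂ) := by
    exact_mod_cast Fintype.card_pos
  -- sum over `σ` and `g ≠ 1`
  have hσ : ∀ σ : CyclotomicField (Nat.card G) ℚ →ₐ[ℚ] ℂ,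
      ∑ g ∈ Finset.univ.erase (1 : G), ‖σ (x g)‖ ^ 2
        = ∑ g : G, ‖ρ.character g‖ ^ 2 - ‖ρ.character 1‖ ^ 2 := by
    intro σ
    obtain ⟨m, hm, hσm⟩ := cyc_embed_pow (Nat.card G) φ₀ σ
    rw [Finset.sum_erase_eq_sub (Finset.mem_univ _)]
    have h1 : ∀ g : G, ‖σ (x g)‖ ^ 2 = ‖ρ.character (g ^ m)‖ ^ 2 := by
      intro g
      rw [hx3 g σ m hσm]
    rw [Finset.sum_congr rfl (fun g _ => h1 g), h1 1, one_pow]
    congr 1
    have hm' : (Nat.card G).Coprime m := hm.symm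
    rw [← Equiv.sum_comp (powCoprime hm') (fun g => ‖ρ.character g‖ ^ 2)]
    apply Finset.sum_congr rfl
    intro g _
    rw [powCoprime_apply]
  have hsum : (Fintype.card (CyclotomicField (Nat.card G) ℚ →ₐ[ℚ] ℂ) : ℝ) * ((Nat.card G : ℝ) - 1)
      ≤ (Fintype.card (CyclotomicField (Nat.card G) ℚ →ₐ[ℚ] ℂ) : ℝ)
        * (∑ g : G, ‖ρ.character g‖ ^ 2 - ‖ρ.character 1‖ ^ 2) := by
    have h1 : ∑ g ∈ Finset.univ.erase (1 : G),
        ∑ σ : CyclotomicField (Nat.card G) ℚ →ₐ[ℚ] ℂ, ‖σ (x g)‖ ^ 2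
        = (Fintype.card (CyclotomicField (Nat.card G) ℚ →ₐ[ℚ] ℂ) : ℝ)
          * (∑ g : G, ‖ρ.character g‖ ^ 2 - ‖ρ.character 1‖ ^ 2) := by
      rw [Finset.sum_comm, Finset.sum_congr rfl (fun σ _ => hσ σ), Finset.sum_const,
        Finset.card_univ, nsmul_eq_mul]
    rw [← h1]
    have h2 : ∑ g ∈ Finset.univ.erase (1 : G),
        (Fintype.card (CyclotomicField (Nat.card G) ℚ →ₐ[ℚ] ℂ) : ℝ)
        ≤ ∑ g ∈ Finset.univ.erase (1 : G),
          ∑ σ : CyclotomicField (Nat.card G) ℚ →ₐ[ℚ] ℂ, ‖σ (x g)‖ ^ 2 :=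
      Finset.sum_le_sum (fun g _ => hE inst g)
    refine le_trans (le_of_eq ?_) h2
    have hc : ((Fintype.card G - 1 : ℕ) : ℝ) = (Nat.card G : ℝ) - 1 := by
      rw [Nat.cast_sub Fintype.card_pos, Nat.cast_one, Nat.card_eq_fintype_card]
    rw [Finset.sum_const, Finset.card_erase_of_mem (Finset.mem_univ _), Finset.card_univ,
      nsmul_eq_mul, hc]
    ring
  have hsum2 : (Nat.card G : ℝ) - 1 ≤ ∑ g : G, ‖ρ.character g‖ ^ 2 - ‖ρ.character 1‖ ^ 2 :=
    le_of_mul_le_mul_left hsum hcard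
  -- the norm of `χ`
  have hnorm : ∑ g : G, ‖ρ.character g‖ ^ 2 = (Nat.card G : ℝ) := by
    have h1 := irr_inner_self (⟨ρ.character, isIrrCharacter_of_rep ρ⟩ : Cfsg.IrrCharacter G)
    unfold Cfsg.classInner at h1
    have hG : (Nat.card G : ℂ) ≠ 0 := by exact_mod_cast Nat.card_pos.ne'
    have h2 : ∑ g : G, ρ.character g * (starRingEnd ℂ) (ρ.character g) = (Nat.card G : ℂ) := by
      have h3 := congrArg (fun z => (Nat.card G : ℂ) * z) h1
      simp only [mul_one] at h3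
      rw [← mul_assoc, mul_inv_cancel₀ hG, one_mul] at h3
      exact h3
    have h4 : ((∑ g : G, ‖ρ.character g‖ ^ 2 : ℝ) : ℂ) = ((Nat.card G : ℝ) : ℂ) := by
      push_cast
      rw [← h2]
      apply Finset.sum_congr rfl
      intro g _
      rw [Complex.mul_conj']
    exact_mod_cast h4
  have hone : ‖ρ.character 1‖ ^ 2 = ((finrank ℂ V : ℕ) : ℝ) ^ 2 := by
    rw [Representation.char_one, Complex.norm_natCast]
  rw [hnorm, hone] at hsum2
  have h2 : (2 : ℝ) ≤ (finrank ℂ V : ℕ) := by exact_mod_cast hdeg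
  nlinarith

end Cfsg.Agent.Lib.Lead
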