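import Mathlib
import Cfsg.Prelude.Def_Transfer
import Cfsg.Agent.Lib.Lead.Nilpotent
import Cfsg.Agent.Lib.Lead.Hall
import Cfsg.Agent.Lib.Helper6.ClassTwoPow

namespace Cfsg.Agent.Lib.Lead

universe u

theorem normal_of_le_center' {R : Type*} [Group R] {Z : Subgroup R}
    (hZ : Z ≤ Subgroup.center R) : Z.Normal := by
  constructor
  intro x hx g
  have := Subgroup.mem_center_iff.mp (hZ hx) g
  rw [this, mul_inv_cancel_right]
  exact hx

/-- an element of order `p` in a nontrivial normal subgroup that is central -/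
theorem exists_central_order_p {R : Type*} [Group R] [Finite R] {p : ℕ} [Fact p.Prime]
    (hR : IsPGroup p R) (N : Subgroup R) [N.Normal] (hN : N ≠ ⊥) :
    ∃ z ∈ N, z ∈ Subgroup.center R ∧ orderOf z = p := by
  haveI := hR.isNilpotent
  have h1 := normal_inf_center_ne_bot N hN
  have hp : IsPGroup p (N ⊓ Subgroup.center R : Subgroup R) := hR.to_subgroup _
  have hcard : p ∣ Nat.card (N ⊓ Subgroup.center R : Subgroup R) := by
    obtain ⟨k, hk⟩ := IsPGroup.iff_card.mp hp
    have : k ≠ 0 := by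
      rintro rfl
      rw [pow_zero] at hk
      exact h1 (Subgroup.card_eq_one.mp hk)
    rw [hk]; exact dvd_pow_self p this
  obtain ⟨⟨z, hz⟩, hzord⟩ := exists_prime_orderOf_dvd_card' p hcard
  exact ⟨z, hz.1, hz.2, by rw [← hzord]; exact Subgroup.orderOf_coe ⟨z, hz⟩⟩

theorem exists_normal_card_sq {R : Type u} [Group R] [Finite R] {p : ℕ} [Fact p.Prime]
    (hR : IsPGroup p R) (N : Subgroup R) [N.Normal] (hN : p ^ 2 ≤ Nat.card N) :
    ∃ A : Subgroup R, A.Normal ∧ A ≤ N ∧ Nat.card A = p ^ 2 := by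
  have hp := (Fact.out : p.Prime)
  have hNbot : N ≠ ⊥ := by
    rintro rfl
    rw [Subgroup.card_bot] at hN
    nlinarith [hp.two_le]
  obtain ⟨z, hzN, hzc, hzo⟩ := exists_central_order_p hR N hNbot
  have hZc : Subgroup.zpowers z ≤ Subgroup.center R := Subgroup.zpowers_le.mpr hzc
  haveI hZn : (Subgroup.zpowers z).Normal := normal_of_le_center' hZc
  have hZcard : Nat.card (Subgroup.zpowers z) = p := by rw [Nat.card_zpowers, hzo]
  have hZN : Subgroup.zpowers z ≤ N := Subgroup.zpowers_le.mpr hzN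
  have hQ : IsPGroup p (R ⧸ Subgroup.zpowers z) := hR.to_quotient _
  haveI : (N.map (QuotientGroup.mk' (Subgroup.zpowers z))).Normal :=
    Subgroup.Normal.map inferInstance _ (QuotientGroup.mk'_surjective _)
  have hN' : N.map (QuotientGroup.mk' (Subgroup.zpowers z)) ≠ ⊥ := by
    intro h
    have hle : N ≤ Subgroup.zpowers z := by
      intro x hx
      have h2 : QuotientGroup.mk' (Subgroup.zpowers z) x ∈
          N.map (QuotientGroup.mk' (Subgroup.zpowers z)) := Subgroup.mem_map_of_mem _ hx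
      rw [h, Subgroup.mem_bot] at h2
      exact (QuotientGroup.eq_one_iff x).mp h2
    have := Subgroup.card_le_of_le hle
    rw [hZcard] at this
    nlinarith [hp.two_le]
  obtain ⟨c, hcN', hcc, hco⟩ := exists_central_order_p hQ _ hN'
  have hBc : Subgroup.zpowers c ≤ Subgroup.center (R ⧸ Subgroup.zpowers z) :=
    Subgroup.zpowers_le.mpr hcc
  haveI hBn : (Subgroup.zpowers c).Normal := normal_of_le_center' hBc
  have hBcard : Nat.card (Subgroup.zpowers c) = p := by rw [Nat.card_zpowers, hco]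
  refine ⟨(Subgroup.zpowers c).comap (QuotientGroup.mk' (Subgroup.zpowers z)), inferInstance,
    ?_, ?_⟩
  · intro x hx
    have hxN' : QuotientGroup.mk' (Subgroup.zpowers z) x ∈
        N.map (QuotientGroup.mk' (Subgroup.zpowers z)) := (Subgroup.zpowers_le.mpr hcN') hx
    obtain ⟨n, hn, hnx⟩ := hxN'
    have h3 : n⁻¹ * x ∈ Subgroup.zpowers z := QuotientGroup.eq.mp hnx
    have := N.mul_mem hn (hZN h3)
    simpa using this
  · rw [card_comap_mk, hZcard, hBcard]; ring

theorem card_ker_pow_le {G : Type*} [CommGroup G] [Finite G] {p : ℕ}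
    (h1 : Nat.card (powMonoidHom p : G →* G).ker ≤ p) (k : ℕ) :
    Nat.card (powMonoidHom (p ^ k) : G →* G).ker ≤ p ^ k := by
  induction k with
  | zero =>
    have : (powMonoidHom (p ^ 0) : G →* G).ker = ⊥ := by
      ext x; simp [MonoidHom.mem_ker]
    rw [this]; simp
  | succ k ih =>
    have hrange : ((powMonoidHom p : G →* G).comp
        ((powMonoidHom (p ^ (k + 1)) : G →* G).ker).subtype).range ≤
        (powMonoidHom (p ^ k) : G →* G).ker := by
      rintro _ ⟨⟨x, hx⟩, rfl⟩
      rw [MonoidHom.mem_ker] at hx ⊢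
      show (x ^ p) ^ (p ^ k) = 1
      rw [← pow_mul, ← pow_succ']; exact hx
    have hker : Nat.card ((powMonoidHom p : G →* G).comp
        ((powMonoidHom (p ^ (k + 1)) : G →* G).ker).subtype).ker ≤
        Nat.card (powMonoidHom p : G →* G).ker := by
      apply Nat.card_le_card_of_injective
        (fun x : ((powMonoidHom p : G →* G).comp
            ((powMonoidHom (p ^ (k + 1)) : G →* G).ker).subtype).ker =>
          (⟨((x.1 : (powMonoidHom (p ^ (k + 1)) : G →* G).ker) : G), x.2⟩ :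
            (powMonoidHom p : G →* G).ker))
      intro x y hxy
      apply Subtype.ext
      apply Subtype.ext
      have h5 := congrArg Subtype.val hxy
      exact h5
    have h3 := Subgroup.card_mul_index ((powMonoidHom p : G →* G).comp
        ((powMonoidHom (p ^ (k + 1)) : G →* G).ker).subtype).ker
    rw [Subgroup.index_ker] at h3
    calc Nat.card (powMonoidHom (p ^ (k + 1)) : G →* G).ker
        = _ := h3.symm
      _ ≤ p * p ^ k := Nat.mul_le_mul (hker.trans h1) ((Subgroup.card_le_of_le hrange).trans ih)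
      _ = p ^ (k + 1) := by ring

theorem isCyclic_of_small_omega {G : Type*} [CommGroup G] [Finite G] {p : ℕ} [Fact p.Prime]
    (hG : IsPGroup p G) (h1 : Nat.card (powMonoidHom p : G →* G).ker ≤ p) : IsCyclic G := by
  classical
  haveI : Fintype G := Fintype.ofFinite G
  apply isCyclic_of_card_pow_eq_one_le
  intro n hn
  obtain ⟨e, he⟩ := IsPGroup.iff_card.mp hG
  obtain ⟨k, hk, hgcd⟩ := (Nat.dvd_prime_pow (Fact.out : p.Prime)).mp
    (he ▸ Nat.gcd_dvd_right n (Nat.card G))
  have hsub : (Finset.univ.filter fun a : G => a ^ n = 1).card ≤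
      Nat.card (powMonoidHom (p ^ k) : G →* G).ker := by
    rw [Nat.card_eq_fintype_card, Fintype.card_of_subtype
      (Finset.univ.filter fun a : G => a ^ (p ^ k) = 1) (fun x => by simp [MonoidHom.mem_ker])]
    apply Finset.card_le_card
    intro a ha
    rw [Finset.mem_filter] at ha ⊢
    refine ⟨Finset.mem_univ _, ?_⟩
    rw [← hgcd, ← orderOf_dvd_iff_pow_eq_one]
    exact Nat.dvd_gcd (orderOf_dvd_of_pow_eq_one ha.2) (he ▸ orderOf_dvd_natCard a)
  calc _ ≤ Nat.card (powMonoidHom (p ^ k) : G →* G).ker := hsub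
    _ ≤ p ^ k := card_ker_pow_le h1 k
    _ ≤ n := Nat.le_of_dvd hn (hgcd ▸ Nat.gcd_dvd_left n _)

theorem exists_exp_p_of_comm {G : Type u} [Group G] [Finite G] {p : ℕ} [Fact p.Prime]
    (hG : IsPGroup p G) (hcomm : ∀ a b : G, a * b = b * a) (hnc : ¬ IsCyclic G) :
    ∃ W : Subgroup G, W.Normal ∧ (∀ x ∈ W, x ^ p = 1) ∧ p ^ 2 ≤ Nat.card W := by
  classical
  letI : CommGroup G := { (inferInstance : Group G) with mul_comm := hcomm }
  refine ⟨(powMonoidHom p : G →* G).ker, inferInstance, fun x hx => hx, ?_⟩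
  by_contra hlt
  push Not at hlt
  apply hnc
  have hp := (Fact.out : p.Prime)
  have h1 : Nat.card (powMonoidHom p : G →* G).ker ≤ p := by
    obtain ⟨j, hj⟩ := IsPGroup.iff_card.mp (hG.to_subgroup (powMonoidHom p : G →* G).ker)
    rw [hj] at hlt ⊢
    have : j < 2 := (Nat.pow_lt_pow_iff_right hp.one_lt).mp hlt
    calc p ^ j ≤ p ^ 1 := Nat.pow_le_pow_right hp.pos (by omega)
      _ = p := pow_one p
  exact isCyclic_of_small_omega hG h1

theorem exists_exp_p_of_quot {R : Type u} [Group R] [Finite R] {p : ℕ} [Fact p.Prime]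
    (hp2 : p ≠ 2) (Z : Subgroup R) [Z.Normal] (hZc : Z ≤ Subgroup.center R)
    (hZcard : Nat.card Z = p) (Ab : Subgroup (R ⧸ Z)) [Ab.Normal]
    (hAb : Cfsg.IsElementaryAbelian p Ab) (hAbcard : Nat.card Ab = p ^ 2) :
    ∃ W : Subgroup R, W.Normal ∧ (∀ x ∈ W, x ^ p = 1) ∧ p ^ 2 ≤ Nat.card W := by
  have hp := (Fact.out : p.Prime)
  have hEcard : Nat.card (Ab.comap (QuotientGroup.mk' Z)) = p ^ 3 := by
    rw [card_comap_mk, hZcard, hAbcard]; ring
  have hZpow : ∀ c ∈ Z, c ^ p = 1 := by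
    intro c hc
    have := pow_card_eq_one' (G := Z) (x := ⟨c, hc⟩)
    rw [hZcard] at this
    exact congrArg Subtype.val this
  have hEpow : ∀ x ∈ Ab.comap (QuotientGroup.mk' Z), x ^ p ∈ Z := by
    intro x hx
    have h1 : (QuotientGroup.mk' Z x) ^ p = 1 := hAb.2 _ hx
    rw [← map_pow] at h1
    exact (QuotientGroup.eq_one_iff _).mp h1
  have hEcomm : ∀ x ∈ Ab.comap (QuotientGroup.mk' Z), ∀ y ∈ Ab.comap (QuotientGroup.mk' Z),
      (x * y)⁻¹ * (y * x) ∈ Z := by
    intro x hx y hy
    haveI := hAb.1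
    have hc : (⟨_, hx⟩ : Ab) * ⟨_, hy⟩ = ⟨_, hy⟩ * ⟨_, hx⟩ := mul_comm' _ _
    have h1 : QuotientGroup.mk' Z (x * y) = QuotientGroup.mk' Z (y * x) := by
      rw [map_mul, map_mul]; exact congrArg Subtype.val hc
    exact QuotientGroup.eq.mp h1
  have hmul : ∀ x ∈ Ab.comap (QuotientGroup.mk' Z), ∀ y ∈ Ab.comap (QuotientGroup.mk' Z),
      (x * y) ^ p = x ^ p * y ^ p := by
    intro x hx y hy
    have hcZ : (x * y)⁻¹ * (y * x) ∈ Z := hEcomm x hx y hy
    have hcen := Subgroup.mem_center_iff.mp (hZc hcZ)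
    have h : y * x = x * y * ((x * y)⁻¹ * (y * x)) := by group
    have := Helper6.mul_pow_of_central_comm x y _ h (hcen x).symm (hcen y).symm p
    rw [this]
    have hdvd : p ∣ p.choose 2 :=
      hp.dvd_choose_self (by norm_num) (lt_of_le_of_ne hp.two_le (Ne.symm hp2))
    obtain ⟨t, ht⟩ := hdvd
    rw [ht, pow_mul, hZpow _ hcZ, one_pow, mul_one]
  let θ : (Ab.comap (QuotientGroup.mk' Z)) →* (Ab.comap (QuotientGroup.mk' Z)) :=
    { toFun := fun x => x ^ p
      map_one' := one_pow p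
      map_mul' := fun x y => Subtype.ext (hmul x x.2 y y.2) }
  have hrange : θ.range ≤ Z.subgroupOf (Ab.comap (QuotientGroup.mk' Z)) := by
    rintro _ ⟨x, rfl⟩
    rw [Subgroup.mem_subgroupOf]
    exact hEpow x x.2
  have hZE : Z ≤ Ab.comap (QuotientGroup.mk' Z) := by
    intro c hc
    show QuotientGroup.mk' Z c ∈ Ab
    have h1 : QuotientGroup.mk' Z c = 1 := (QuotientGroup.eq_one_iff c).mpr hc
    rw [h1]
    exact Ab.one_mem
  have hcardZ' : Nat.card (Z.subgroupOf (Ab.comap (QuotientGroup.mk' Z))) = p := by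
    rw [Nat.card_congr (Subgroup.subgroupOfEquivOfLe hZE).toEquiv, hZcard]
  have h3 := Subgroup.card_mul_index θ.ker
  rw [Subgroup.index_ker] at h3
  have hker : p ^ 2 ≤ Nat.card θ.ker := by
    have hle : Nat.card θ.range ≤ p := (Subgroup.card_le_of_le hrange).trans hcardZ'.le
    by_contra hlt
    push Not at hlt
    have : Nat.card θ.ker * Nat.card θ.range < p ^ 2 * p := by
      calc _ ≤ Nat.card θ.ker * p := Nat.mul_le_mul_left _ hle
        _ < p ^ 2 * p := Nat.mul_lt_mul_of_pos_right hlt hp.pos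
    rw [h3, hEcard] at this
    exact absurd this (by rw [pow_succ]; exact lt_irrefl _)
  refine ⟨θ.ker.map (Ab.comap (QuotientGroup.mk' Z)).subtype, ?_, ?_, ?_⟩
  · constructor
    intro x hx g
    obtain ⟨⟨y, hyE⟩, hyk, rfl⟩ := hx
    have hgE : g * y * g⁻¹ ∈ Ab.comap (QuotientGroup.mk' Z) :=
      (inferInstance : (Ab.comap (QuotientGroup.mk' Z)).Normal).conj_mem y hyE g
    refine ⟨⟨g * y * g⁻¹, hgE⟩, ?_, rfl⟩
    rw [SetLike.mem_coe, MonoidHom.mem_ker] at hyk ⊢
    apply Subtype.ext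
    have hy1 : y ^ p = 1 := congrArg Subtype.val hyk
    show (g * y * g⁻¹) ^ p = 1
    rw [conj_pow, hy1, mul_one, mul_inv_cancel]
  · rintro _ ⟨⟨y, hyE⟩, hyk, rfl⟩
    exact congrArg Subtype.val (MonoidHom.mem_ker.mp hyk)
  · rw [Subgroup.card_map_of_injective (Subgroup.subtype_injective _)]; exact hker

theorem exists_normal_elemAb_sq (p : ℕ) [Fact p.Prime] (hp2 : p ≠ 2) :
    ∀ (n : ℕ) (R : Type u) [Group R] [Finite R], Nat.card R = n → IsPGroup p R → ¬ IsCyclic R →
    ∃ A : Subgroup R, A.Normal ∧ Cfsg.IsElementaryAbelian p A ∧ Nat.card A = p ^ 2 := by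
  intro n
  induction n using Nat.strong_induction_on with
  | _ n ih =>
    intro R _ _ hn hR hnc
    have hp := (Fact.out : p.Prime)
    obtain ⟨W, hWn, hWexp, hWcard⟩ : ∃ W : Subgroup R, W.Normal ∧ (∀ x ∈ W, x ^ p = 1) ∧
        p ^ 2 ≤ Nat.card W := by
      by_cases hcomm : ∀ a b : R, a * b = b * a
      · exact exists_exp_p_of_comm hR hcomm hnc
      · haveI : Nontrivial R := by
          by_contra h
          rw [not_nontrivial_iff_subsingleton] at h
          exact hnc inferInstance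
        obtain ⟨z, -, hzc, hzo⟩ := exists_central_order_p hR (⊤ : Subgroup R) top_ne_bot
        have hZc : Subgroup.zpowers z ≤ Subgroup.center R := Subgroup.zpowers_le.mpr hzc
        haveI : (Subgroup.zpowers z).Normal := normal_of_le_center' hZc
        have hZcard : Nat.card (Subgroup.zpowers z) = p := by rw [Nat.card_zpowers, hzo]
        have hQnc : ¬ IsCyclic (R ⧸ Subgroup.zpowers z) := by
          intro hcyc
          apply hcomm
          exact commutative_of_cyclic_center_quotient (QuotientGroup.mk' (Subgroup.zpowers z))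
            (by rw [QuotientGroup.ker_mk']; exact hZc)
        have hQcard : Nat.card (R ⧸ Subgroup.zpowers z) < n := by
          have := Subgroup.card_eq_card_quotient_mul_card_subgroup (Subgroup.zpowers z)
          rw [hn, hZcard] at this
          have hpos : 0 < Nat.card (R ⧸ Subgroup.zpowers z) := Nat.card_pos
          nlinarith [hp.two_le]
        obtain ⟨Ab, hAbn, hAbe, hAbc⟩ := ih _ hQcard (R ⧸ Subgroup.zpowers z) rfl
          (hR.to_quotient _) hQnc
        haveI := hAbn
        exact exists_exp_p_of_quot hp2 (Subgroup.zpowers z) hZc hZcard Ab hAbe hAbc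
    haveI := hWn
    obtain ⟨A, hAn, hAW, hAcard⟩ := exists_normal_card_sq hR W hWcard
    refine ⟨A, hAn, ⟨?_, fun a ha => hWexp a (hAW ha)⟩, hAcard⟩
    exact ⟨⟨IsPGroup.commutative_of_card_eq_prime_sq hAcard⟩⟩

end Cfsg.Agent.Lib.Lead
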