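import Mathlib
import Cfsg.Agent.Lib.Lead.NormalEA
import Cfsg.Agent.Lib.Lead.QuatLift
import Cfsg.Agent.Lib.Helper5.DStar

namespace Cfsg.Agent.Lib.Lead

universe u

/-- at most one involution -/
def UniqInv (G : Type*) [Group G] : Prop :=
  ∀ x y : G, x ^ 2 = 1 → x ≠ 1 → y ^ 2 = 1 → y ≠ 1 → x = y

theorem card_le_two_of_uniq {S : Type*} [Group S] [Finite S]
    (h : ∀ x y : S, x ≠ 1 → y ≠ 1 → x = y) : Nat.card S ≤ 2 := by
  classical
  haveI := Fintype.ofFinite S
  rw [Nat.card_eq_fintype_card]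
  by_contra hlt
  push Not at hlt
  obtain ⟨a, b, c, hab, hac, hbc⟩ := Fintype.two_lt_card_iff.mp hlt
  by_cases ha : a = 1
  · exact hbc (h b c (fun hb => hab (ha.trans hb.symm)) (fun hc => hac (ha.trans hc.symm)))
  · by_cases hb : b = 1
    · exact hac (h a c ha (fun hc => hbc (hb.trans hc.symm)))
    · exact hab (h a b ha hb)

theorem mem_iff_pow_card_of_cyclic {A : Type*} [Group A] [Finite A] [IsCyclic A] (H : Subgroup A)
    (c : A) : c ∈ H ↔ c ^ Nat.card H = 1 := by
  classical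
  haveI := Fintype.ofFinite A
  constructor
  · intro hc
    have := pow_card_eq_one' (G := H) (x := ⟨c, hc⟩)
    exact congrArg Subtype.val this
  · intro hc
    have hsub : (Finset.univ.filter fun a : A => a ∈ H) ⊆
        (Finset.univ.filter fun a : A => a ^ Nat.card H = 1) := by
      intro a ha
      rw [Finset.mem_filter] at ha ⊢
      refine ⟨ha.1, ?_⟩
      have := pow_card_eq_one' (G := H) (x := ⟨a, ha.2⟩)
      exact congrArg Subtype.val this
    have hcard : (Finset.univ.filter fun a : A => a ^ Nat.card H = 1).card ≤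
        (Finset.univ.filter fun a : A => a ∈ H).card := by
      have h1 : (Finset.univ.filter fun a : A => a ∈ H).card = Nat.card H := by
        rw [Nat.card_eq_fintype_card, Fintype.card_subtype]
      rw [h1]
      exact IsCyclic.card_pow_eq_one_le Nat.card_pos
    have heq := Finset.eq_of_subset_of_card_le hsub hcard
    have : c ∈ (Finset.univ.filter fun a : A => a ^ Nat.card H = 1) :=
      Finset.mem_filter.mpr ⟨Finset.mem_univ _, hc⟩
    rw [← heq] at this
    exact (Finset.mem_filter.mp this).2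

theorem cyclic_two_chain {A : Type*} [Group A] [Finite A] [IsCyclic A] (hA : IsPGroup 2 A)
    (H K : Subgroup A) : H ≤ K ∨ K ≤ H := by
  obtain ⟨i, hi⟩ := IsPGroup.iff_card.mp (hA.to_subgroup H)
  obtain ⟨j, hj⟩ := IsPGroup.iff_card.mp (hA.to_subgroup K)
  rcases le_total i j with h | h
  · left; intro c hc
    rw [mem_iff_pow_card_of_cyclic] at hc ⊢
    rw [hj]; rw [hi] at hc
    obtain ⟨t, rfl⟩ := Nat.exists_eq_add_of_le h
    rw [pow_add, pow_mul, hc, one_pow]
  · right; intro c hc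
    rw [mem_iff_pow_card_of_cyclic] at hc ⊢
    rw [hi]; rw [hj] at hc
    obtain ⟨t, rfl⟩ := Nat.exists_eq_add_of_le h
    rw [pow_add, pow_mul, hc, one_pow]

variable {G : Type u} [Group G] [Finite G]

theorem invert_of_sq_mem (hU : UniqInv G) (A : Subgroup G) [hAn : A.Normal] [hAc : IsCyclic A]
    (hA2 : IsPGroup 2 A) (hCA : Subgroup.centralizer (A : Set G) ≤ A) (x : G) (hxA : x ∉ A)
    (hx2 : x ^ 2 ∈ A) :
    (∀ c ∈ A, x * c * x⁻¹ = c⁻¹) ∧ x ^ 2 ≠ 1 ∧ (x ^ 2) ^ 2 = 1 := by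
  classical
  have hcomm : ∀ c d : A, c * d = d * c := fun c d => by
    letI := IsCyclic.commGroup (α := A); exact mul_comm c d
  have hAbot : A ≠ ⊥ := by
    rintro rfl
    apply hxA
    apply hCA
    rw [Subgroup.mem_centralizer_iff]
    intro c hc
    rw [Subgroup.mem_bot.mp hc]; simp
  obtain ⟨z, hzA, hz1, hz2⟩ : ∃ z ∈ A, z ≠ 1 ∧ z ^ 2 = 1 := by
    have hcard : 2 ∣ Nat.card A := by
      obtain ⟨k, hk⟩ := IsPGroup.iff_card.mp hA2
      have : k ≠ 0 := by
        rintro rfl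
        rw [pow_zero] at hk
        exact hAbot (Subgroup.card_eq_one.mp hk)
      rw [hk]; exact dvd_pow_self 2 this
    obtain ⟨⟨z, hz⟩, hzo⟩ := exists_prime_orderOf_dvd_card' 2 hcard
    have hzo' : orderOf z = 2 := by rw [← hzo]; exact Subgroup.orderOf_coe ⟨z, hz⟩
    refine ⟨z, hz, ?_, ?_⟩
    · intro h; rw [h, orderOf_one] at hzo'; norm_num at hzo'
    · rw [← hzo']; exact pow_orderOf_eq_one z
  let σ : A →* A := ((MulAut.conj x).toMonoidHom.comp A.subtype).codRestrict A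
    (fun c => hAn.conj_mem c c.2 x)
  have hσ : ∀ c : A, ((σ c : A) : G) = x * c * x⁻¹ := fun c => rfl
  let Nm : A →* A := MonoidHom.mk' (fun c => c * σ c) (fun c d => by
    rw [map_mul]
    calc c * d * (σ c * σ d) = c * (d * σ c) * σ d := by group
      _ = c * (σ c * d) * σ d := by rw [hcomm d (σ c)]
      _ = c * σ c * (d * σ d) := by group)
  have hNm : ∀ c : A, Nm c = c * σ c := fun c => rfl
  have hσσ : ∀ c : A, σ (σ c) = c := by
    intro c
    apply Subtype.ext
    rw [hσ, hσ]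
    have h1 : x ^ 2 * (c : G) = (c : G) * x ^ 2 := congrArg Subtype.val (hcomm ⟨x ^ 2, hx2⟩ c)
    rw [pow_two] at h1
    calc x * (x * (c : G) * x⁻¹) * x⁻¹ = (x * x * (c : G)) * x⁻¹ * x⁻¹ := by group
      _ = ((c : G) * (x * x)) * x⁻¹ * x⁻¹ := by rw [h1]
      _ = c := by group
  have hNmC : ∀ c : A, σ (Nm c) = Nm c := by
    intro c
    rw [hNm, map_mul, hσσ, hcomm]
  have hσx2 : σ ⟨x ^ 2, hx2⟩ = ⟨x ^ 2, hx2⟩ := by
    apply Subtype.ext; rw [hσ]; show x * x ^ 2 * x⁻¹ = x ^ 2; group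
  have hsq1 : ∀ c : A, c ^ 2 = 1 → c = 1 ∨ c = ⟨z, hzA⟩ := by
    intro c hc
    by_cases h1 : c = 1
    · left; exact h1
    · right
      apply Subtype.ext
      apply hU (c : G) z
      · exact congrArg Subtype.val hc
      · intro h; exact h1 (Subtype.ext h)
      · exact hz2
      · exact hz1
  have hx2N : ∀ d : A, Nm d ≠ ⟨x ^ 2, hx2⟩ := by
    intro d hd
    have e1 : ((Nm d⁻¹ : A) : G) = (d : G)⁻¹ * (x * (d : G)⁻¹ * x⁻¹) := rfl
    have e2 : ((d : G)⁻¹ * x) ^ 2 = ((Nm d⁻¹ : A) : G) * x ^ 2 := by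
      rw [e1, pow_two, pow_two]; group
    rw [map_inv, hd] at e2
    have e3 : ((d : G)⁻¹ * x) ^ 2 = 1 := by
      rw [e2]
      show (x ^ 2)⁻¹ * x ^ 2 = 1
      exact inv_mul_cancel _
    have e4 : (d : G)⁻¹ * x ≠ 1 := by
      intro h
      apply hxA
      have : x = d := by
        calc x = (d : G) * ((d : G)⁻¹ * x) := by group
          _ = d := by rw [h, mul_one]
      rw [this]; exact d.2
    have e5 := hU _ z e3 e4 hz2 hz1
    apply hxA
    have : x = (d : G) * z := by rw [← e5]; group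
    rw [this]
    exact A.mul_mem d.2 hzA
  have hker : ∀ c : A, c ∈ Nm.ker → σ c = c⁻¹ := by
    intro c hc
    rw [MonoidHom.mem_ker, hNm] at hc
    exact eq_inv_of_mul_eq_one_right hc
  rcases cyclic_two_chain hA2 (σ.eqLocus (MonoidHom.id A)) Nm.ker with h | h
  · -- C ≤ I
    have hCsq : ∀ c : A, σ c = c → c ^ 2 = 1 := by
      intro c hc
      have h1 := hker c (h hc)
      rw [hc] at h1
      rw [pow_two]
      calc c * c = c * c⁻¹ := by rw [← h1]
        _ = 1 := mul_inv_cancel c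
    have hx21 : (⟨x ^ 2, hx2⟩ : A) ≠ 1 := by
      intro h1
      apply hx2N 1
      rw [map_one, h1]
    have hx2z : (⟨x ^ 2, hx2⟩ : A) = ⟨z, hzA⟩ := by
      rcases hsq1 _ (hCsq _ hσx2) with h1 | h1
      · exact absurd h1 hx21
      · exact h1
    refine ⟨?_, ?_, ?_⟩
    · intro c hc
      have h1 : Nm ⟨c, hc⟩ = 1 := by
        rcases hsq1 _ (hCsq _ (hNmC ⟨c, hc⟩)) with h1 | h1
        · exact h1
        · exact absurd (h1.trans hx2z.symm) (hx2N ⟨c, hc⟩)
      have h2 := hker ⟨c, hc⟩ (MonoidHom.mem_ker.mpr h1)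
      exact congrArg Subtype.val h2
    · intro h1
      exact hx21 (Subtype.ext h1)
    · have := congrArg Subtype.val (hCsq _ hσx2)
      exact this
  · -- I ≤ C
    exfalso
    have hIsq : ∀ c : A, c ∈ Nm.ker → c ^ 2 = 1 := by
      intro c hc
      have h1 := hker c hc
      have h2 : σ c = c := h hc
      rw [h2] at h1
      rw [pow_two]
      calc c * c = c * c⁻¹ := by rw [← h1]
        _ = 1 := mul_inv_cancel c
    have hIcard : Nat.card Nm.ker ≤ 2 := by
      apply card_le_two_of_uniq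
      rintro ⟨c, hc⟩ ⟨d, hd⟩ hc1 hd1
      apply Subtype.ext
      show c = d
      rcases hsq1 c (hIsq c hc) with h1 | h1
      · exact absurd (Subtype.ext h1) hc1
      · rcases hsq1 d (hIsq d hd) with h2 | h2
        · exact absurd (Subtype.ext h2) hd1
        · rw [h1, h2]
    have h3 := Subgroup.card_mul_index Nm.ker
    rw [Subgroup.index_ker] at h3
    have hRC : Nm.range ≤ σ.eqLocus (MonoidHom.id A) := by
      rintro _ ⟨c, rfl⟩
      exact hNmC c
    have hCtop : σ.eqLocus (MonoidHom.id A) ≠ ⊤ := by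
      intro htop
      apply hxA
      apply hCA
      rw [Subgroup.mem_centralizer_iff]
      intro c hc
      have h1 : (⟨c, hc⟩ : A) ∈ σ.eqLocus (MonoidHom.id A) := by rw [htop]; exact Subgroup.mem_top _
      have h2 : x * c * x⁻¹ = c := congrArg Subtype.val h1
      calc c * x = (x * c * x⁻¹) * x := by rw [h2]
        _ = x * c := by group
    have hidx : 2 ≤ (σ.eqLocus (MonoidHom.id A)).index := by
      have h1 : (σ.eqLocus (MonoidHom.id A)).index ≠ 1 := fun h1 => hCtop (Subgroup.index_eq_one.mp h1)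
      have h0 : (σ.eqLocus (MonoidHom.id A)).index ≠ 0 := Subgroup.index_ne_zero_of_finite
      omega
    have h4 := Subgroup.card_mul_index (σ.eqLocus (MonoidHom.id A))
    have hle : Nat.card (σ.eqLocus (MonoidHom.id A)) ≤ Nat.card Nm.range := by
      have h5 : Nat.card (σ.eqLocus (MonoidHom.id A)) * 2 ≤ 2 * Nat.card Nm.range := by
        calc Nat.card (σ.eqLocus (MonoidHom.id A)) * 2
            ≤ Nat.card (σ.eqLocus (MonoidHom.id A)) * (σ.eqLocus (MonoidHom.id A)).index :=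
              Nat.mul_le_mul_left _ hidx
          _ = Nat.card Nm.ker * Nat.card Nm.range := by rw [h4, h3]
          _ ≤ 2 * Nat.card Nm.range := Nat.mul_le_mul_right _ hIcard
      omega
    have hRCeq := Subgroup.eq_of_le_of_card_ge hRC hle
    have hx2R : (⟨x ^ 2, hx2⟩ : A) ∈ Nm.range := by rw [hRCeq]; exact hσx2
    obtain ⟨d, hd⟩ := hx2R
    exact hx2N d hd

theorem two_group_uniq_inv (hG : IsPGroup 2 G) (hU : UniqInv G) :
    IsCyclic G ∨ ∃ n : ℕ, Nonempty (G ≃* QuaternionGroup (2 ^ n)) := by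
  classical
  obtain ⟨A, hAn, hAc, hmax⟩ := Helper5.exists_max_normal_abelian G
  haveI := hAn
  have hAcomm : ∀ a ∈ A, ∀ b ∈ A, a * b = b * a := fun a ha b hb => by
    haveI := hAc
    exact congrArg Subtype.val (mul_comm' (⟨a, ha⟩ : A) ⟨b, hb⟩)
  have hCA := Helper5.centralizer_le_of_max_normal_abelian hG A hAn hAcomm hmax
  have hA2 : IsPGroup 2 A := hG.to_subgroup A
  haveI hAcyc : IsCyclic A := by
    letI : CommGroup A := { (inferInstance : Group A) with
      mul_comm := fun a b => Subtype.ext (hAcomm a a.2 b b.2) }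
    apply isCyclic_of_small_omega hA2
    apply card_le_two_of_uniq
    rintro ⟨c, hc⟩ ⟨d, hd⟩ hc1 hd1
    apply Subtype.ext
    apply Subtype.ext
    show (c : G) = (d : G)
    apply hU
    · exact congrArg Subtype.val (MonoidHom.mem_ker.mp hc)
    · intro h; apply hc1; apply Subtype.ext; apply Subtype.ext; exact h
    · exact congrArg Subtype.val (MonoidHom.mem_ker.mp hd)
    · intro h; apply hd1; apply Subtype.ext; apply Subtype.ext; exact h
  by_cases hAtop : A = ⊤
  · left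
    apply isCyclic_of_surjective A.subtype
    intro g
    exact ⟨⟨g, by rw [hAtop]; exact Subgroup.mem_top g⟩, rfl⟩
  right
  obtain ⟨gA, hgA⟩ := IsCyclic.exists_generator (α := A)
  have hgord : orderOf (gA : G) = Nat.card A := by
    rw [Subgroup.orderOf_coe]; exact orderOf_eq_card_of_forall_mem_zpowers hgA
  have hpow : ∀ c ∈ A, ∃ k : ℕ, (gA : G) ^ k = c := by
    intro c hc
    have h1 := hgA ⟨c, hc⟩
    rw [← mem_powers_iff_mem_zpowers] at h1
    obtain ⟨k, hk⟩ := (Submonoid.mem_powers_iff _ _).mp h1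
    exact ⟨k, congrArg Subtype.val hk⟩
  obtain ⟨n, hn⟩ := IsPGroup.iff_card.mp hA2
  have hn2 : 2 ≤ n := by
    by_contra hlt
    apply hAtop
    have hc2 : ∀ c ∈ A, c ^ 2 = 1 := by
      intro c hc
      have h1 := pow_card_eq_one' (G := A) (x := ⟨c, hc⟩)
      rw [hn] at h1
      have h2 : c ^ (2 ^ n) = 1 := congrArg Subtype.val h1
      have hn' : n = 0 ∨ n = 1 := by omega
      rcases hn' with rfl | rfl
      · rw [pow_zero, pow_one] at h2; rw [h2, one_pow]
      · rw [pow_one] at h2; exact h2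
    rw [eq_top_iff]
    intro g _
    apply hCA
    rw [Subgroup.mem_centralizer_iff]
    intro c hc
    by_cases hc1 : c = 1
    · rw [hc1]; simp
    · have h1 : (g⁻¹ * c * g) ^ 2 = 1 := by
        have : (g⁻¹ * c * g) ^ 2 = g⁻¹ * c ^ 2 * g := by rw [pow_two, pow_two]; group
        rw [this, hc2 c hc]; group
      have h2 : g⁻¹ * c * g ≠ 1 := by
        intro h
        apply hc1
        calc c = g * (g⁻¹ * c * g) * g⁻¹ := by group
          _ = 1 := by rw [h]; group
      have h3 := hU _ c h1 h2 (hc2 c hc) hc1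
      calc c * g = g * (g⁻¹ * c * g) := by group
        _ = g * c := by rw [h3]
  have hgN : orderOf (gA : G) = 2 ^ n := hgord.trans hn
  have h2m : 2 * 2 ^ (n - 1) = 2 ^ n := by
    rw [← pow_succ']; congr 1; omega
  have hm2 : 2 ≤ 2 ^ (n - 1) := by
    calc 2 = 2 ^ 1 := by norm_num
      _ ≤ 2 ^ (n - 1) := Nat.pow_le_pow_right (by norm_num) (by omega)
  have hgA' : (gA : G) ∈ A := gA.2
  have hz2 : ((gA : G) ^ 2 ^ (n - 1)) ^ 2 = 1 := by
    rw [← pow_mul, mul_comm, h2m, ← hgN]; exact pow_orderOf_eq_one _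
  have hz1 : (gA : G) ^ 2 ^ (n - 1) ≠ 1 :=
    pow_ne_one_of_lt_orderOf (by positivity) (by rw [hgN, ← h2m]; omega)
  have hb2 : ((gA : G) ^ 2 ^ (n - 2)) ^ 2 = (gA : G) ^ 2 ^ (n - 1) := by
    rw [← pow_mul, ← pow_succ]; congr 2; omega
  have hbA : (gA : G) ^ 2 ^ (n - 2) ∈ A := A.pow_mem hgA' _
  have hsq : ∀ x : G, x ∉ A → x ^ 2 ∈ A := by
    intro x hx
    by_contra hx2
    have hex : ∃ e : ℕ, x ^ (2 ^ e) ∈ A := by
      obtain ⟨e, he⟩ := hG x
      exact ⟨e, by rw [he]; exact A.one_mem⟩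
    have hj : x ^ (2 ^ Nat.find hex) ∈ A := Nat.find_spec hex
    have hjmin : ∀ i < Nat.find hex, x ^ (2 ^ i) ∉ A := fun i hi => Nat.find_min hex hi
    have hj2 : 2 ≤ Nat.find hex := by
      by_contra hlt
      have : Nat.find hex = 0 ∨ Nat.find hex = 1 := by omega
      rcases this with h | h
      · rw [h, pow_zero, pow_one] at hj; exact hx hj
      · rw [h, pow_one] at hj; exact hx2 hj
    generalize Nat.find hex = j at hj hjmin hj2
    have hy : (x ^ (2 ^ (j - 2))) ^ 2 = x ^ (2 ^ (j - 1)) := by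
      rw [← pow_mul, ← pow_succ]; congr 2; omega
    have hyA : (x ^ (2 ^ (j - 2))) ^ 2 ∉ A := by rw [hy]; exact hjmin _ (by omega)
    have hy2A : ((x ^ (2 ^ (j - 2))) ^ 2) ^ 2 ∈ A := by
      rw [hy, ← pow_mul, ← pow_succ]
      have : j - 1 + 1 = j := by omega
      rw [this]; exact hj
    obtain ⟨hinv, -, -⟩ := invert_of_sq_mem hU A hA2 hCA _ hyA hy2A
    generalize x ^ (2 ^ (j - 2)) = w at hinv
    generalize hbdef : (gA : G) ^ 2 ^ (n - 2) = b at hb2 hbA
    generalize hzdef : (gA : G) ^ 2 ^ (n - 1) = z at hz1 hz2 hb2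
    have hτb : w * b * w⁻¹ ∈ A := hAn.conj_mem b hbA w
    have hτz : w * z * w⁻¹ = z := by
      apply hU
      · rw [conj_pow, hz2, mul_one, mul_inv_cancel]
      · intro h
        apply hz1
        calc z = w⁻¹ * (w * z * w⁻¹) * w := by group
          _ = 1 := by rw [h]; group
      · exact hz2
      · exact hz1
    have h1 : (w * b * w⁻¹) ^ 2 = b ^ 2 := by rw [conj_pow, hb2, hτz]
    have h2 : ((w * b * w⁻¹) * b⁻¹) ^ 2 = 1 := by
      have hc := hAcomm _ hτb _ (A.inv_mem hbA)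
      rw [pow_two]
      calc (w * b * w⁻¹ * b⁻¹) * (w * b * w⁻¹ * b⁻¹)
          = (w * b * w⁻¹) * (b⁻¹ * (w * b * w⁻¹)) * b⁻¹ := by group
        _ = (w * b * w⁻¹) * ((w * b * w⁻¹) * b⁻¹) * b⁻¹ := by rw [hc]
        _ = (w * b * w⁻¹) ^ 2 * (b ^ 2)⁻¹ := by rw [pow_two, pow_two]; group
        _ = 1 := by rw [h1]; exact mul_inv_cancel _
    have h3 : w * b * w⁻¹ = b ∨ w * b * w⁻¹ = z * b := by
      by_cases h : (w * b * w⁻¹) * b⁻¹ = 1
      · left; exact mul_inv_eq_one.mp h
      · right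
        have := hU _ z h2 h hz2 hz1
        rw [← this]; group
    have h4 : w ^ 2 * b * (w ^ 2)⁻¹ = b := by
      rcases h3 with h | h
      · calc w ^ 2 * b * (w ^ 2)⁻¹ = w * (w * b * w⁻¹) * w⁻¹ := by rw [pow_two]; group
          _ = b := by rw [h, h]
      · calc w ^ 2 * b * (w ^ 2)⁻¹ = w * (w * b * w⁻¹) * w⁻¹ := by rw [pow_two]; group
          _ = w * (z * b) * w⁻¹ := by rw [h]
          _ = (w * z * w⁻¹) * (w * b * w⁻¹) := by group
          _ = z * (z * b) := by rw [hτz, h]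
          _ = z ^ 2 * b := by rw [pow_two, mul_assoc]
          _ = b := by rw [hz2, one_mul]
    have h5 := hinv b hbA
    rw [h4] at h5
    apply hz1
    rw [← hb2, pow_two]
    calc b * b = b * b⁻¹ := by rw [← h5]
      _ = 1 := mul_inv_cancel b
  have hkey : ∀ x : G, x ∉ A → (∀ c ∈ A, x * c * x⁻¹ = c⁻¹) ∧ x ^ 2 = (gA : G) ^ 2 ^ (n - 1) := by
    intro x hx
    obtain ⟨h1, h2, h3⟩ := invert_of_sq_mem hU A hA2 hCA x hx (hsq x hx)
    exact ⟨h1, hU _ _ h3 h2 hz2 hz1⟩
  obtain ⟨x, hx⟩ : ∃ x : G, x ∉ A := by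
    by_contra hcon
    push Not at hcon
    exact hAtop (eq_top_iff.mpr fun g _ => hcon g)
  obtain ⟨hxinv, hxsq⟩ := hkey x hx
  haveI : NeZero (2 ^ (n - 1)) := ⟨by positivity⟩
  have hX : (gA : G) ^ (2 * 2 ^ (n - 1)) = 1 := by rw [h2m, ← hgN]; exact pow_orderOf_eq_one _
  have hXY : (gA : G) * x * (gA : G) = x := by
    have := hxinv _ hgA'
    calc (gA : G) * x * (gA : G) = (gA : G) * (x * (gA : G) * x⁻¹) * x := by group
      _ = (gA : G) * (gA : G)⁻¹ * x := by rw [this]
      _ = x := by group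
  have hinj := quatHom_injective (2 ^ (n - 1)) (gA : G) x hX hxsq hXY (by rw [hgN, h2m]) hm2
  have hsurj : Function.Surjective (quatHom (2 ^ (n - 1)) (gA : G) x hX hxsq hXY) := by
    intro u
    by_cases hu : u ∈ A
    · obtain ⟨k, hk⟩ := hpow u hu
      refine ⟨QuaternionGroup.a (k : ZMod (2 * 2 ^ (n - 1))), ?_⟩
      rw [quatHom_a, ZMod.val_natCast, ← pow_eq_pow_mod k hX, hk]
    · have hxu : x⁻¹ * u ∈ A := by
        apply hCA
        rw [Subgroup.mem_centralizer_iff]
        intro c hc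
        obtain ⟨huinv, -⟩ := hkey u hu
        have e1 := hxinv c hc
        have e2 := huinv c hc
        have e3 : x⁻¹ * u * c = c * (x⁻¹ * u) := by
          calc x⁻¹ * u * c = x⁻¹ * (u * c * u⁻¹) * u := by group
            _ = x⁻¹ * c⁻¹ * u := by rw [e2]
            _ = x⁻¹ * (x * c * x⁻¹) * u := by rw [e1]
            _ = c * (x⁻¹ * u) := by group
        exact e3.symm
      obtain ⟨k, hk⟩ := hpow _ hxu
      refine ⟨QuaternionGroup.xa (k : ZMod (2 * 2 ^ (n - 1))), ?_⟩
      rw [quatHom_xa, ZMod.val_natCast, ← pow_eq_pow_mod k hX, hk]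
      group
  exact ⟨n - 1, ⟨(MulEquiv.ofBijective _ ⟨hinj, hsurj⟩).symm⟩⟩

theorem unique_subgroup_order_p (p : ℕ) [Fact p.Prime] (hG : IsPGroup p G)
    (huniq : ∀ H K : Subgroup G, Nat.card H = p → Nat.card K = p → H = K) :
    IsCyclic G ∨ (p = 2 ∧ ∃ n : ℕ, Nonempty (G ≃* QuaternionGroup (2 ^ n))) := by
  have hp := (Fact.out : p.Prime)
  by_cases hp2 : p = 2
  · subst hp2
    have hU : UniqInv G := by
      intro x y hx2 hx1 hy2 hy1
      have hox : orderOf x = 2 := orderOf_eq_prime hx2 hx1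
      have hoy : orderOf y = 2 := orderOf_eq_prime hy2 hy1
      have h := huniq (Subgroup.zpowers x) (Subgroup.zpowers y)
        (by rw [Nat.card_zpowers, hox]) (by rw [Nat.card_zpowers, hoy])
      have hy : y ∈ Subgroup.zpowers x := by rw [h]; exact Subgroup.mem_zpowers y
      rw [← mem_powers_iff_mem_zpowers] at hy
      obtain ⟨k, hk⟩ := (Submonoid.mem_powers_iff _ _).mp hy
      rcases Nat.even_or_odd k with ⟨t, ht⟩ | ⟨t, ht⟩
      · exfalso; apply hy1; rw [← hk, ht, ← two_mul, pow_mul, hx2, one_pow]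
      · rw [← hk, ht, pow_succ, pow_mul, hx2, one_pow, one_mul]
    rcases two_group_uniq_inv hG hU with h | h
    · left; exact h
    · right; exact ⟨rfl, h⟩
  · left
    by_contra hnc
    obtain ⟨A, -, ⟨hAc, hAexp⟩, hAcard⟩ := exists_normal_elemAb_sq p hp2 _ G rfl hG hnc
    have hne : A ≠ ⊥ := by
      rintro rfl
      rw [Subgroup.card_bot] at hAcard
      nlinarith [hp.two_le]
    obtain ⟨⟨a, haA⟩, ha1⟩ := (Subgroup.ne_bot_iff_exists_ne_one).mp hne
    have ha1' : a ≠ 1 := fun h => ha1 (Subtype.ext h)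
    have hoa : orderOf a = p := orderOf_eq_prime (hAexp a haA) ha1'
    have hcarda : Nat.card (Subgroup.zpowers a) = p := by rw [Nat.card_zpowers, hoa]
    obtain ⟨b, hbA, hb⟩ : ∃ b ∈ A, b ∉ Subgroup.zpowers a := by
      by_contra hcon
      push Not at hcon
      have hle : A ≤ Subgroup.zpowers a := hcon
      have := Subgroup.card_le_of_le hle
      rw [hAcard, hcarda] at this
      nlinarith [hp.two_le]
    have hb1 : b ≠ 1 := fun h => hb (h ▸ Subgroup.one_mem _)
    have hob : orderOf b = p := orderOf_eq_prime (hAexp b hbA) hb1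
    have := huniq (Subgroup.zpowers a) (Subgroup.zpowers b) hcarda
      (by rw [Nat.card_zpowers, hob])
    exact hb (this ▸ Subgroup.mem_zpowers b)

end Cfsg.Agent.Lib.Lead
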