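import Mathlib

namespace Cfsg.Agent.Lib.Lead

open Matrix Projectivization
open scoped LinearAlgebra.Projectivization MatrixGroups

variable {F : Type*} [Field F]

/-- 2x2 determinant of two vectors -/
def det2 (u v : Fin 2 → F) : F := u 0 * v 1 - u 1 * v 0

theorem exists_smul_of_det2_eq_zero (u v : Fin 2 → F) (hv : v ≠ 0) (h : det2 u v = 0) :
    ∃ a : F, a • v = u := by
  unfold det2 at h
  by_cases h0 : v 0 = 0
  · have h1 : v 1 ≠ 0 := by
      intro h1
      apply hv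
      funext i
      fin_cases i
      · exact h0
      · exact h1
    have hu0 : u 0 = 0 := by
      rw [h0, mul_zero, sub_zero] at h
      exact (mul_eq_zero.mp h).resolve_right h1
    refine ⟨u 1 / v 1, ?_⟩
    funext i
    fin_cases i
    · show u 1 / v 1 * v 0 = u 0
      rw [h0, hu0, mul_zero]
    · show u 1 / v 1 * v 1 = u 1
      field_simp
  · refine ⟨u 0 / v 0, ?_⟩
    funext i
    fin_cases i
    · show u 0 / v 0 * v 0 = u 0
      field_simp
    · show u 0 / v 0 * v 1 = u 1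
      field_simp
      linear_combination h

theorem det2_ne_zero_of_mk_ne (u v : Fin 2 → F) (hu : u ≠ 0) (hv : v ≠ 0)
    (h : mk F u hu ≠ mk F v hv) : det2 u v ≠ 0 := by
  intro h0
  obtain ⟨a, ha⟩ := exists_smul_of_det2_eq_zero u v hv h0
  exact h ((mk_eq_mk_iff' F u v hu hv).mpr ⟨a, ha⟩)

/-- the frame matrix -/
def frameMat (u0 u1 u2 : Fin 2 → F) : Matrix (Fin 2) (Fin 2) F :=
  !![det2 u2 u1 * u0 0, det2 u0 u2 * u1 0; det2 u2 u1 * u0 1, det2 u0 u2 * u1 1]

theorem det_frameMat (u0 u1 u2 : Fin 2 → F) :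
    (frameMat u0 u1 u2).det = det2 u2 u1 * det2 u0 u2 * det2 u0 u1 := by
  unfold frameMat det2
  rw [Matrix.det_fin_two_of]
  ring

theorem frameMat_e0 (u0 u1 u2 : Fin 2 → F) :
    frameMat u0 u1 u2 *ᵥ ![1, 0] = det2 u2 u1 • u0 := by
  funext i
  fin_cases i <;> simp [frameMat, Matrix.mulVec, dotProduct, Fin.sum_univ_two]

theorem frameMat_e1 (u0 u1 u2 : Fin 2 → F) :
    frameMat u0 u1 u2 *ᵥ ![0, 1] = det2 u0 u2 • u1 := by
  funext i
  fin_cases i <;> simp [frameMat, Matrix.mulVec, dotProduct, Fin.sum_univ_two]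

theorem frameMat_e2 (u0 u1 u2 : Fin 2 → F) :
    frameMat u0 u1 u2 *ᵥ ![1, 1] = det2 u0 u1 • u2 := by
  funext i
  fin_cases i <;> simp [frameMat, Matrix.mulVec, dotProduct, Fin.sum_univ_two, det2] <;> ring

theorem e0_ne : (![1, 0] : Fin 2 → F) ≠ 0 := by
  intro h
  have := congrFun h 0
  simp at this

theorem e1_ne : (![0, 1] : Fin 2 → F) ≠ 0 := by
  intro h
  have := congrFun h 1
  simp at this

theorem e2_ne : (![1, 1] : Fin 2 → F) ≠ 0 := by
  intro h
  have := congrFun h 0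
  simp at this

theorem exists_frame (x : Fin 3 ↪ ℙ F (Fin 2 → F)) :
    ∃ g : GL (Fin 2) F, g • mk F ![1, 0] e0_ne = x 0 ∧ g • mk F ![0, 1] e1_ne = x 1 ∧
      g • mk F ![1, 1] e2_ne = x 2 := by
  have h01 : det2 (x 0).rep (x 1).rep ≠ 0 :=
    det2_ne_zero_of_mk_ne _ _ (x 0).rep_nonzero (x 1).rep_nonzero (by
      rw [mk_rep, mk_rep]; exact x.injective.ne (by decide))
  have h21 : det2 (x 2).rep (x 1).rep ≠ 0 :=
    det2_ne_zero_of_mk_ne _ _ (x 2).rep_nonzero (x 1).rep_nonzero (by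
      rw [mk_rep, mk_rep]; exact x.injective.ne (by decide))
  have h02 : det2 (x 0).rep (x 2).rep ≠ 0 :=
    det2_ne_zero_of_mk_ne _ _ (x 0).rep_nonzero (x 2).rep_nonzero (by
      rw [mk_rep, mk_rep]; exact x.injective.ne (by decide))
  refine ⟨Matrix.GeneralLinearGroup.mkOfDetNeZero (frameMat (x 0).rep (x 1).rep (x 2).rep) (by
    rw [det_frameMat]; exact mul_ne_zero (mul_ne_zero h21 h02) h01), ?_, ?_, ?_⟩
  · conv_rhs => rw [← mk_rep (x 0)]
    rw [smul_mk, mk_eq_mk_iff']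
    refine ⟨det2 (x 2).rep (x 1).rep, ?_⟩
    rw [Units.smul_def, Matrix.GeneralLinearGroup.val_mkOfDetNeZero, Matrix.smul_eq_mulVec,
      frameMat_e0]
  · conv_rhs => rw [← mk_rep (x 1)]
    rw [smul_mk, mk_eq_mk_iff']
    refine ⟨det2 (x 0).rep (x 2).rep, ?_⟩
    rw [Units.smul_def, Matrix.GeneralLinearGroup.val_mkOfDetNeZero, Matrix.smul_eq_mulVec,
      frameMat_e1]
  · conv_rhs => rw [← mk_rep (x 2)]
    rw [smul_mk, mk_eq_mk_iff']
    refine ⟨det2 (x 0).rep (x 1).rep, ?_⟩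
    rw [Units.smul_def, Matrix.GeneralLinearGroup.val_mkOfDetNeZero, Matrix.smul_eq_mulVec,
      frameMat_e2]

theorem GL_three_trans (x y : Fin 3 ↪ ℙ F (Fin 2 → F)) :
    ∃ g : GL (Fin 2) F, ∀ i, g • x i = y i := by
  obtain ⟨gx, hx0, hx1, hx2⟩ := exists_frame x
  obtain ⟨gy, hy0, hy1, hy2⟩ := exists_frame y
  refine ⟨gy * gx⁻¹, fun i => ?_⟩
  fin_cases i
  · show (gy * gx⁻¹) • x 0 = y 0
    rw [← hx0, mul_smul, inv_smul_smul, hy0]
  · show (gy * gx⁻¹) • x 1 = y 1
    rw [← hx1, mul_smul, inv_smul_smul, hy1]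
  · show (gy * gx⁻¹) • x 2 = y 2
    rw [← hx2, mul_smul, inv_smul_smul, hy2]

theorem fix_frame_center (g : GL (Fin 2) F)
    (h0 : g • mk F (![1, 0] : Fin 2 → F) e0_ne = mk F (![1, 0] : Fin 2 → F) e0_ne)
    (h1 : g • mk F (![0, 1] : Fin 2 → F) e1_ne = mk F (![0, 1] : Fin 2 → F) e1_ne)
    (h2 : g • mk F (![1, 1] : Fin 2 → F) e2_ne = mk F (![1, 1] : Fin 2 → F) e2_ne) :
    g ∈ Subgroup.center (GL (Fin 2) F) := by
  rw [smul_mk, mk_eq_mk_iff'] at h0 h1 h2
  obtain ⟨a, ha⟩ := h0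
  obtain ⟨b, hb⟩ := h1
  obtain ⟨c, hc⟩ := h2
  have hne : g • (![1, 0] : Fin 2 → F) ≠ 0 := (smul_ne_zero_iff_ne g).mpr e0_ne
  have ha0 : a ≠ 0 := by
    intro h
    rw [h, zero_smul] at ha
    exact hne ha.symm
  rw [Units.smul_def, Matrix.smul_eq_mulVec] at ha hb hc
  have h00 : (g : Matrix (Fin 2) (Fin 2) F) 0 0 = a := by
    have := congrFun ha 0
    simp [Matrix.mulVec, dotProduct, Fin.sum_univ_two] at this
    exact this.symm
  have h10 : (g : Matrix (Fin 2) (Fin 2) F) 1 0 = 0 := by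
    have := congrFun ha 1
    simp [Matrix.mulVec, dotProduct, Fin.sum_univ_two] at this
    exact this.symm
  have h01 : (g : Matrix (Fin 2) (Fin 2) F) 0 1 = 0 := by
    have := congrFun hb 0
    simp [Matrix.mulVec, dotProduct, Fin.sum_univ_two] at this
    exact this.symm
  have h11 : (g : Matrix (Fin 2) (Fin 2) F) 1 1 = b := by
    have := congrFun hb 1
    simp [Matrix.mulVec, dotProduct, Fin.sum_univ_two] at this
    exact this.symm
  have hab : a = b := by
    have e0 := congrFun hc 0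
    have e1 := congrFun hc 1
    simp [Matrix.mulVec, dotProduct, Fin.sum_univ_two] at e0 e1
    rw [h00, h01, add_zero] at e0
    rw [h10, h11, zero_add] at e1
    rw [← e0, ← e1]
  rw [Matrix.GeneralLinearGroup.center_eq_range_scalar]
  refine ⟨Units.mk0 a ha0, ?_⟩
  apply Matrix.GeneralLinearGroup.ext
  intro i j
  fin_cases i <;> fin_cases j
  · simp [Matrix.GeneralLinearGroup.scalar, h00]
  · simp [Matrix.GeneralLinearGroup.scalar, h01]
  · simp [Matrix.GeneralLinearGroup.scalar, h10]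
  · simp [Matrix.GeneralLinearGroup.scalar, h11, hab]

theorem fix_three_center (g : GL (Fin 2) F) (x : Fin 3 ↪ ℙ F (Fin 2 → F))
    (h : ∀ i, g • x i = x i) : g ∈ Subgroup.center (GL (Fin 2) F) := by
  obtain ⟨gx, hx0, hx1, hx2⟩ := exists_frame x
  have key : gx⁻¹ * g * gx ∈ Subgroup.center (GL (Fin 2) F) := by
    apply fix_frame_center
    · rw [mul_smul, mul_smul, hx0, h 0, ← hx0, inv_smul_smul]
    · rw [mul_smul, mul_smul, hx1, h 1, ← hx1, inv_smul_smul]
    · rw [mul_smul, mul_smul, hx2, h 2, ← hx2, inv_smul_smul]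
  have h2 : g = gx * (gx⁻¹ * g * gx) * gx⁻¹ := by group
  rw [h2]
  exact (inferInstance : (Subgroup.center (GL (Fin 2) F)).Normal).conj_mem _ key gx

/-- `PGL₂(F)` is 3-transitive on the projective line -/
theorem PGL_three_trans :
    MulAction.IsMultiplyPretransitive (Matrix.ProjGenLinGroup (Fin 2) F) (ℙ F (Fin 2 → F)) 3 := by
  rw [MulAction.isMultiplyPretransitive_iff]
  intro x y
  obtain ⟨g, hg⟩ := GL_three_trans x y
  refine ⟨Matrix.ProjGenLinGroup.mk g, ?_⟩
  ext i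
  exact hg i

theorem PGL_sharp (g : Matrix.ProjGenLinGroup (Fin 2) F) (a b c : ℙ F (Fin 2 → F))
    (hab : a ≠ b) (hac : a ≠ c) (hbc : b ≠ c) (ha : g • a = a) (hb : g • b = b) (hc : g • c = c) :
    g = 1 := by
  induction g using Matrix.ProjGenLinGroup.induction_on with
  | mk G =>
    rw [Matrix.ProjGenLinGroup.mk_eq_one]
    have hinj : Function.Injective (![a, b, c] : Fin 3 → ℙ F (Fin 2 → F)) := by
      intro i j hij
      fin_cases i <;> fin_cases j <;> simp_all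
    apply fix_three_center G ⟨![a, b, c], hinj⟩
    intro i
    fin_cases i
    · exact ha
    · exact hb
    · exact hc

theorem SL_three_trans_of_char_two [Fintype F] (h2 : ringChar F = 2) :
    MulAction.IsMultiplyPretransitive (Matrix.SpecialLinearGroup (Fin 2) F) (ℙ F (Fin 2 → F)) 3 := by
  rw [MulAction.isMultiplyPretransitive_iff]
  intro x y
  obtain ⟨g, hg⟩ := GL_three_trans x y
  obtain ⟨a, ha⟩ := FiniteField.isSquare_of_char_two h2 ((g : Matrix (Fin 2) (Fin 2) F).det)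
  have hdet : (g : Matrix (Fin 2) (Fin 2) F).det ≠ 0 := Matrix.GeneralLinearGroup.det_ne_zero g
  have ha0 : a ≠ 0 := by
    intro h
    rw [h, mul_zero] at ha
    exact hdet ha
  have hM : (a⁻¹ • (g : Matrix (Fin 2) (Fin 2) F)).det = 1 := by
    rw [Matrix.det_smul, Fintype.card_fin, ha]
    field_simp
  obtain ⟨S, hS⟩ : ∃ S : Matrix.SpecialLinearGroup (Fin 2) F,
      (S : Matrix (Fin 2) (Fin 2) F) = a⁻¹ • (g : Matrix (Fin 2) (Fin 2) F) := ⟨⟨_, hM⟩, rfl⟩
  refine ⟨S, ?_⟩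
  ext i
  have hi := hg i
  obtain ⟨v, hv, hxv⟩ : ∃ (v : Fin 2 → F) (hv : v ≠ 0), x i = mk F v hv :=
    ⟨_, (x i).rep_nonzero, (mk_rep _).symm⟩
  show S • x i = y i
  rw [hxv] at hi ⊢
  rw [smul_mk] at hi ⊢
  rw [← hi, mk_eq_mk_iff']
  refine ⟨a⁻¹, ?_⟩
  rw [Matrix.SpecialLinearGroup.smul_def, Units.smul_def, Matrix.smul_eq_mulVec,
    Matrix.smul_eq_mulVec, hS, Matrix.smul_mulVec]

theorem char_two_of_SL_three_trans [Fintype F]
    (h : MulAction.IsMultiplyPretransitive (Matrix.SpecialLinearGroup (Fin 2) F)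
      (ℙ F (Fin 2 → F)) 3)
    (hSL : (Fintype.card F - 1) * Nat.card (Matrix.SpecialLinearGroup (Fin 2) F) =
      (Fintype.card F ^ 2 - 1) * (Fintype.card F ^ 2 - Fintype.card F)) :
    ringChar F = 2 := by
  classical
  by_contra hne
  have h2 : (2 : F) ≠ 0 := by
    intro h20
    exact hne (CharP.ringChar_of_prime_eq_zero Nat.prime_two (by exact_mod_cast h20))
  obtain ⟨z, hzdef⟩ : ∃ z : Matrix.SpecialLinearGroup (Fin 2) F,
      (z : Matrix (Fin 2) (Fin 2) F) = !![-1, 0; 0, -1] :=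
    ⟨⟨!![-1, 0; 0, -1], by simp [Matrix.det_fin_two]⟩, rfl⟩
  have hz1 : z ≠ 1 := by
    intro h
    have h5 := congrArg (fun g : Matrix.SpecialLinearGroup (Fin 2) F =>
      (g : Matrix (Fin 2) (Fin 2) F) 0 0) h
    simp only [hzdef] at h5
    simp at h5
    exact h2 (by linear_combination -h5)
  have hzfix : ∀ p : ℙ F (Fin 2 → F), z • p = p := by
    intro p
    obtain ⟨v, hv, rfl⟩ : ∃ (v : Fin 2 → F) (hv : v ≠ 0), p = mk F v hv :=
      ⟨_, p.rep_nonzero, (mk_rep _).symm⟩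
    rw [smul_mk, mk_eq_mk_iff']
    refine ⟨-1, ?_⟩
    rw [Matrix.SpecialLinearGroup.smul_def, Matrix.smul_eq_mulVec, hzdef]
    funext i
    fin_cases i <;> simp [Matrix.mulVec, dotProduct, Fin.sum_univ_two]
  haveI : Finite (ℙ F (Fin 2 → F)) := by
    rw [Projectivization.finite_iff_of_finite (k := F)]
    infer_instance
  haveI := Fintype.ofFinite (ℙ F (Fin 2 → F))
  have hcardP : Fintype.card (ℙ F (Fin 2 → F)) = Fintype.card F + 1 := by
    rw [← Nat.card_eq_fintype_card, Projectivization.card_of_finrank_two F _ (by simp),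
      Nat.card_eq_fintype_card]
  have hq : 2 ≤ Fintype.card F := Fintype.one_lt_card
  obtain ⟨r, hr⟩ : ∃ r, Fintype.card F = r + 2 := ⟨Fintype.card F - 2, by omega⟩
  have hX : Nat.card (Fin 3 ↪ ℙ F (Fin 2 → F)) = (r + 1) * ((r + 2) * (r + 3)) := by
    rw [Nat.card_eq_fintype_card, Fintype.card_embedding_eq, hcardP, Fintype.card_fin, hr]
    simp [Nat.descFactorial]
  haveI : Nonempty (Fin 3 ↪ ℙ F (Fin 2 → F)) := by
    apply Function.Embedding.nonempty_of_card_le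
    rw [Fintype.card_fin, hcardP]
    omega
  obtain ⟨x⟩ := (inferInstance : Nonempty (Fin 3 ↪ ℙ F (Fin 2 → F)))
  haveI := h
  have hidx := MulAction.index_stabilizer_of_transitive (Matrix.SpecialLinearGroup (Fin 2) F) x
  have hmul := Subgroup.card_mul_index (MulAction.stabilizer (Matrix.SpecialLinearGroup (Fin 2) F) x)
  rw [hidx, hX] at hmul
  have hzmem : z ∈ MulAction.stabilizer (Matrix.SpecialLinearGroup (Fin 2) F) x := by
    rw [MulAction.mem_stabilizer_iff]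
    ext i
    exact hzfix (x i)
  have hstab : 1 < Nat.card (MulAction.stabilizer (Matrix.SpecialLinearGroup (Fin 2) F) x) := by
    rw [Subgroup.one_lt_card_iff_ne_bot]
    intro hbot
    rw [hbot, Subgroup.mem_bot] at hzmem
    exact hz1 hzmem
  rw [← hmul, hr] at hSL
  generalize Nat.card (MulAction.stabilizer (Matrix.SpecialLinearGroup (Fin 2) F) x) = s at *
  have e1 : r + 2 - 1 = r + 1 := by omega
  have e2 : (r + 2) ^ 2 - 1 = (r + 1) * (r + 3) := by
    have : (r + 2) ^ 2 = (r + 1) * (r + 3) + 1 := by ring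
    omega
  have e3 : (r + 2) ^ 2 - (r + 2) = (r + 2) * (r + 1) := by
    have : (r + 2) ^ 2 = (r + 2) * (r + 1) + (r + 2) := by ring
    omega
  rw [e1, e2, e3] at hSL
  have h5 : s * ((r + 1) * (r + 3) * ((r + 2) * (r + 1))) =
      1 * ((r + 1) * (r + 3) * ((r + 2) * (r + 1))) := by
    rw [one_mul]
    calc s * ((r + 1) * (r + 3) * ((r + 2) * (r + 1)))
        = (r + 1) * (s * ((r + 1) * ((r + 2) * (r + 3)))) := by ring
      _ = (r + 1) * (r + 3) * ((r + 2) * (r + 1)) := hSL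
  have hs := Nat.eq_of_mul_eq_mul_right (by positivity) h5
  omega

end Cfsg.Agent.Lib.Lead
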