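import Mathlib
import Cfsg.Agent.Lib.Lead.ProjLine
import Cfsg.Agent.Lib.Lead.BaerSuzuki
import Cfsg.Agent.Lib.Lead.Basic
import Cfsg.Agent.S0263

namespace Cfsg.Agent.Lib.Lead

open Matrix Projectivization
open scoped LinearAlgebra.Projectivization MatrixGroups Pointwise

variable {F : Type*} [Field F]

/-- upper unitriangular matrix -/
def uMat (b : F) : Matrix (Fin 2) (Fin 2) F := !![1, b; 0, 1]

theorem uMat_mul (b c : F) : uMat b * uMat c = uMat (b + c) := by
  unfold uMat
  ext i j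
  fin_cases i <;> fin_cases j <;> simp [Matrix.mul_apply, Fin.sum_univ_two, add_comm]

theorem uMat_zero : uMat (0 : F) = 1 := by
  unfold uMat
  ext i j
  fin_cases i <;> fin_cases j <;> simp

/-- the unipotent homomorphism into `GL₂` -/
def uGL : Multiplicative F →* GL (Fin 2) F where
  toFun b := ⟨uMat (Multiplicative.toAdd b), uMat (-(Multiplicative.toAdd b)),
    by rw [uMat_mul, add_neg_cancel, uMat_zero], by rw [uMat_mul, neg_add_cancel, uMat_zero]⟩
  map_one' := Units.ext uMat_zero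
  map_mul' a b := Units.ext (uMat_mul _ _).symm

theorem uGL_val (b : Multiplicative F) :
    ((uGL b : GL (Fin 2) F) : Matrix (Fin 2) (Fin 2) F) = uMat (Multiplicative.toAdd b) := rfl

theorem uGL_injective : Function.Injective (uGL (F := F)) := by
  intro a b hab
  have h1 := congrArg (fun g : GL (Fin 2) F => (g : Matrix (Fin 2) (Fin 2) F) 0 1) hab
  simp only [uGL_val, uMat] at h1
  simpa using h1

/-- the upper unitriangular subgroup -/
def UGL : Subgroup (GL (Fin 2) F) := (uGL (F := F)).range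

theorem card_UGL [Fintype F] : Nat.card (UGL (F := F)) = Fintype.card F := by
  unfold UGL
  rw [← Nat.card_congr (MonoidHom.ofInjective (uGL_injective (F := F))).toEquiv,
    Nat.card_eq_fintype_card]
  exact Fintype.card_congr Multiplicative.toAdd

/-- if `k u(b) = u(b') k` with `b ≠ 0` then `k` is upper triangular -/
theorem lower_zero_of_conj (k : GL (Fin 2) F) (b b' : F) (hb : b ≠ 0)
    (h : k * uGL (Multiplicative.ofAdd b) = uGL (Multiplicative.ofAdd b') * k) :
    (k : Matrix (Fin 2) (Fin 2) F) 1 0 = 0 := by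
  have h1 := congrArg (fun g : GL (Fin 2) F => (g : Matrix (Fin 2) (Fin 2) F) 1 1) h
  simp only [Units.val_mul, uGL_val, uMat, Matrix.mul_apply, Fin.sum_univ_two] at h1
  simp at h1
  rcases h1 with h1 | h1
  · exact h1
  · exact absurd h1 hb

theorem diag_eq_of_comm (k : GL (Fin 2) F) (b : F) (hb : b ≠ 0)
    (h : k * uGL (Multiplicative.ofAdd b) = uGL (Multiplicative.ofAdd b) * k) :
    (k : Matrix (Fin 2) (Fin 2) F) 0 0 = (k : Matrix (Fin 2) (Fin 2) F) 1 1 := by
  have h0 := lower_zero_of_conj k b b hb h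
  have h1 := congrArg (fun g : GL (Fin 2) F => (g : Matrix (Fin 2) (Fin 2) F) 0 1) h
  simp only [Units.val_mul, uGL_val, uMat, Matrix.mul_apply, Fin.sum_univ_two] at h1
  simp at h1
  have h2 : (k : Matrix (Fin 2) (Fin 2) F) 0 0 * b = b * (k : Matrix (Fin 2) (Fin 2) F) 1 1 := by
    linear_combination h1
  rw [mul_comm] at h2
  exact mul_left_cancel₀ hb h2

theorem diag_ne_zero_of_lower_zero (k : GL (Fin 2) F)
    (hk : (k : Matrix (Fin 2) (Fin 2) F) 1 0 = 0) :
    (k : Matrix (Fin 2) (Fin 2) F) 0 0 ≠ 0 ∧ (k : Matrix (Fin 2) (Fin 2) F) 1 1 ≠ 0 := by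
  have hdet := Matrix.GeneralLinearGroup.det_ne_zero k
  rw [Matrix.det_fin_two, hk, mul_zero, sub_zero] at hdet
  exact ⟨left_ne_zero_of_mul hdet, right_ne_zero_of_mul hdet⟩

/-- an upper triangular matrix conjugates `u(b)` to `u(a b / d)` -/
theorem conj_uGL_of_lower_zero (k : GL (Fin 2) F)
    (hk : (k : Matrix (Fin 2) (Fin 2) F) 1 0 = 0) (b : F) :
    k * uGL (Multiplicative.ofAdd b) = uGL (Multiplicative.ofAdd
      ((k : Matrix (Fin 2) (Fin 2) F) 0 0 * b / (k : Matrix (Fin 2) (Fin 2) F) 1 1)) * k := by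
  obtain ⟨ha, hd⟩ := diag_ne_zero_of_lower_zero k hk
  apply Units.ext
  simp only [Units.val_mul, uGL_val, uMat]
  ext i j
  fin_cases i <;> fin_cases j
  · simp [Matrix.mul_apply, Fin.sum_univ_two, hk]
  · simp [Matrix.mul_apply, Fin.sum_univ_two, hk]
    field_simp
    ring
  · simp [Matrix.mul_apply, Fin.sum_univ_two, hk]
  · simp [Matrix.mul_apply, Fin.sum_univ_two, hk]

/-- the standard point of the projective line -/
noncomputable def P0 : ℙ F (Fin 2 → F) := mk F (![1, 0] : Fin 2 → F) e0_ne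

theorem smul_P0_eq_iff (k : GL (Fin 2) F) :
    k • (P0 : ℙ F (Fin 2 → F)) = P0 ↔ (k : Matrix (Fin 2) (Fin 2) F) 1 0 = 0 := by
  unfold P0
  rw [smul_mk, mk_eq_mk_iff']
  constructor
  · rintro ⟨a, ha⟩
    rw [Units.smul_def, Matrix.smul_eq_mulVec] at ha
    have := congrFun ha 1
    simp [Matrix.mulVec, dotProduct, Fin.sum_univ_two] at this
    exact this.symm
  · intro h
    refine ⟨(k : Matrix (Fin 2) (Fin 2) F) 0 0, ?_⟩
    rw [Units.smul_def, Matrix.smul_eq_mulVec]
    funext i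
    fin_cases i <;> simp [Matrix.mulVec, dotProduct, Fin.sum_univ_two, h]

theorem normalizer_UGL [Finite F] :
    Subgroup.normalizer ((UGL (F := F) : Subgroup (GL (Fin 2) F)) : Set (GL (Fin 2) F)) =
      MulAction.stabilizer (GL (Fin 2) F) (P0 : ℙ F (Fin 2 → F)) := by
  haveI := Fintype.ofFinite F
  ext k
  rw [MulAction.mem_stabilizer_iff, smul_P0_eq_iff]
  constructor
  · intro hk
    have h1 : k * uGL (Multiplicative.ofAdd (1 : F)) * k⁻¹ ∈ UGL :=
      (Subgroup.mem_normalizer_iff.mp hk _).mp ⟨_, rfl⟩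
    obtain ⟨b', hb'⟩ := h1
    have h2 : k * uGL (Multiplicative.ofAdd (1 : F)) =
        uGL (Multiplicative.ofAdd (Multiplicative.toAdd b')) * k := by
      rw [show Multiplicative.ofAdd (Multiplicative.toAdd b') = b' from rfl, hb',
        inv_mul_cancel_right]
    exact lower_zero_of_conj k 1 _ one_ne_zero h2
  · intro hk
    apply mem_normalizer_of_conj_le
    rintro d ⟨b, rfl⟩
    refine ⟨Multiplicative.ofAdd ((k : Matrix (Fin 2) (Fin 2) F) 0 0 * Multiplicative.toAdd b /
      (k : Matrix (Fin 2) (Fin 2) F) 1 1), ?_⟩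
    have h3 := conj_uGL_of_lower_zero k hk (Multiplicative.toAdd b)
    rw [eq_mul_inv_iff_mul_eq]
    exact h3.symm

theorem exists_GL_smul_P0 (a : ℙ F (Fin 2 → F)) :
    ∃ g : GL (Fin 2) F, g • (P0 : ℙ F (Fin 2 → F)) = a := by
  obtain ⟨v, hv, rfl⟩ : ∃ (v : Fin 2 → F) (hv : v ≠ 0), a = mk F v hv :=
    ⟨_, a.rep_nonzero, (mk_rep _).symm⟩
  by_cases h0 : v 0 = 0
  · have h1 : v 1 ≠ 0 := by
      intro h1
      apply hv
      funext i
      fin_cases i
      · exact h0
      · exact h1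
    refine ⟨Matrix.GeneralLinearGroup.mkOfDetNeZero !![v 0, 1; v 1, 0]
      (by simp [Matrix.det_fin_two, h1]), ?_⟩
    unfold P0
    rw [smul_mk, mk_eq_mk_iff']
    refine ⟨1, ?_⟩
    rw [one_smul, Units.smul_def, Matrix.GeneralLinearGroup.val_mkOfDetNeZero,
      Matrix.smul_eq_mulVec]
    funext i
    fin_cases i <;> simp [Matrix.mulVec, dotProduct, Fin.sum_univ_two]
  · refine ⟨Matrix.GeneralLinearGroup.mkOfDetNeZero !![v 0, 0; v 1, 1]
      (by simp [Matrix.det_fin_two, h0]), ?_⟩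
    unfold P0
    rw [smul_mk, mk_eq_mk_iff']
    refine ⟨1, ?_⟩
    rw [one_smul, Units.smul_def, Matrix.GeneralLinearGroup.val_mkOfDetNeZero,
      Matrix.smul_eq_mulVec]
    funext i
    fin_cases i <;> simp [Matrix.mulVec, dotProduct, Fin.sum_univ_two]

theorem GL2_pretransitive : MulAction.IsPretransitive (GL (Fin 2) F) (ℙ F (Fin 2 → F)) :=
  ⟨fun a b => by
    obtain ⟨g, hg⟩ := exists_GL_smul_P0 a
    obtain ⟨h, hh⟩ := exists_GL_smul_P0 b
    exact ⟨h * g⁻¹, by rw [mul_smul, ← hg, inv_smul_smul, hh]⟩⟩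

section Finite

variable [Fintype F] (p : ℕ) [Fact p.Prime] [CharP F p]

theorem card_sylow_eq_card (P : Sylow p (GL (Fin 2) F)) : Nat.card P = Fintype.card F := by
  have := Cfsg.Agent.S0263.result (F := F) rfl p 2 P
  simpa using this

theorem card_UGL_eq : Nat.card (UGL (F := F)) = p ^ (Nat.card (GL (Fin 2) F)).factorization p := by
  obtain ⟨P₀⟩ := (inferInstance : Nonempty (Sylow p (GL (Fin 2) F)))
  rw [card_UGL, ← card_sylow_eq_card p P₀, P₀.card_eq_multiplicity]

/-- the unitriangular group as a Sylow subgroup -/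
noncomputable def PU : Sylow p (GL (Fin 2) F) := Sylow.ofCard UGL (card_UGL_eq p)

theorem PU_coe : ((PU p : Sylow p (GL (Fin 2) F)) : Subgroup (GL (Fin 2) F)) = UGL := rfl

theorem card_sylow_GL2 : Nat.card (Sylow p (GL (Fin 2) F)) = Fintype.card F + 1 := by
  haveI := GL2_pretransitive (F := F)
  rw [Sylow.card_eq_index_normalizer (PU p)]
  show (Subgroup.normalizer ((UGL (F := F) : Subgroup (GL (Fin 2) F)) :
    Set (GL (Fin 2) F))).index = _
  rw [normalizer_UGL,
    MulAction.index_stabilizer_of_transitive, Projectivization.card_of_finrank_two F _ (by simp),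
    Nat.card_eq_fintype_card]

theorem sylow_GL2_inf (P Q : Sylow p (GL (Fin 2) F)) (h : P ≠ Q) :
    (P : Subgroup (GL (Fin 2) F)) ⊓ (Q : Subgroup (GL (Fin 2) F)) = ⊥ := by
  obtain ⟨g, hg⟩ := MulAction.exists_smul_eq (GL (Fin 2) F) (PU p) P
  obtain ⟨h', hh⟩ := MulAction.exists_smul_eq (GL (Fin 2) F) (PU p) Q
  rw [eq_bot_iff]
  rintro x ⟨hxP, hxQ⟩
  rw [Subgroup.mem_bot]
  by_contra hx1
  apply h
  have hxP' : x ∈ MulAut.conj g • (UGL (F := F)) := by
    have : x ∈ ((g • PU p : Sylow p (GL (Fin 2) F)) : Subgroup (GL (Fin 2) F)) := by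
      rw [hg]; exact hxP
    exact this
  have hxQ' : x ∈ MulAut.conj h' • (UGL (F := F)) := by
    have : x ∈ ((h' • PU p : Sylow p (GL (Fin 2) F)) : Subgroup (GL (Fin 2) F)) := by
      rw [hh]; exact hxQ
    exact this
  rw [mem_conj_smul] at hxP' hxQ'
  obtain ⟨b, hb⟩ := hxP'
  obtain ⟨b', hb'⟩ := hxQ'
  have hb0 : Multiplicative.toAdd b ≠ 0 := by
    intro h0
    have hb1 : b = 1 := h0
    rw [hb1, map_one] at hb
    apply hx1
    have : x = g * (g⁻¹ * x * g) * g⁻¹ := by group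
    rw [this, ← hb]
    group
  have hk : (h'⁻¹ * g) * uGL (Multiplicative.ofAdd (Multiplicative.toAdd b)) =
      uGL (Multiplicative.ofAdd (Multiplicative.toAdd b')) * (h'⁻¹ * g) := by
    show (h'⁻¹ * g) * uGL b = uGL b' * (h'⁻¹ * g)
    rw [hb, hb']
    group
  have hk0 := lower_zero_of_conj (h'⁻¹ * g) _ _ hb0 hk
  have hkN : (h'⁻¹ * g) • (PU p : Sylow p (GL (Fin 2) F)) = PU p := by
    rw [Sylow.smul_eq_iff_mem_normalizer]
    have : h'⁻¹ * g ∈ Subgroup.normalizer ((UGL (F := F) : Subgroup (GL (Fin 2) F)) :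
        Set (GL (Fin 2) F)) := by
      rw [normalizer_UGL, MulAction.mem_stabilizer_iff, smul_P0_eq_iff]
      exact hk0
    exact this
  rw [← hg, ← hh]
  have : g = h' * (h'⁻¹ * g) := by group
  rw [this, mul_smul, hkN]

end Finite

theorem mem_centralizer_singleton {G : Type*} [Group G] (a x : G) :
    x ∈ Subgroup.centralizer ({a} : Set G) ↔ a * x = x * a := by
  rw [Subgroup.mem_centralizer_iff]
  simp

theorem card_centralizer_conj {G : Type*} [Group G] (g a : G) :
    Nat.card (Subgroup.centralizer ({g * a * g⁻¹} : Set G)) =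
      Nat.card (Subgroup.centralizer ({a} : Set G)) := by
  apply Nat.card_congr
  refine Equiv.subtypeEquiv (MulAut.conj g⁻¹).toEquiv ?_
  intro x
  show x ∈ Subgroup.centralizer _ ↔ g⁻¹ * x * g⁻¹⁻¹ ∈ Subgroup.centralizer _
  rw [mem_centralizer_singleton, mem_centralizer_singleton, inv_inv]
  constructor
  · intro h
    have h1 : a * (g⁻¹ * x * g) = g⁻¹ * (g * a * g⁻¹ * x) * g := by group
    rw [h1, h]
    group
  · intro h
    have h1 : g * a * g⁻¹ * x = g * (a * (g⁻¹ * x * g)) * g⁻¹ := by group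
    rw [h1, h]
    group

/-- the elements `[[α, β], [0, α]]` -/
noncomputable def cMap (x : Fˣ × F) : GL (Fin 2) F :=
  Matrix.GeneralLinearGroup.mkOfDetNeZero !![(x.1 : F), x.2; 0, (x.1 : F)]
    (by simp [Matrix.det_fin_two])

theorem cMap_val (x : Fˣ × F) :
    ((cMap x : GL (Fin 2) F) : Matrix (Fin 2) (Fin 2) F) = !![(x.1 : F), x.2; 0, (x.1 : F)] :=
  rfl

theorem cMap_injective : Function.Injective (cMap (F := F)) := by
  intro x y hxy
  have h1 := congrArg (fun g : GL (Fin 2) F => (g : Matrix (Fin 2) (Fin 2) F) 0 0) hxy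
  have h2 := congrArg (fun g : GL (Fin 2) F => (g : Matrix (Fin 2) (Fin 2) F) 0 1) hxy
  simp only [cMap_val] at h1 h2
  simp at h1 h2
  exact Prod.ext (Units.ext h1) h2

theorem range_cMap (b : F) (hb : b ≠ 0) :
    Set.range (cMap (F := F)) =
      ((Subgroup.centralizer ({uGL (Multiplicative.ofAdd b)} : Set (GL (Fin 2) F)) :
        Subgroup (GL (Fin 2) F)) : Set (GL (Fin 2) F)) := by
  ext k
  rw [SetLike.mem_coe, mem_centralizer_singleton]
  constructor
  · rintro ⟨x, rfl⟩
    apply Units.ext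
    simp only [Units.val_mul, uGL_val, cMap_val, uMat]
    ext i j
    fin_cases i <;> fin_cases j <;> simp [Matrix.mul_apply, Fin.sum_univ_two]
    ring
  · intro hk
    have h0 := lower_zero_of_conj k b b hb hk.symm
    have h1 := diag_eq_of_comm k b hb hk.symm
    obtain ⟨ha, hd⟩ := diag_ne_zero_of_lower_zero k h0
    refine ⟨(Units.mk0 _ ha, (k : Matrix (Fin 2) (Fin 2) F) 0 1), ?_⟩
    apply Matrix.GeneralLinearGroup.ext
    intro i j
    rw [cMap_val]
    fin_cases i <;> fin_cases j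
    · simp
    · simp
    · simp [h0]
    · simp [h1]

theorem card_centralizer_uGL [Fintype F] (b : F) (hb : b ≠ 0) :
    Nat.card (Subgroup.centralizer ({uGL (Multiplicative.ofAdd b)} : Set (GL (Fin 2) F))) =
      Fintype.card F * (Fintype.card F - 1) := by
  have h1 : Nat.card (Set.range (cMap (F := F))) = Nat.card (Fˣ × F) :=
    (Nat.card_congr (Equiv.ofInjective _ cMap_injective)).symm
  rw [range_cMap b hb] at h1
  have h2 : Nat.card (Subgroup.centralizer ({uGL (Multiplicative.ofAdd b)} : Set (GL (Fin 2) F))) =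
      Nat.card (Fˣ × F) := h1
  rw [h2, Nat.card_prod, Nat.card_units, Nat.card_eq_fintype_card, mul_comm]

theorem card_centralizer_of_mem_sylow [Fintype F] (p : ℕ) [Fact p.Prime] [CharP F p]
    (P : Sylow p (GL (Fin 2) F)) (a : GL (Fin 2) F) (ha : a ∈ P) (ha1 : a ≠ 1) :
    Nat.card (Subgroup.centralizer ({a} : Set (GL (Fin 2) F))) =
      Fintype.card F * (Fintype.card F - 1) := by
  obtain ⟨g, hg⟩ := MulAction.exists_smul_eq (GL (Fin 2) F) (PU p) P
  have haP' : a ∈ MulAut.conj g • (UGL (F := F)) := by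
    have : a ∈ ((g • PU p : Sylow p (GL (Fin 2) F)) : Subgroup (GL (Fin 2) F)) := by
      rw [hg]; exact ha
    exact this
  rw [mem_conj_smul] at haP'
  obtain ⟨b, hb⟩ := haP'
  have hb0 : Multiplicative.toAdd b ≠ 0 := by
    intro h0
    have hb1 : b = 1 := h0
    rw [hb1, map_one] at hb
    apply ha1
    have : a = g * (g⁻¹ * a * g) * g⁻¹ := by group
    rw [this, ← hb]
    group
  have hag : a = g * uGL (Multiplicative.ofAdd (Multiplicative.toAdd b)) * g⁻¹ := by
    show a = g * uGL b * g⁻¹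
    rw [hb]
    group
  rw [hag, card_centralizer_conj, card_centralizer_uGL _ hb0]

end Cfsg.Agent.Lib.Lead
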