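import Mathlib

namespace Cfsg.Agent.Lib.Lead

open Matrix

variable {F : Type*} [Field F] [Fintype F]

theorem card_GL_eq_card_SL_mul (n : ℕ) (hn : 1 ≤ n) :
    Nat.card (GL (Fin n) F) =
      Nat.card (Matrix.SpecialLinearGroup (Fin n) F) * (Fintype.card F - 1) := by
  classical
  haveI : Nonempty (Fin n) := ⟨⟨0, hn⟩⟩
  have hsurj : Function.Surjective
      (Matrix.GeneralLinearGroup.det : GL (Fin n) F →* Fˣ) :=
    Matrix.GeneralLinearGroup.det_surjective
  have hker : (Matrix.GeneralLinearGroup.det : GL (Fin n) F →* Fˣ).ker =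
      (Matrix.SpecialLinearGroup.toGL : Matrix.SpecialLinearGroup (Fin n) F →* GL (Fin n) F).range := by
    ext g
    rw [MonoidHom.mem_ker, MonoidHom.mem_range]
    constructor
    · intro h
      have h1 : (g : Matrix (Fin n) (Fin n) F).det = 1 := by
        have := congrArg Units.val h
        simpa using this
      exact ⟨⟨(g : Matrix (Fin n) (Fin n) F), h1⟩, by ext; rfl⟩
    · rintro ⟨s, rfl⟩
      exact Matrix.SpecialLinearGroup.coeToGL_det s
  have h1 : Nat.card (Matrix.GeneralLinearGroup.det : GL (Fin n) F →* Fˣ).ker =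
      Nat.card (Matrix.SpecialLinearGroup (Fin n) F) := by
    rw [hker]
    exact (Nat.card_congr (MonoidHom.ofInjective
      (Matrix.SpecialLinearGroup.toGL_injective (n := Fin n) (R := F))).toEquiv).symm
  have h2 : (Matrix.GeneralLinearGroup.det : GL (Fin n) F →* Fˣ).ker.index = Fintype.card F - 1 := by
    rw [Subgroup.index_ker, MonoidHom.range_eq_top.mpr hsurj, Subgroup.card_top, Nat.card_units,
      Nat.card_eq_fintype_card]
  rw [← Subgroup.card_mul_index (Matrix.GeneralLinearGroup.det : GL (Fin n) F →* Fˣ).ker, h1, h2]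

theorem card_center_GL (n : ℕ) (hn : 1 ≤ n) :
    Nat.card (Subgroup.center (GL (Fin n) F)) = Fintype.card F - 1 := by
  classical
  haveI : Nonempty (Fin n) := ⟨⟨0, hn⟩⟩
  rw [Matrix.GeneralLinearGroup.center_eq_range_scalar]
  have hinj : Function.Injective (Matrix.GeneralLinearGroup.scalar (Fin n) : Fˣ →* GL (Fin n) F) := by
    intro a b hab
    have h1 := congrArg (fun g : GL (Fin n) F => (g : Matrix (Fin n) (Fin n) F) ⟨0, hn⟩ ⟨0, hn⟩) hab
    ext
    simpa using h1
  rw [← Nat.card_congr (MonoidHom.ofInjective hinj).toEquiv, Nat.card_units,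
    Nat.card_eq_fintype_card]

theorem card_PGL_eq_card_SL (n : ℕ) :
    Nat.card (Matrix.ProjGenLinGroup (Fin n) F) =
      Nat.card (Matrix.SpecialLinearGroup (Fin n) F) := by
  classical
  rcases Nat.eq_zero_or_pos n with rfl | hn
  · haveI : Subsingleton (GL (Fin 0) F) := by
      refine ⟨fun a b => ?_⟩
      ext i
      exact i.elim0
    haveI : Subsingleton (Matrix.ProjGenLinGroup (Fin 0) F) :=
      (Matrix.ProjGenLinGroup.mk_surjective (n := Fin 0) (R := F)).subsingleton
    haveI : Subsingleton (Matrix.SpecialLinearGroup (Fin 0) F) := by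
      refine ⟨fun a b => ?_⟩
      ext i
      exact i.elim0
    rw [Nat.card_unique, Nat.card_unique]
  · have h1 := card_GL_eq_card_SL_mul (F := F) n hn
    have h2 := card_center_GL (F := F) n hn
    have h3 := Subgroup.card_mul_index (Subgroup.center (GL (Fin n) F))
    have h4 : (Subgroup.center (GL (Fin n) F)).index =
        Nat.card (Matrix.ProjGenLinGroup (Fin n) F) := rfl
    rw [h4, h2, h1, mul_comm] at h3
    have hq : 0 < Fintype.card F - 1 := by
      have := Fintype.one_lt_card (α := F)
      omega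
    exact Nat.eq_of_mul_eq_mul_right hq h3

theorem card_center_SL (n : ℕ) (hn : 1 ≤ n) :
    Nat.card (Subgroup.center (Matrix.SpecialLinearGroup (Fin n) F)) =
      Nat.gcd n (Fintype.card F - 1) := by
  classical
  rw [Nat.card_congr (Matrix.SpecialLinearGroup.center_equiv_rootsOfUnity (n := Fin n) (R := F)).toEquiv,
    Fintype.card_fin, max_eq_left hn, rootsOfUnity_eq_ker, IsCyclic.card_powMonoidHom_ker,
    Nat.card_units, Nat.card_eq_fintype_card, Nat.gcd_comm]

theorem card_SL_eq_card_PSL_mul (n : ℕ) (hn : 1 ≤ n) :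
    Nat.card (Matrix.SpecialLinearGroup (Fin n) F) =
      Nat.gcd n (Fintype.card F - 1) *
        Nat.card (Matrix.ProjectiveSpecialLinearGroup (Fin n) F) := by
  classical
  have h3 := Subgroup.card_mul_index (Subgroup.center (Matrix.SpecialLinearGroup (Fin n) F))
  have h4 : (Subgroup.center (Matrix.SpecialLinearGroup (Fin n) F)).index =
      Nat.card (Matrix.ProjectiveSpecialLinearGroup (Fin n) F) := rfl
  rw [h4, card_center_SL n hn] at h3
  exact h3.symm

end Cfsg.Agent.Lib.Lead
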