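import Mathlib
import Cfsg.Agent.Lib.Lead.GL2Sylow
import Cfsg.Agent.S0242

namespace Cfsg.Agent.Lib.Lead

open Matrix Matrix.SpecialLinearGroup
open scoped MatrixGroups Pointwise

variable {F : Type*} [Field F]

/-- the unipotent homomorphism into `SL₂` -/
def uSL : Multiplicative F →* Matrix.SpecialLinearGroup (Fin 2) F where
  toFun b := ⟨uMat (Multiplicative.toAdd b), by simp [uMat, Matrix.det_fin_two]⟩
  map_one' := Subtype.ext uMat_zero
  map_mul' a b := Subtype.ext (uMat_mul _ _).symm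

theorem uSL_val (b : Multiplicative F) :
    ((uSL b : Matrix.SpecialLinearGroup (Fin 2) F) : Matrix (Fin 2) (Fin 2) F) =
      uMat (Multiplicative.toAdd b) := rfl

theorem toGL_uSL (b : Multiplicative F) :
    (Matrix.SpecialLinearGroup.toGL (uSL b) : GL (Fin 2) F) = uGL b := by
  apply Units.ext
  rfl

theorem uSL_injective : Function.Injective (uSL (F := F)) := by
  intro a b hab
  apply uGL_injective
  rw [← toGL_uSL, ← toGL_uSL, hab]

/-- the upper unitriangular subgroup of `SL₂` -/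
def USL : Subgroup (Matrix.SpecialLinearGroup (Fin 2) F) := (uSL (F := F)).range

theorem card_USL [Fintype F] : Nat.card (USL (F := F)) = Fintype.card F := by
  unfold USL
  rw [← Nat.card_congr (MonoidHom.ofInjective (uSL_injective (F := F))).toEquiv,
    Nat.card_eq_fintype_card]
  exact Fintype.card_congr Multiplicative.toAdd

theorem uSL_eq_transvection (b : F) :
    uSL (Multiplicative.ofAdd b) = transvection (zero_ne_one : (0 : Fin 2) ≠ 1) b := by
  apply Subtype.ext
  show uMat b = Matrix.transvection 0 1 b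
  unfold uMat
  ext i j
  fin_cases i <;> fin_cases j <;> simp [Matrix.transvection, Matrix.single_apply]

/-- upper triangular elements normalize `USL` -/
theorem mem_normalizer_USL_of_lower_zero [Finite F] (k : Matrix.SpecialLinearGroup (Fin 2) F)
    (hk : (k : Matrix (Fin 2) (Fin 2) F) 1 0 = 0) :
    k ∈ Subgroup.normalizer ((USL (F := F) : Subgroup (Matrix.SpecialLinearGroup (Fin 2) F)) :
      Set (Matrix.SpecialLinearGroup (Fin 2) F)) := by
  haveI := Fintype.ofFinite F
  apply mem_normalizer_of_conj_le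
  rintro d ⟨b, rfl⟩
  have hk' : ((Matrix.SpecialLinearGroup.toGL k : GL (Fin 2) F) : Matrix (Fin 2) (Fin 2) F) 1 0 = 0 :=
    hk
  have h3 := conj_uGL_of_lower_zero (Matrix.SpecialLinearGroup.toGL k) hk' (Multiplicative.toAdd b)
  refine ⟨Multiplicative.ofAdd
    (((Matrix.SpecialLinearGroup.toGL k : GL (Fin 2) F) : Matrix (Fin 2) (Fin 2) F) 0 0 *
      Multiplicative.toAdd b /
      ((Matrix.SpecialLinearGroup.toGL k : GL (Fin 2) F) : Matrix (Fin 2) (Fin 2) F) 1 1), ?_⟩
  rw [eq_mul_inv_iff_mul_eq]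
  apply Matrix.SpecialLinearGroup.toGL_injective
  rw [map_mul, map_mul, toGL_uSL, toGL_uSL]
  exact h3.symm

/-- the key generation statement -/
theorem USL_sup_conj_eq_top (k : Matrix.SpecialLinearGroup (Fin 2) F)
    (hk : (k : Matrix (Fin 2) (Fin 2) F) 1 0 ≠ 0) :
    (USL (F := F)) ⊔ MulAut.conj k • (USL (F := F)) = ⊤ := by
  set H : Subgroup (Matrix.SpecialLinearGroup (Fin 2) F) :=
    (USL (F := F)) ⊔ MulAut.conj k • (USL (F := F)) with hH
  have hU : ∀ b : F, uSL (Multiplicative.ofAdd b) ∈ H := fun b =>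
    Subgroup.mem_sup_left ⟨_, rfl⟩
  have hK : ∀ b : F, k * uSL (Multiplicative.ofAdd b) * k⁻¹ ∈ H := fun b =>
    Subgroup.mem_sup_right (conj_mem_conj_smul ⟨_, rfl⟩)
  have hdet : (k : Matrix (Fin 2) (Fin 2) F) 0 0 * (k : Matrix (Fin 2) (Fin 2) F) 1 1 -
      (k : Matrix (Fin 2) (Fin 2) F) 0 1 * (k : Matrix (Fin 2) (Fin 2) F) 1 0 = 1 := by
    have := k.2
    rw [Matrix.det_fin_two] at this
    exact this
  have hL : ∀ r : F, transvection (one_ne_zero : (1 : Fin 2) ≠ 0) r ∈ H := by
    intro r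
    set x : F := (k : Matrix (Fin 2) (Fin 2) F) 0 0 / (k : Matrix (Fin 2) (Fin 2) F) 1 0 with hx
    set s : F := -r / (k : Matrix (Fin 2) (Fin 2) F) 1 0 ^ 2 with hs
    have hc : (k : Matrix (Fin 2) (Fin 2) F) 1 0 ≠ 0 := hk
    have key : transvection (one_ne_zero : (1 : Fin 2) ≠ 0) r *
        (uSL (Multiplicative.ofAdd (-x)) * k) =
        (uSL (Multiplicative.ofAdd (-x)) * k) * uSL (Multiplicative.ofAdd s) := by
      apply Subtype.ext
      show Matrix.transvection 1 0 r * (uMat (-x) * (k : Matrix (Fin 2) (Fin 2) F)) =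
        (uMat (-x) * (k : Matrix (Fin 2) (Fin 2) F)) * uMat s
      have ht : Matrix.transvection (1 : Fin 2) 0 r = !![1, 0; r, 1] := by
        ext i j
        fin_cases i <;> fin_cases j <;> simp [Matrix.transvection, Matrix.single_apply]
      rw [ht, Matrix.eta_fin_two (k : Matrix (Fin 2) (Fin 2) F)]
      unfold uMat
      generalize (k : Matrix (Fin 2) (Fin 2) F) 0 0 = a at *
      generalize (k : Matrix (Fin 2) (Fin 2) F) 0 1 = b at *
      generalize (k : Matrix (Fin 2) (Fin 2) F) 1 0 = c at *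
      generalize (k : Matrix (Fin 2) (Fin 2) F) 1 1 = d at *
      have hxc : a - x * c = 0 := by
        rw [hx]; field_simp; ring
      have hxd : r * (b - x * d) = c * s := by
        rw [hx, hs]; field_simp; linear_combination (-r) * hdet
      ext i j
      fin_cases i <;> fin_cases j
      · simp [Matrix.mul_apply, Fin.sum_univ_two]
      · simp [Matrix.mul_apply, Fin.sum_univ_two]
        exact Or.inl (by linear_combination hxc)
      · simp [Matrix.mul_apply, Fin.sum_univ_two]
        exact Or.inr (by linear_combination hxc)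
      · simp [Matrix.mul_apply, Fin.sum_univ_two]
        linear_combination hxd
    have e : transvection (one_ne_zero : (1 : Fin 2) ≠ 0) r =
        uSL (Multiplicative.ofAdd (-x)) * (k * uSL (Multiplicative.ofAdd s) * k⁻¹) *
          (uSL (Multiplicative.ofAdd (-x)))⁻¹ := by
      rw [eq_mul_inv_iff_mul_eq, ← mul_assoc, ← mul_assoc, eq_mul_inv_iff_mul_eq, mul_assoc, key]
    rw [e]
    exact H.mul_mem (H.mul_mem (hU _) (hK _)) (H.inv_mem (hU _))
  refine le_antisymm le_top (fun A _ => ?_)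
  refine SL2.transvection_induction (fun A => A ∈ H) ?_ (fun A B hA hB => H.mul_mem hA hB) A
  intro i j hij c
  fin_cases i <;> fin_cases j
  · exact absurd rfl hij
  · have := hU c
    rw [uSL_eq_transvection] at this
    exact this
  · exact hL c
  · exact absurd rfl hij

section Finite

variable [Fintype F] (p : ℕ) [Fact p.Prime] [CharP F p]

theorem card_SL2 : Nat.card (Matrix.SpecialLinearGroup (Fin 2) F) =
    Fintype.card F * (Fintype.card F ^ 2 - 1) := by
  have h1 := Cfsg.Agent.S0242.result (F := F) rfl 2 (by norm_num)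
  rw [Fin.prod_univ_two] at h1
  have hq : 2 ≤ Fintype.card F := Fintype.one_lt_card
  generalize Nat.card (Matrix.SpecialLinearGroup (Fin 2) F) = N at *
  generalize Fintype.card F = q at *
  obtain ⟨r, rfl⟩ : ∃ r, q = r + 2 := ⟨q - 2, by omega⟩
  have e1 : r + 2 - 1 = r + 1 := by omega
  have e2 : (r + 2) ^ 2 - (r + 2) ^ ((0 : Fin 2) : ℕ) = (r + 1) * (r + 3) := by
    have : (r + 2) ^ 2 = (r + 1) * (r + 3) + 1 := by ring
    simp only [Fin.val_zero, pow_zero]
    omega
  have e3 : (r + 2) ^ 2 - (r + 2) ^ ((1 : Fin 2) : ℕ) = (r + 2) * (r + 1) := by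
    have : (r + 2) ^ 2 = (r + 2) * (r + 1) + (r + 2) := by ring
    simp only [Fin.val_one, pow_one]
    omega
  have e4 : (r + 2) ^ 2 - 1 = (r + 1) * (r + 3) := by
    have : (r + 2) ^ 2 = (r + 1) * (r + 3) + 1 := by ring
    omega
  rw [e1, e2, e3] at h1
  rw [e4]
  have h5 : N * (r + 1) = ((r + 2) * ((r + 1) * (r + 3))) * (r + 1) := by
    rw [mul_comm N, h1]; ring
  exact Nat.eq_of_mul_eq_mul_right (by positivity) h5

theorem card_USL_eq : Nat.card (USL (F := F)) =
    p ^ (Nat.card (Matrix.SpecialLinearGroup (Fin 2) F)).factorization p := by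
  obtain ⟨f, -, hf⟩ := FiniteField.card F p
  have hp := (Fact.out : p.Prime)
  have hq : 2 ≤ Fintype.card F := Fintype.one_lt_card
  have hnd : ¬ p ∣ Fintype.card F ^ 2 - 1 := by
    intro hd
    have h2 : p ∣ Fintype.card F ^ 2 := by
      rw [hf]
      exact dvd_pow (dvd_pow_self p f.pos.ne') two_ne_zero
    have h3 : 1 ≤ Fintype.card F ^ 2 := Nat.one_le_pow _ _ (by omega)
    have h4 := Nat.dvd_sub h2 hd
    have h6 : Fintype.card F ^ 2 - (Fintype.card F ^ 2 - 1) = 1 := by omega
    rw [h6] at h4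
    exact hp.one_lt.ne' (Nat.dvd_one.mp h4)
  have hm0 : Fintype.card F ^ 2 - 1 ≠ 0 := by
    intro h0
    rw [h0] at hnd
    exact hnd (dvd_zero p)
  rw [card_USL, card_SL2, Nat.factorization_mul (by positivity) hm0, Finsupp.add_apply,
    Nat.factorization_eq_zero_of_not_dvd hnd, add_zero, hf, Nat.Prime.factorization_pow hp,
    Finsupp.single_eq_same]

/-- the unitriangular group as a Sylow subgroup of `SL₂` -/
noncomputable def PUS : Sylow p (Matrix.SpecialLinearGroup (Fin 2) F) :=
  Sylow.ofCard USL (card_USL_eq p)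

theorem sylow_SL2_sup (P Q : Sylow p (Matrix.SpecialLinearGroup (Fin 2) F)) (h : P ≠ Q) :
    (P : Subgroup (Matrix.SpecialLinearGroup (Fin 2) F)) ⊔
      (Q : Subgroup (Matrix.SpecialLinearGroup (Fin 2) F)) = ⊤ := by
  obtain ⟨g, hg⟩ := MulAction.exists_smul_eq (Matrix.SpecialLinearGroup (Fin 2) F) (PUS p) P
  obtain ⟨h', hh⟩ := MulAction.exists_smul_eq (Matrix.SpecialLinearGroup (Fin 2) F) (PUS p) Q
  have hk : ((h'⁻¹ * g : Matrix.SpecialLinearGroup (Fin 2) F) : Matrix (Fin 2) (Fin 2) F) 1 0 ≠ 0 := by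
    intro h0
    apply h
    have hkN : (h'⁻¹ * g) • (PUS p : Sylow p (Matrix.SpecialLinearGroup (Fin 2) F)) = PUS p := by
      rw [Sylow.smul_eq_iff_mem_normalizer]
      exact mem_normalizer_USL_of_lower_zero _ h0
    rw [← hg, ← hh]
    have : g = h' * (h'⁻¹ * g) := by group
    rw [this, mul_smul, hkN]
  have key := USL_sup_conj_eq_top (h'⁻¹ * g) hk
  have hP : (P : Subgroup (Matrix.SpecialLinearGroup (Fin 2) F)) = MulAut.conj g • USL := by
    rw [← hg]; rfl
  have hQ : (Q : Subgroup (Matrix.SpecialLinearGroup (Fin 2) F)) = MulAut.conj h' • USL := by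
    rw [← hh]; rfl
  have e1 : MulAut.conj g • (USL (F := F)) =
      MulAut.conj h' • (MulAut.conj (h'⁻¹ * g) • (USL (F := F))) := by
    rw [← mul_smul, ← map_mul]
    congr 2
    group
  rw [hP, hQ, e1, sup_comm, ← Subgroup.smul_sup, key]
  ext x
  rw [mem_conj_smul]
  simp

end Finite

end Cfsg.Agent.Lib.Lead
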