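import Mathlib

namespace Cfsg.Agent.Lib.Lead

open Matrix Matrix.SpecialLinearGroup

variable {F : Type*} [Field F] {ι : Type*} [DecidableEq ι] [Fintype ι]

theorem diag2n_eq_prod_transvection {i j : ι} (hij : i ≠ j) (c : F) (hc : c ≠ 0) :
    diag2n hij c hc = transvection hij c * transvection hij.symm (-c⁻¹) * transvection hij c *
      transvection hij (-1) * transvection hij.symm 1 * transvection hij (-1) := by
  apply Subtype.ext
  change diagonal (fun k ↦ if k = i then c else if k = j then c⁻¹ else 1) =
    Matrix.transvection i j c * Matrix.transvection j i (-c⁻¹) * Matrix.transvection i j c *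
      Matrix.transvection i j (-1) * Matrix.transvection j i 1 * Matrix.transvection i j (-1)
  have hji : j ≠ i := hij.symm
  have h1 : c⁻¹ * c = 1 := inv_mul_cancel₀ hc
  have h2 : c * c⁻¹ = 1 := mul_inv_cancel₀ hc
  ext a b
  by_cases hbj : b = j
  · subst hbj
    simp only [mul_transvection_apply_same, mul_transvection_apply_of_ne, ne_eq, hij, hji,
      not_false_eq_true]
    by_cases hai : a = i
    · subst hai
      simp [Matrix.transvection, Matrix.one_apply, Matrix.single_apply, Matrix.diagonal_apply,
        hij, hji, h1, h2]
    · have hai' : ¬ i = a := fun h => hai h.symm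
      by_cases haj : a = b
      · subst haj
        simp [Matrix.transvection, Matrix.one_apply, Matrix.single_apply, Matrix.diagonal_apply,
          hij, hji, h1, h2]
      · simp [Matrix.transvection, Matrix.one_apply, Matrix.single_apply, Matrix.diagonal_apply,
          hij, hji, hai, haj, hai', h1, h2]
  · by_cases hbi : b = i
    · subst hbi
      simp only [mul_transvection_apply_same, mul_transvection_apply_of_ne, ne_eq, hij, hji,
        not_false_eq_true]
      by_cases hai : a = b
      · subst hai
        simp [Matrix.transvection, Matrix.one_apply, Matrix.single_apply, Matrix.diagonal_apply,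
          hij, hji, h1, h2]
      · have hai' : ¬ b = a := fun h => hai h.symm
        by_cases haj : a = j
        · subst haj
          simp [Matrix.transvection, Matrix.one_apply, Matrix.single_apply, Matrix.diagonal_apply,
            hij, hji, h1, h2]
        · simp [Matrix.transvection, Matrix.one_apply, Matrix.single_apply, Matrix.diagonal_apply,
            hij, hji, hai, haj, hai', h1, h2]
    · simp only [mul_transvection_apply_of_ne, ne_eq, hbi, hbj, not_false_eq_true]
      have hbj' : ¬ j = b := fun h => hbj h.symm
      by_cases hab : a = b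
      · subst hab
        simp [Matrix.transvection, Matrix.one_apply, Matrix.single_apply, Matrix.diagonal_apply,
          hbi, hbj, hbj']
      · simp [Matrix.transvection, Matrix.one_apply, Matrix.single_apply, Matrix.diagonal_apply,
          hbi, hbj, hbj', hab]

open scoped commutatorElement in
theorem transvection_eq_commutator {i j k : ι} (hij : i ≠ j) (hik : i ≠ k) (hkj : k ≠ j) (c : F) :
    transvection hij c = ⁅transvection hik c, transvection hkj (1 : F)⁆ := by
  rw [commutatorElement_def, transvection_inv, transvection_inv]
  apply Subtype.ext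
  change Matrix.transvection i j c =
    Matrix.transvection i k c * Matrix.transvection k j 1 * Matrix.transvection i k (-c) *
      Matrix.transvection k j (-1)
  have hji : j ≠ i := hij.symm
  have hki : k ≠ i := hik.symm
  have hjk : j ≠ k := hkj.symm
  ext a b
  by_cases hai : a = i
  · subst hai
    by_cases hbj : b = j
    · subst hbj
      simp only [mul_transvection_apply_same, mul_transvection_apply_of_ne, ne_eq, hij, hji, hik,
        hki, hkj, hjk, not_false_eq_true]
      simp [Matrix.transvection, Matrix.one_apply, Matrix.single_apply, hij, hji, hik, hki, hkj, hjk]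
    · have hbj' : ¬ j = b := fun h => hbj h.symm
      by_cases hbk : b = k
      · subst hbk
        simp only [mul_transvection_apply_same, mul_transvection_apply_of_ne, ne_eq, hij, hji, hik,
          hki, hkj, hjk, not_false_eq_true]
        simp [Matrix.transvection, Matrix.one_apply, Matrix.single_apply, hij, hji, hik, hki, hkj, hjk]
      · have hbk' : ¬ k = b := fun h => hbk h.symm
        simp only [mul_transvection_apply_of_ne, ne_eq, hbk, hbj, not_false_eq_true]
        simp [Matrix.transvection, Matrix.one_apply, Matrix.single_apply, hbk, hbj, hbk', hbj']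
  · have hai' : ¬ i = a := fun h => hai h.symm
    by_cases hbj : b = j
    · subst hbj
      simp only [mul_transvection_apply_same, mul_transvection_apply_of_ne, ne_eq, hij, hji, hik,
        hki, hkj, hjk, not_false_eq_true]
      simp [Matrix.transvection, Matrix.one_apply, Matrix.single_apply, hij, hji, hik, hki, hkj, hjk,
        hai, hai']
      split_ifs <;> simp
    · have hbj' : ¬ j = b := fun h => hbj h.symm
      by_cases hbk : b = k
      · subst hbk
        simp only [mul_transvection_apply_same, mul_transvection_apply_of_ne, ne_eq, hij, hji, hik,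
          hki, hkj, hjk, not_false_eq_true]
        simp [Matrix.transvection, Matrix.one_apply, Matrix.single_apply, hij, hji, hik, hki, hkj, hjk,
          hai, hai']
      · have hbk' : ¬ k = b := fun h => hbk h.symm
        simp only [mul_transvection_apply_of_ne, ne_eq, hbk, hbj, not_false_eq_true]
        simp [Matrix.transvection, Matrix.one_apply, Matrix.single_apply, hbk, hbj, hbk', hbj',
          hai, hai']

/-- `SL_n(F)` is perfect when `n ≥ 3`. -/
theorem SL_commutator_eq_top (h3 : 3 ≤ Fintype.card ι) :
    commutator (Matrix.SpecialLinearGroup ι F) = ⊤ := by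
  haveI : Nontrivial ι := Fintype.one_lt_card_iff_nontrivial.mp (by omega)
  have htr : ∀ (i j : ι) (hij : i ≠ j) (a : F),
      transvection hij a ∈ commutator (Matrix.SpecialLinearGroup ι F) := by
    intro i j hij a
    have hex : ∃ k : ι, k ≠ i ∧ k ≠ j := by
      by_contra hcon
      push Not at hcon
      have hsub : (Finset.univ : Finset ι) ⊆ {i, j} := by
        intro k _
        by_cases hk : k = i
        · simp [hk]
        · simp [hcon k hk]
      have := Finset.card_le_card hsub
      have h2 : ({i, j} : Finset ι).card ≤ 2 := Finset.card_le_two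
      rw [Finset.card_univ] at this
      omega
    obtain ⟨k, hki, hkj⟩ := hex
    rw [transvection_eq_commutator hij hki.symm hkj a]
    exact Subgroup.commutator_mem_commutator (Subgroup.mem_top _) (Subgroup.mem_top _)
  refine le_antisymm le_top (fun M _ => ?_)
  refine diagonal_transvection_induction' (fun M => M ∈ commutator (Matrix.SpecialLinearGroup ι F))
    M ?_ htr (fun A B hA hB => mul_mem hA hB)
  intro i j hij c hc
  rw [diag2n_eq_prod_transvection hij c hc]
  exact mul_mem (mul_mem (mul_mem (mul_mem (mul_mem (htr _ _ _ _) (htr _ _ _ _)) (htr _ _ _ _))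
    (htr _ _ _ _)) (htr _ _ _ _)) (htr _ _ _ _)

open scoped LinearAlgebra.Projectivization in
theorem iSup_lineStab_eq_top [Nontrivial ι] :
    (⨆ p : ℙ F (ι → F), lineStab p.submodule) = (⊤ : Subgroup (SpecialLinearGroup ι F)) := by
  refine le_antisymm le_top (fun M _ => ?_)
  have htr : ∀ (i j : ι) (hij : i ≠ j) (a : F),
      transvection hij a ∈ ⨆ p : ℙ F (ι → F), lineStab p.submodule := by
    intro i j hij a
    have h1 := SL2Gen.transvection_mem_lineStab (F := F) hij a
    have hne : (Pi.single i (1 : F) : ι → F) ≠ 0 := Pi.single_ne_zero_iff.2 one_ne_zero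
    rw [← Projectivization.submodule_mk (K := F) _ hne] at h1
    exact Subgroup.mem_iSup_of_mem _ h1
  refine diagonal_transvection_induction'
    (fun M => M ∈ ⨆ p : ℙ F (ι → F), lineStab p.submodule) M ?_ htr
    (fun A B hA hB => mul_mem hA hB)
  intro i j hij c hc
  rw [diag2n_eq_prod_transvection hij c hc]
  exact mul_mem (mul_mem (mul_mem (mul_mem (mul_mem (htr _ _ _ _) (htr _ _ _ _)) (htr _ _ _ _))
    (htr _ _ _ _)) (htr _ _ _ _)) (htr _ _ _ _)

open scoped LinearAlgebra.Projectivization in
/-- `PSL_n(F)` is simple for `n ≥ 3`. -/
theorem PSL_isSimpleGroup (h3 : 3 ≤ Fintype.card ι) :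
    IsSimpleGroup (Matrix.ProjectiveSpecialLinearGroup ι F) := by
  haveI : Nontrivial ι := Fintype.one_lt_card_iff_nontrivial.mp (by omega)
  let IwaS : MulAction.IwasawaStructure (Matrix.ProjectiveSpecialLinearGroup ι F)
      (ℙ F (ι → F)) :=
    { T := PSL.iwasawaT
      is_comm := fun p => by
        have hSL : IsMulCommutative (lineStab (F := F) (ι := ι) p.submodule) := by
          rw [← Projectivization.mk_rep p, Projectivization.submodule_mk]
          exact lineStab_isMulCommutative_of_span p.rep p.rep_nonzero
        exact Subgroup.map_isMulCommutative _ _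
      is_conj := fun g p => by
        obtain ⟨g_SL, rfl⟩ := QuotientGroup.mk_surjective g
        rw [Matrix.ProjectiveSpecialLinearGroup.smul_proj_mk]
        change Subgroup.map _ _ = _
        rw [PSL.smul_submodule, Matrix.SpecialLinearGroup.lineStab_smul, PSL.iwasawaT_map_conj]
      is_generator := by
        have step1 : iSup (PSL.iwasawaT (F := F) (ι := ι)) =
            Subgroup.map (QuotientGroup.mk' (Subgroup.center (Matrix.SpecialLinearGroup ι F)))
              (⨆ p : ℙ F (ι → F),
                Matrix.SpecialLinearGroup.lineStab (F := F) (ι := ι) p.submodule) := by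
          rw [Subgroup.map_iSup]
        rw [step1, iSup_lineStab_eq_top]
        exact Subgroup.map_top_of_surjective _ (QuotientGroup.mk'_surjective _) }
  have hperf : commutator (Matrix.ProjectiveSpecialLinearGroup ι F) = ⊤ := by
    have : Group.IsPerfect (Matrix.SpecialLinearGroup ι F) := ⟨SL_commutator_eq_top h3⟩
    have : Group.IsPerfect (Matrix.ProjectiveSpecialLinearGroup ι F) := inferInstance
    exact this.commutator_eq_top
  exact IwaS.isSimpleGroup hperf inferInstance

theorem diag_mul_transvection {i j : ι} (hij : i ≠ j) (a c : F) :
    Matrix.diagonal (fun k => if k = i then a else (1 : F)) * Matrix.transvection i j c =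
      Matrix.transvection i j (a * c) * Matrix.diagonal (fun k => if k = i then a else (1 : F)) := by
  have hji : j ≠ i := hij.symm
  ext x y
  rw [Matrix.diagonal_mul, Matrix.mul_diagonal]
  by_cases hx : x = i
  · subst hx
    by_cases hy : y = j
    · subst hy
      simp [Matrix.transvection, Matrix.one_apply, Matrix.single_apply, hij, hji]
    · have hy' : ¬ j = y := fun h => hy h.symm
      by_cases hxy : x = y
      · subst hxy
        simp [Matrix.transvection, Matrix.one_apply, Matrix.single_apply, hy, hy']
      · have hxy' : ¬ y = x := fun h => hxy h.symm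
        simp [Matrix.transvection, Matrix.one_apply, Matrix.single_apply, hy, hy', hxy, hxy']
  · have hx' : ¬ i = x := fun h => hx h.symm
    by_cases hxy : x = y
    · subst hxy
      simp [Matrix.transvection, Matrix.one_apply, Matrix.single_apply, hx, hx']
    · simp [Matrix.transvection, Matrix.one_apply, Matrix.single_apply, hx, hx', hxy]

/-- a diagonal element of `GL` -/
noncomputable def diagGL (i : ι) (a : F) (ha : a ≠ 0) : GL ι F :=
  ⟨Matrix.diagonal (fun k => if k = i then a else (1 : F)),
    Matrix.diagonal (fun k => if k = i then a⁻¹ else (1 : F)),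
    by
      rw [Matrix.diagonal_mul_diagonal, ← Matrix.diagonal_one]
      congr 1
      funext k
      by_cases hk : k = i <;> simp [hk, ha],
    by
      rw [Matrix.diagonal_mul_diagonal, ← Matrix.diagonal_one]
      congr 1
      funext k
      by_cases hk : k = i <;> simp [hk, ha]⟩

open scoped commutatorElement in
theorem toGL_transvection_mem_commutator {i j : ι} (hij : i ≠ j) (a : F) (ha : a ≠ 0) (ha1 : a ≠ 1)
    (c : F) : (Matrix.SpecialLinearGroup.toGL (transvection hij c) : GL ι F) ∈ commutator (GL ι F) := by
  have ha1' : a - 1 ≠ 0 := sub_ne_zero.mpr ha1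
  set c' : F := c / (a - 1) with hc'
  have hconj : diagGL i a ha * Matrix.SpecialLinearGroup.toGL (transvection hij c') =
      Matrix.SpecialLinearGroup.toGL (transvection hij (a * c')) * diagGL i a ha := by
    apply Units.ext
    exact diag_mul_transvection hij a c'
  have hcomm : ⁅diagGL i a ha, (Matrix.SpecialLinearGroup.toGL (transvection hij c') : GL ι F)⁆ =
      Matrix.SpecialLinearGroup.toGL (transvection hij c) := by
    rw [commutatorElement_def, hconj, mul_inv_cancel_right, ← map_inv, ← map_mul,
      transvection_inv, ← transvection_add]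
    congr 2
    rw [hc']
    field_simp
    ring
  rw [← hcomm]
  exact Subgroup.commutator_mem_commutator (Subgroup.mem_top _) (Subgroup.mem_top _)

theorem toGL_mem_commutator_of_field [Nontrivial ι] (a : F) (ha : a ≠ 0) (ha1 : a ≠ 1)
    (M : Matrix.SpecialLinearGroup ι F) :
    (Matrix.SpecialLinearGroup.toGL M : GL ι F) ∈ commutator (GL ι F) := by
  have htr : ∀ (i j : ι) (hij : i ≠ j) (c : F),
      (Matrix.SpecialLinearGroup.toGL (transvection hij c) : GL ι F) ∈ commutator (GL ι F) :=
    fun i j hij c => toGL_transvection_mem_commutator hij a ha ha1 c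
  refine diagonal_transvection_induction'
    (fun M => (Matrix.SpecialLinearGroup.toGL M : GL ι F) ∈ commutator (GL ι F)) M ?_ htr
    (fun A B hA hB => by
      show (Matrix.SpecialLinearGroup.toGL (A * B) : GL ι F) ∈ commutator (GL ι F)
      rw [map_mul]; exact mul_mem hA hB)
  intro i j hij c hc
  show (Matrix.SpecialLinearGroup.toGL (diag2n hij c hc) : GL ι F) ∈ commutator (GL ι F)
  rw [diag2n_eq_prod_transvection hij c hc]
  simp only [map_mul]
  exact mul_mem (mul_mem (mul_mem (mul_mem (mul_mem (htr _ _ _ _) (htr _ _ _ _)) (htr _ _ _ _))
    (htr _ _ _ _)) (htr _ _ _ _)) (htr _ _ _ _)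

theorem ker_det_eq_range_toGL :
    (Matrix.GeneralLinearGroup.det : GL ι F →* Fˣ).ker =
      (Matrix.SpecialLinearGroup.toGL : Matrix.SpecialLinearGroup ι F →* GL ι F).range := by
  ext g
  rw [MonoidHom.mem_ker, MonoidHom.mem_range]
  constructor
  · intro h
    have h1 : (g : Matrix ι ι F).det = 1 := by
      have := congrArg Units.val h
      simpa using this
    exact ⟨⟨(g : Matrix ι ι F), h1⟩, by ext; rfl⟩
  · rintro ⟨s, rfl⟩
    exact Matrix.SpecialLinearGroup.coeToGL_det s

/-- `GL_n(F)' = SL_n(F)` except for `n = 2`, `|F| = 2`. -/
theorem GL_commutator_eq_ker_det (h : Fintype.card ι = 2 → ∃ a : F, a ≠ 0 ∧ a ≠ 1) :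
    commutator (GL ι F) = (Matrix.GeneralLinearGroup.det : GL ι F →* Fˣ).ker := by
  apply le_antisymm
  · exact Abelianization.commutator_subset_ker _
  · rw [ker_det_eq_range_toGL]
    rintro g ⟨M, rfl⟩
    rcases Nat.lt_or_ge (Fintype.card ι) 2 with h2 | h2
    · haveI : Subsingleton ι := Fintype.card_le_one_iff_subsingleton.mp (by omega)
      have hM : M = 1 := by
        apply Subtype.ext
        have hd := M.2
        rcases isEmpty_or_nonempty ι with he | ⟨⟨i⟩⟩
        · ext x
          exact (he.false x).elim
        · ext x y
          have hxy : x = y := Subsingleton.elim _ _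
          subst hxy
          haveI : Unique ι := ⟨⟨x⟩, fun z => Subsingleton.elim _ _⟩
          rw [Matrix.det_unique] at hd
          have hx2 : (default : ι) = x := Subsingleton.elim _ _
          rw [hx2] at hd
          simp [hd]
      rw [hM, map_one]
      exact one_mem _
    · rcases Nat.lt_or_ge (Fintype.card ι) 3 with h3 | h3
      · have h22 : Fintype.card ι = 2 := by omega
        haveI : Nontrivial ι := Fintype.one_lt_card_iff_nontrivial.mp (by omega)
        obtain ⟨a, ha, ha1⟩ := h h22
        exact toGL_mem_commutator_of_field a ha ha1 M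
      · have hM : M ∈ commutator (Matrix.SpecialLinearGroup ι F) := by
          rw [SL_commutator_eq_top h3]; exact Subgroup.mem_top _
        have hle : (commutator (Matrix.SpecialLinearGroup ι F)).map
            (Matrix.SpecialLinearGroup.toGL : Matrix.SpecialLinearGroup ι F →* GL ι F) ≤
            commutator (GL ι F) := by
          rw [commutator_def, Subgroup.map_commutator]
          exact Subgroup.commutator_mono le_top le_top
        exact hle (Subgroup.mem_map_of_mem _ hM)

end Cfsg.Agent.Lib.Lead
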