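import Mathlib
import Cfsg.Prelude.Def_Blocks
import Cfsg.Agent.Lib.Lead.Block3
import Cfsg.Agent.Lib.Helper7.Clifford
import Cfsg.Agent.Lib.Helper7.PPrime

set_option autoImplicit false

namespace Cfsg.Agent.Lib.Lead

open scoped ComplexConjugate

section cliffblock

variable {G : Type*} [Group G] [Fintype G] (N : Subgroup G) [hN : N.Normal] [Fintype N]

/-- the central idempotent of an irreducible character of `N`, extended by zero -/
noncomputable def idemExt (ψ : Cfsg.IrrCharacter N) : G → ℂ :=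
  Cfsg.extendByZero N (fun n => (Nat.card N : ℂ)⁻¹ * (ψ.1 1 * conj (ψ.1 n)))

omit [Fintype G] [Fintype N] in
theorem idemExt_conj (ψ : Cfsg.IrrCharacter N) (k x : G) :
    idemExt N ψ (k * x * k⁻¹)
      = idemExt N ⟨conjFun N ψ.1 k, isIrrCharacter_conjFun N ψ.2 k⟩ x := by
  unfold idemExt
  by_cases hx : x ∈ N
  · have hkx : k * x * k⁻¹ ∈ N := hN.conj_mem x hx k
    rw [extendByZero_mem' N _ hkx, extendByZero_mem' N _ hx]
    show (Nat.card N : ℂ)⁻¹ * (ψ.1 1 * conj (ψ.1 ⟨k * x * k⁻¹, hkx⟩))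
      = (Nat.card N : ℂ)⁻¹ * (conjFun N ψ.1 k 1 * conj (conjFun N ψ.1 k ⟨x, hx⟩))
    rw [conjFun_apply, conjFun_apply]
    have e3 : (⟨k * ((1 : N) : G) * k⁻¹, hN.conj_mem _ (1 : N).2 k⟩ : N) = 1 := by
      apply Subtype.ext
      show k * ((1 : N) : G) * k⁻¹ = ((1 : N) : G)
      simp
    rw [e3]
  · have hkx : k * x * k⁻¹ ∉ N := by
      intro h
      apply hx
      have h2 := hN.conj_mem _ h k⁻¹
      have h3 : k⁻¹ * (k * x * k⁻¹) * k⁻¹⁻¹ = x := by group
      rw [h3] at h2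
      exact h2
    rw [extendByZero_not_mem N _ hkx, extendByZero_not_mem N _ hx]

open Classical in
theorem orbit_idem_specGood {p : ℕ} {M : Ideal Cfsg.AlgInt} (hM : Cfsg.IsPModular p M)
    (hcop : (Nat.card N).Coprime p) (θ : Cfsg.IrrCharacter N) :
    SpecGood M (fun χ : Cfsg.IrrCharacter G =>
      if Cfsg.classInner (fun n : N => χ.1 n) θ.1 ≠ 0 then (1 : ℂ) else 0) := by
  haveI : Fintype (Cfsg.IrrCharacter N) := Fintype.ofFinite _
  have hM' := hM
  obtain ⟨hp, hmax, hpM⟩ := hM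
  let Ω : Finset (Cfsg.IrrCharacter N) :=
    Finset.univ.filter (fun ψ => ∃ x : G, ψ.1 = conjFun N θ.1 x)
  refine ⟨fun x => ∑ ψ ∈ Ω, idemExt N ψ x, ?_, ?_, ?_⟩
  · intro x k
    show ∑ ψ ∈ Ω, idemExt N ψ (k * x * k⁻¹) = ∑ ψ ∈ Ω, idemExt N ψ x
    simp_rw [idemExt_conj]
    apply Finset.sum_nbij' (fun ψ => ⟨conjFun N ψ.1 k, isIrrCharacter_conjFun N ψ.2 k⟩)
      (fun ψ => ⟨conjFun N ψ.1 k⁻¹, isIrrCharacter_conjFun N ψ.2 k⁻¹⟩)
    · intro ψ hψ
      obtain ⟨y, hy⟩ := (Finset.mem_filter.mp hψ).2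
      refine Finset.mem_filter.mpr ⟨Finset.mem_univ _, y * k, ?_⟩
      show conjFun N ψ.1 k = conjFun N θ.1 (y * k)
      rw [hy, conjFun_mul]
    · intro ψ hψ
      obtain ⟨y, hy⟩ := (Finset.mem_filter.mp hψ).2
      refine Finset.mem_filter.mpr ⟨Finset.mem_univ _, y * k⁻¹, ?_⟩
      show conjFun N ψ.1 k⁻¹ = conjFun N θ.1 (y * k⁻¹)
      rw [hy, conjFun_mul]
    · intro ψ _
      apply Subtype.ext
      show conjFun N (conjFun N ψ.1 k) k⁻¹ = ψ.1
      rw [conjFun_mul, mul_inv_cancel, conjFun_one]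
    · intro ψ _
      apply Subtype.ext
      show conjFun N (conjFun N ψ.1 k⁻¹) k = ψ.1
      rw [conjFun_mul, inv_mul_cancel, conjFun_one]
    · intro ψ _
      rfl
  · intro x
    apply mlr_sum hmax
    intro ψ _
    unfold idemExt
    by_cases hx : x ∈ N
    · rw [extendByZero_mem' N _ hx]
      apply mlr_mul hmax
      · apply mlr_inv (mlr_natCast hmax _)
        apply not_mli_natCast hM'
        intro hd
        have h1 := Nat.Coprime.eq_one_of_dvd hcop.symm hd
        exact hp.one_lt.ne' h1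
      · apply mlr_mul hmax (mlr_of_integral hmax (irr_isIntegral ψ 1))
        rw [← irr_conj_inv]
        exact mlr_of_integral hmax (irr_isIntegral ψ _)
    · rw [extendByZero_not_mem N _ hx]
      exact mlr_zero hmax
  · intro χ
    unfold Om
    have h1 : ∑ x : G, (∑ ψ ∈ Ω, idemExt N ψ x) * χ.1 x
        = ∑ ψ ∈ Ω, ψ.1 1 * Cfsg.classInner (fun n : N => χ.1 n) ψ.1 := by
      simp_rw [Finset.sum_mul]
      rw [Finset.sum_comm]
      apply Finset.sum_congr rfl
      intro ψ _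
      unfold idemExt
      rw [sum_extendByZero_mul]
      unfold Cfsg.classInner
      rw [Finset.mul_sum, Finset.mul_sum]
      apply Finset.sum_congr rfl
      intro n _
      ring
    rw [h1]
    beta_reduce
    by_cases hθ : Cfsg.classInner (fun n : N => χ.1 n) θ.1 ≠ 0
    · rw [if_pos hθ]
      have hrc : Cfsg.IsClassFunction N (fun n : N => χ.1 n) :=
        Cfsg.Agent.Lib.Helper7.Cliff.isClassFunction_restrict N χ.1 (isClassFunction_of_irr χ)
      have hexp := class_fn_expand' (fun n : N => χ.1 n) hrc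
      have h2 : χ.1 1 = ∑ ψ : Cfsg.IrrCharacter N,
          Cfsg.classInner (fun n : N => χ.1 n) ψ.1 * ψ.1 1 := by
        have h3 := congrFun hexp 1
        rw [Finset.sum_apply] at h3
        exact h3
      have h4 : ∑ ψ : Cfsg.IrrCharacter N, Cfsg.classInner (fun n : N => χ.1 n) ψ.1 * ψ.1 1
          = ∑ ψ ∈ Ω, ψ.1 1 * Cfsg.classInner (fun n : N => χ.1 n) ψ.1 := by
        rw [Finset.sum_filter]
        apply Finset.sum_congr rfl
        intro ψ _
        split_ifs with hx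
        · ring
        · have h5 : Cfsg.classInner (fun n : N => χ.1 n) ψ.1 = 0 := by
            by_contra h6
            exact hx (Cfsg.Agent.Lib.Helper7.Cliff.exists_conj_of_constituents N χ θ ψ hθ h6)
          rw [h5, zero_mul]
      rw [← h4, ← h2]
      exact div_self (irr_deg_ne_zero χ)
    · rw [if_neg hθ]
      rw [not_not] at hθ
      rw [Finset.sum_eq_zero, zero_div]
      intro ψ hψ
      obtain ⟨y, hy⟩ := (Finset.mem_filter.mp hψ).2
      rw [hy, Cfsg.Agent.Lib.Helper7.Cliff.inner_restrict_conjFun N χ.1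
        (isClassFunction_of_irr χ) θ.1 y, hθ, mul_zero]

end cliffblock

/-- S0921 -/
theorem same_block_core {G : Type*} [Group G] [Finite G] (p : ℕ) [Fact p.Prime]
    (M : Ideal Cfsg.AlgInt) (hM : Cfsg.IsPModular p M) [Fintype G]
    (χ ψ : Cfsg.IrrCharacter G) (h : Cfsg.SameBlock M (χ : G → ℂ) (ψ : G → ℂ))
    (θ : Cfsg.IrrCharacter (Cfsg.pPrimeCore p G)) [Fintype (Cfsg.pPrimeCore p G)] :
    Cfsg.classInner (fun n : Cfsg.pPrimeCore p G => (χ : G → ℂ) n)
        (θ : Cfsg.pPrimeCore p G → ℂ) ≠ 0 ↔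
      Cfsg.classInner (fun n : Cfsg.pPrimeCore p G => (ψ : G → ℂ) n)
        (θ : Cfsg.pPrimeCore p G → ℂ) ≠ 0 := by
  classical
  haveI : (Cfsg.pPrimeCore p G).Normal := Cfsg.Agent.Lib.Helper7.pPrimeCore_normal' p G
  have hcop := Cfsg.Agent.Lib.Helper7.pPrimeCore_coprime (G := G) p
  have hmax := hM.2.1
  have hgood := orbit_idem_specGood (Cfsg.pPrimeCore p G) hM hcop θ
  have h1 := specGood_congr hmax hgood h
  beta_reduce at h1
  constructor
  · intro hχ
    by_contra hψ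
    rw [if_pos hχ, if_neg (not_not.mpr hψ), sub_zero] at h1
    exact not_mli_one hmax h1
  · intro hψ
    by_contra hχ
    rw [if_neg (not_not.mpr hχ), if_pos hψ, zero_sub] at h1
    have h2 := mli_neg h1
    rw [neg_neg] at h2
    exact not_mli_one hmax h2

end Cfsg.Agent.Lib.Lead
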