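import Mathlib
import Cfsg.Agent.Lib.Helper7.Extra

set_option autoImplicit false

namespace Cfsg.Agent.Lib.Lead

open Cfsg.Agent.Lib.Helper7 Cfsg.Agent.Lib.Helper7.Extra

/-- In a group with `G' = Z(G)` of prime order `p`, a nonlinear irreducible character has
`p χ(1)² = |G|`. -/
theorem extra_deg_sq_p {G : Type*} [Group G] [Finite G] (p : ℕ) [Fact p.Prime]
    (hcomm : commutator G = Subgroup.center G) (hZ : Nat.card (Subgroup.center G) = p)
    (χ : Cfsg.IrrCharacter G) (hχ : Cfsg.charDegree χ.1 ≠ 1) :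
    p * (Cfsg.charDegree χ.1) ^ 2 = Nat.card G := by
  classical
  have hp : p.Prime := Fact.out
  haveI : Fintype G := Fintype.ofFinite G
  obtain ⟨n, ρ, hρ, hρχ⟩ := χ.2
  haveI := hρ
  obtain ⟨hpos, hd1, -⟩ := DZ.charDegree_spec χ
  -- a nontrivial central element does not act trivially
  have hnontriv : ∀ z ∈ Subgroup.center G, z ≠ 1 → ρ z ≠ 1 := by
    intro z hz hz1 hρz
    apply hχ
    have hzo : orderOf z = p := by
      have h1 : orderOf z ∣ p := by
        have h2 := orderOf_dvd_natCard (⟨z, hz⟩ : Subgroup.center G)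
        rw [hZ, Subgroup.orderOf_mk] at h2
        exact h2
      rcases (Nat.dvd_prime hp).mp h1 with h | h
      · exact absurd (orderOf_eq_one_iff.mp h) hz1
      · exact h
    have hzp : Subgroup.zpowers z = Subgroup.center G := by
      apply Subgroup.eq_of_le_of_card_ge (Subgroup.zpowers_le.mpr hz)
      rw [Nat.card_zpowers, hzo, hZ]
    have htriv : ∀ k ∈ commutator G, χ.1 k = χ.1 1 := by
      intro k hk
      rw [hcomm, ← hzp] at hk
      rw [← mem_powers_iff_mem_zpowers] at hk
      obtain ⟨j, rfl⟩ := hk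
      rw [← hρχ]
      unfold Representation.character
      rw [map_pow, hρz, one_pow]
      congr 1
      exact (map_one ρ).symm
    obtain ⟨ψ, hψ⟩ := Codeg.exists_irr_quot χ (commutator G) htriv
    have hψ1 := deg_one_of_comm (A := G ⧸ commutator G)
      (fun a b => mul_comm (G := Abelianization G) a b) ψ
    have h2 : χ.1 1 = 1 := by rw [← hψ 1]; exact hψ1
    rw [hd1] at h2
    exact_mod_cast h2
  have hvan : ∀ g : G, g ∉ Subgroup.center G → χ.1 g = 0 := by
    intro g hg
    have hex : ∃ h : G, h * g * h⁻¹ * g⁻¹ ≠ 1 := by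
      by_contra hall
      push Not at hall
      apply hg
      rw [Subgroup.mem_center_iff]
      intro h
      have h2 := hall h
      rw [mul_inv_eq_one, mul_inv_eq_iff_eq_mul] at h2
      exact h2
    obtain ⟨h, hh⟩ := hex
    have hmem : h * g * h⁻¹ * g⁻¹ ∈ commutator G := by
      rw [commutator_def]
      exact Subgroup.commutator_mem_commutator (Subgroup.mem_top h) (Subgroup.mem_top g)
    rw [hcomm] at hmem
    obtain ⟨ω, hω⟩ := central_scalar ρ _ hmem
    have hω1 : ω ≠ 1 := by
      intro h1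
      apply hnontriv _ hmem hh
      rw [hω, h1, one_smul]
    have hcg : g * (h * g * h⁻¹ * g⁻¹) = (h * g * h⁻¹ * g⁻¹) * g :=
      Subgroup.mem_center_iff.mp hmem g
    have h3 : h * g * h⁻¹ = g * (h * g * h⁻¹ * g⁻¹) := by
      rw [hcg]; group
    have hcf := isClassFunction_of_irr χ
    have h4 : χ.1 (h * g * h⁻¹) = χ.1 g := hcf g h
    have hmul : χ.1 (g * (h * g * h⁻¹ * g⁻¹)) = ω * χ.1 g := by
      rw [← hρχ]; exact character_mul_scalar ρ g _ ω hω
    rw [h3, hmul] at h4
    have h5 : (ω - 1) * χ.1 g = 0 := by rw [sub_mul, h4, one_mul, sub_self]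
    rcases mul_eq_zero.mp h5 with h6 | h6
    · exact absurd (sub_eq_zero.mp h6) hω1
    · exact h6
  have h2 := sum_normSq χ
  have h3 : ∑ g : G, Complex.normSq (χ.1 g)
      = ∑ g : G, (if g ∈ Subgroup.center G then Complex.normSq (χ.1 1) else 0) := by
    apply Finset.sum_congr rfl
    intro g _
    split_ifs with hg
    · exact CC.central_normSq χ g hg
    · rw [hvan g hg]; simp
  rw [Finset.sum_ite, Finset.sum_const_zero, add_zero, Finset.sum_const, nsmul_eq_mul] at h3
  have h4 : (Finset.univ.filter (fun g : G => g ∈ Subgroup.center G)).card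
      = Nat.card (Subgroup.center G) := by
    rw [Nat.card_eq_fintype_card, Fintype.card_subtype]
  rw [h4, hZ, hd1, Complex.normSq_natCast, h2] at h3
  have h5 : ((p * (Cfsg.charDegree χ.1) ^ 2 : ℕ) : ℝ) = (Nat.card G : ℝ) := by
    push_cast
    rw [pow_two]
    exact h3.symm
  exact_mod_cast h5

end Cfsg.Agent.Lib.Lead
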