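import Mathlib
import Cfsg.Prelude.Def_Solvable
import Cfsg.Agent.Lib.Lead.Invol2

set_option autoImplicit false

namespace Cfsg.Agent.Lib.Lead

open scoped Pointwise

section Frob2
variable {G : Type*} [Group G]

theorem frob_mem_conj_smul (H : Subgroup G) (g x : G) : x ∈ MulAut.conj g • H ↔ g⁻¹ * x * g ∈ H := by
  rw [Subgroup.mem_pointwise_smul_iff_inv_smul_mem]
  simp [MulAut.smul_def]

/-- Elementwise form of the trivial-intersection property of a Frobenius complement. -/
theorem frob_TI (H : Subgroup G) (hH : Cfsg.IsFrobeniusComplement H) (g x : G) (hx : x ∈ H)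
    (hx1 : x ≠ 1) (hgx : g⁻¹ * x * g ∈ H) : g ∈ H := by
  by_contra hg
  have h1 := hH.2.2 g hg
  have h2 : x ∈ H ⊓ MulAut.conj g • H := ⟨hx, (frob_mem_conj_smul H g x).mpr hgx⟩
  rw [h1, Subgroup.mem_bot] at h2
  exact hx1 h2

theorem frob_fix_iff (H : Subgroup G) (x g : G) :
    (x • (QuotientGroup.mk g : G ⧸ H) = QuotientGroup.mk g) ↔ g⁻¹ * x * g ∈ H := by
  have h0 : x • (QuotientGroup.mk g : G ⧸ H) = QuotientGroup.mk (x * g) := rfl
  rw [h0, QuotientGroup.eq]
  have e : (x * g)⁻¹ * g = (g⁻¹ * x * g)⁻¹ := by group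
  rw [e, Subgroup.inv_mem_iff]

theorem frob_mem_kernel_iff (H : Subgroup G) (x : G) :
    x ∈ Cfsg.frobeniusKernel H ↔ x = 1 ∨ ∀ g : G, g⁻¹ * x * g ∉ H := by
  show (x = 1 ∨ ∀ g : G, x ∉ MulAut.conj g • H) ↔ _
  constructor
  · rintro (h | h)
    · left; exact h
    · right; intro g hg; exact h g ((frob_mem_conj_smul H g x).mpr hg)
  · rintro (h | h)
    · left; exact h
    · right; intro g hg; exact h g ((frob_mem_conj_smul H g x).mp hg)

/-- The Frobenius kernel has as many elements as the index of the complement. -/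
theorem frob_kernel_card [Finite G] (H : Subgroup G) (hH : Cfsg.IsFrobeniusComplement H) :
    Nat.card (Cfsg.frobeniusKernel H) = H.index := by
  classical
  haveI : Fintype G := Fintype.ofFinite G
  haveI : Fintype (G ⧸ H) := Fintype.ofFinite _
  haveI : Fintype (Quotient (MulAction.orbitRel G (G ⧸ H))) := Fintype.ofFinite _
  haveI : ∀ g : G, Fintype (MulAction.fixedBy (G ⧸ H) g) := fun g => Fintype.ofFinite _
  have hB := MulAction.sum_card_fixedBy_eq_card_orbits_mul_card_group G (G ⧸ H)
  have horb : Fintype.card (Quotient (MulAction.orbitRel G (G ⧸ H))) = 1 := by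
    rw [Fintype.card_eq_one_iff]
    refine ⟨Quotient.mk _ (QuotientGroup.mk 1), fun q => ?_⟩
    induction q using Quotient.inductionOn with
    | _ c =>
      rw [Quotient.eq]
      exact MulAction.orbitRel_apply.mpr (MulAction.mem_orbit_iff.mpr
        (MulAction.exists_smul_eq G _ _))
  rw [horb, one_mul] at hB
  have hterm : ∀ x : G, Fintype.card (MulAction.fixedBy (G ⧸ H) x) =
      if x = 1 then H.index else if x ∈ Cfsg.frobeniusKernel H then 0 else 1 := by
    intro x
    by_cases hx1 : x = 1
    · rw [if_pos hx1, hx1, ← Nat.card_eq_fintype_card, Subgroup.index_eq_card]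
      exact Nat.card_congr
        { toFun := fun c => c.1
          invFun := fun c => ⟨c, by simp⟩
          left_inv := fun c => rfl
          right_inv := fun c => rfl }
    · rw [if_neg hx1]
      by_cases hxK : x ∈ Cfsg.frobeniusKernel H
      · rw [if_pos hxK]
        rw [frob_mem_kernel_iff] at hxK
        rcases hxK with h | h
        · exact absurd h hx1
        · rw [Fintype.card_eq_zero_iff]
          constructor
          rintro ⟨c, hc⟩
          induction c using QuotientGroup.induction_on with
          | H g =>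
            rw [MulAction.mem_fixedBy, frob_fix_iff] at hc
            exact h g hc
      · rw [if_neg hxK]
        rw [frob_mem_kernel_iff] at hxK
        push Not at hxK
        obtain ⟨-, g, hg⟩ := hxK
        rw [Fintype.card_eq_one_iff]
        refine ⟨⟨QuotientGroup.mk g, by rw [MulAction.mem_fixedBy, frob_fix_iff]; exact hg⟩, ?_⟩
        rintro ⟨c, hc⟩
        apply Subtype.ext
        show c = QuotientGroup.mk g
        induction c using QuotientGroup.induction_on with
        | H g' =>
          rw [MulAction.mem_fixedBy, frob_fix_iff] at hc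
          have hy1 : g⁻¹ * x * g ≠ 1 := by
            intro h0
            apply hx1
            calc x = g * (g⁻¹ * x * g) * g⁻¹ := by group
              _ = 1 := by rw [h0]; group
          have e : (g⁻¹ * g')⁻¹ * (g⁻¹ * x * g) * (g⁻¹ * g') = g'⁻¹ * x * g' := by group
          have h5 := frob_TI H hH (g⁻¹ * g') _ hg hy1 (by rw [e]; exact hc)
          symm
          rw [QuotientGroup.eq]
          exact h5
  rw [Finset.sum_congr rfl (fun x _ => hterm x)] at hB
  have h1K : (1 : G) ∈ Cfsg.frobeniusKernel H := Or.inl rfl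
  rw [← Finset.add_sum_erase _ _ (Finset.mem_univ (1 : G)), if_pos rfl] at hB
  have h2 : ∑ x ∈ Finset.univ.erase (1 : G),
      (if x = 1 then H.index else if x ∈ Cfsg.frobeniusKernel H then 0 else 1)
      = (Finset.univ.filter (fun x : G => x ∉ Cfsg.frobeniusKernel H)).card := by
    rw [Finset.card_filter]
    rw [← Finset.add_sum_erase _ _ (Finset.mem_univ (1 : G))]
    rw [if_neg (not_not.mpr h1K), zero_add]
    apply Finset.sum_congr rfl
    intro x hx
    rw [if_neg (Finset.ne_of_mem_erase hx)]
    by_cases hxK : x ∈ Cfsg.frobeniusKernel H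
    · rw [if_pos hxK, if_neg (not_not.mpr hxK)]
    · rw [if_neg hxK, if_pos hxK]
  rw [h2] at hB
  have h3 : (Finset.univ.filter (fun x : G => x ∉ Cfsg.frobeniusKernel H)).card
      + (Finset.univ.filter (fun x : G => x ∈ Cfsg.frobeniusKernel H)).card = Fintype.card G := by
    rw [add_comm, Finset.card_filter_add_card_filter_not, Finset.card_univ]
  have h4 : Nat.card (Cfsg.frobeniusKernel H)
      = (Finset.univ.filter (fun x : G => x ∈ Cfsg.frobeniusKernel H)).card := by
    rw [Nat.card_eq_fintype_card, ← Fintype.card_subtype]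
  rw [h4]
  omega

/-- The index of a Frobenius complement is congruent to `1` modulo its order. -/
theorem frob_index_mod [Finite G] (H : Subgroup G) (hH : Cfsg.IsFrobeniusComplement H) :
    ∃ q : ℕ, H.index = 1 + Nat.card H * q := by
  classical
  haveI : Fintype (G ⧸ H) := Fintype.ofFinite _
  let S : SubMulAction H (G ⧸ H) :=
    { carrier := {c | c ≠ QuotientGroup.mk 1}
      smul_mem' := by
        intro h c hc hcon
        apply hc
        have h1 : (h : G) • c = QuotientGroup.mk 1 := hcon
        have h2 : c = (h : G)⁻¹ • (QuotientGroup.mk 1 : G ⧸ H) := by rw [← h1, inv_smul_smul]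
        rw [h2]
        show (QuotientGroup.mk ((h : G)⁻¹ * 1) : G ⧸ H) = QuotientGroup.mk 1
        rw [QuotientGroup.eq]
        simp }
  have hfree : ∀ s : S, MulAction.stabilizer H s = ⊥ := by
    intro s
    rw [eq_bot_iff]
    intro h hh
    rw [MulAction.mem_stabilizer_iff] at hh
    rw [Subgroup.mem_bot]
    by_contra hne
    have hs := s.2
    have h1 : (h : G) • (s : G ⧸ H) = (s : G ⧸ H) := congrArg Subtype.val hh
    obtain ⟨g, hg⟩ := QuotientGroup.mk_surjective (s : G ⧸ H)
    rw [← hg, frob_fix_iff] at h1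
    have hh1 : (h : G) ≠ 1 := fun h0 => hne (Subtype.ext h0)
    have h2 := frob_TI H hH g (h : G) h.2 hh1 h1
    apply hs
    show (s : G ⧸ H) = QuotientGroup.mk 1
    rw [← hg, QuotientGroup.eq]
    simpa using h2
  have e := MulAction.selfEquivOrbitsQuotientProd hfree
  have hcard : Nat.card S = Nat.card (Quotient (MulAction.orbitRel H S)) * Nat.card H := by
    rw [Nat.card_congr e, Nat.card_prod]
  have hS : Nat.card S + 1 = H.index := by
    have h1 : Nat.card S = Nat.card {c : G ⧸ H // c ≠ QuotientGroup.mk 1} := rfl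
    rw [h1, Subgroup.index_eq_card, Nat.card_eq_fintype_card, Nat.card_eq_fintype_card,
      Fintype.card_subtype_compl, Fintype.card_subtype_eq]
    have hpos : 0 < Fintype.card (G ⧸ H) := Fintype.card_pos
    omega
  refine ⟨Nat.card (Quotient (MulAction.orbitRel H S)), ?_⟩
  rw [← hS, hcard]
  ring

end Frob2

end Cfsg.Agent.Lib.Lead
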