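import Mathlib
import Cfsg.Agent.Lib.Lead.Basic
import Cfsg.Agent.Lib.Lead.BaerSuzuki
import Cfsg.Agent.Lib.Lead.Invol2
import Cfsg.Agent.Lib.Lead.PResidual
import Cfsg.Agent.Lib.Helper1.Schmidt
import Cfsg.Agent.Lib.Helper6.CycSylow

set_option autoImplicit false

universe u

namespace Cfsg.Agent.Lib.Lead

open scoped Pointwise

/-- Frobenius' condition: `p'`-elements of `N_G(Q)` centralise `Q` for every `p`-subgroup `Q`. -/
def FrobCond (p : ℕ) (G : Type u) [Group G] : Prop :=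
  ∀ Q : Subgroup G, IsPGroup p Q → ∀ g ∈ Subgroup.normalizer (Q : Set G),
    Nat.Coprime (orderOf g) p → g ∈ Subgroup.centralizer (Q : Set G)

theorem frobCond_subgroup {p : ℕ} {G : Type u} [Group G] [Finite G] (hF : FrobCond p G)
    (M : Subgroup G) : FrobCond p ↥M := by
  intro Q hQ g hg hcop
  have h1 : (g : G) ∈ Subgroup.normalizer ((Q.map M.subtype : Subgroup G) : Set G) := by
    apply mem_normalizer_of_conj_le
    rintro d ⟨q, hq, rfl⟩
    exact ⟨g * q * g⁻¹, (Subgroup.mem_normalizer_iff.mp hg q).mp hq, rfl⟩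
  have h2 := hF (Q.map M.subtype) (hQ.map _) (g : G) h1 (by rw [Subgroup.orderOf_coe]; exact hcop)
  rw [Subgroup.mem_centralizer_iff]
  intro y hy
  apply Subtype.ext
  exact (Subgroup.mem_centralizer_iff.mp h2) (y : G) ⟨y, hy, rfl⟩

/-- Under Frobenius' condition, two Sylow `p`-subgroups containing `A` are conjugate by an
element of `C_G(A)`. -/
theorem sylow_conj_centralizer {p : ℕ} [Fact p.Prime] {G : Type u} [Group G] [Finite G]
    (hF : FrobCond p G) : ∀ (k : ℕ) (P T : Sylow p G) (A : Subgroup G),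
    A ≤ (P : Subgroup G) → A ≤ (T : Subgroup G) → Nat.card (P : Subgroup G) - Nat.card A = k →
    ∃ c ∈ Subgroup.centralizer (A : Set G), ∀ x ∈ (T : Subgroup G), c * x * c⁻¹ ∈ (P : Subgroup G) := by
  intro k
  induction k using Nat.strong_induction_on with
  | _ k ih =>
  intro P T A hAP hAT hk
  have hp : p.Prime := Fact.out
  have hcardPT : Nat.card (P : Subgroup G) = Nat.card (T : Subgroup G) := by
    rw [Sylow.card_eq_multiplicity, Sylow.card_eq_multiplicity]
  by_cases hA : A = (P : Subgroup G)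
  · refine ⟨1, Subgroup.one_mem _, fun x hx => ?_⟩
    have hTP : (P : Subgroup G) = (T : Subgroup G) := by
      apply Subgroup.eq_of_le_of_card_ge (hA ▸ hAT)
      rw [hcardPT]
    rw [hTP]
    simpa using hx
  · have hAltP : A < (P : Subgroup G) := lt_of_le_of_ne hAP hA
    have hAT' : A ≠ (T : Subgroup G) := by
      intro h
      apply hA
      apply Subgroup.eq_of_le_of_card_ge hAP
      rw [hcardPT, h]
    have hAltT : A < (T : Subgroup G) := lt_of_le_of_ne hAT hAT'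
    have hApg : IsPGroup p A := P.isPGroup'.to_le hAP
    obtain ⟨x₁, hx₁P, hx₁N, hx₁A⟩ := Cfsg.Agent.Lib.Helper1.nilpotent_normalizer_grow
      (P : Subgroup G) A (P.isPGroup'.isNilpotent) hAltP
    obtain ⟨x₂, hx₂T, hx₂N, hx₂A⟩ := Cfsg.Agent.Lib.Helper1.nilpotent_normalizer_grow
      (T : Subgroup G) A (T.isPGroup'.isNilpotent) hAltT
    -- NP, NT
    obtain ⟨NP, hNP⟩ : ∃ NP : Subgroup G, NP = (P : Subgroup G) ⊓ Subgroup.normalizer (A : Set G) :=
      ⟨_, rfl⟩
    obtain ⟨NT, hNT⟩ : ∃ NT : Subgroup G, NT = (T : Subgroup G) ⊓ Subgroup.normalizer (A : Set G) :=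
      ⟨_, rfl⟩
    have hANP : A < NP := by
      refine lt_of_le_of_ne (hNP ▸ le_inf hAP Subgroup.le_normalizer) ?_
      intro h
      exact hx₁A (h ▸ (hNP ▸ ⟨hx₁P, hx₁N⟩ : x₁ ∈ NP))
    have hANT : A < NT := by
      refine lt_of_le_of_ne (hNT ▸ le_inf hAT Subgroup.le_normalizer) ?_
      intro h
      exact hx₂A (h ▸ (hNT ▸ ⟨hx₂T, hx₂N⟩ : x₂ ∈ NT))
    have hNPP : NP ≤ (P : Subgroup G) := hNP ▸ inf_le_left
    have hNTT : NT ≤ (T : Subgroup G) := hNT ▸ inf_le_left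
    have hNPN : NP ≤ Subgroup.normalizer (A : Set G) := hNP ▸ inf_le_right
    have hNTN : NT ≤ Subgroup.normalizer (A : Set G) := hNT ▸ inf_le_right
    have hNPpg : IsPGroup p NP := P.isPGroup'.to_le hNPP
    have hNTpg : IsPGroup p NT := T.isPGroup'.to_le hNTT
    -- Sylow of N containing NP
    have hNPpg' : IsPGroup p (NP.subgroupOf (Subgroup.normalizer (A : Set G))) := hNPpg.comap_subtype
    obtain ⟨S₁, hS₁⟩ := hNPpg'.exists_le_sylow
    obtain ⟨h, hh⟩ := exists_conj_into_sylow S₁ (NT.subgroupOf (Subgroup.normalizer (A : Set G)))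
      hNTpg.comap_subtype
    -- decompose h = s * c₀
    haveI := pResidual_normal_lead (G := ↥(Subgroup.normalizer (A : Set G))) p
    have hsup := pResidual_sup_sylow_lead p S₁
    have hmem : h ∈ ((S₁ : Subgroup ↥(Subgroup.normalizer (A : Set G))) ⊔
        Cfsg.pResidual p ↥(Subgroup.normalizer (A : Set G)) : Subgroup _) := by
      rw [sup_comm, hsup]; exact Subgroup.mem_top h
    rw [← SetLike.mem_coe, Subgroup.mul_normal] at hmem
    obtain ⟨s, hs, c₀, hc₀, hsc⟩ := Set.mem_mul.mp hmem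
    have hc₀C : (c₀ : G) ∈ Subgroup.centralizer (A : Set G) := by
      have hle : Cfsg.pResidual p ↥(Subgroup.normalizer (A : Set G)) ≤
          (Subgroup.centralizer (A : Set G)).subgroupOf (Subgroup.normalizer (A : Set G)) := by
        rw [Cfsg.pResidual, Subgroup.closure_le]
        intro g hg
        have hg' : Nat.Coprime (orderOf g) p := hg
        rw [SetLike.mem_coe, Subgroup.mem_subgroupOf]
        exact hF A hApg (g : G) g.2 (by rw [Subgroup.orderOf_coe]; exact hg')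
      exact Subgroup.mem_subgroupOf.mp (hle hc₀)
    -- c₀ NT c₀⁻¹ ⊆ S₁
    have hc₀NT : ∀ y ∈ NT, ∃ hy : (c₀ : G) * y * (c₀ : G)⁻¹ ∈ Subgroup.normalizer (A : Set G),
        (⟨(c₀ : G) * y * (c₀ : G)⁻¹, hy⟩ : ↥(Subgroup.normalizer (A : Set G))) ∈
          (S₁ : Subgroup ↥(Subgroup.normalizer (A : Set G))) := by
      intro y hy
      have hyN := hNTN hy
      have h1 := hh ⟨y, hyN⟩ (by rw [Subgroup.mem_subgroupOf]; exact hy)
      have h2 : c₀ * ⟨y, hyN⟩ * c₀⁻¹ = s⁻¹ * (h * ⟨y, hyN⟩ * h⁻¹) * s := by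
        rw [← hsc]; group
      have h3 : c₀ * ⟨y, hyN⟩ * c₀⁻¹ ∈ (S₁ : Subgroup ↥(Subgroup.normalizer (A : Set G))) := by
        rw [h2]
        exact Subgroup.mul_mem _ (Subgroup.mul_mem _ (Subgroup.inv_mem _ hs) h1) hs
      exact ⟨(c₀ * ⟨y, hyN⟩ * c₀⁻¹ : ↥(Subgroup.normalizer (A : Set G))).2, h3⟩
    -- Sylow P₁ of G containing the image of S₁
    obtain ⟨P₁, hP₁⟩ := (S₁.isPGroup'.map (Subgroup.normalizer (A : Set G)).subtype).exists_le_sylow
    have hNPP₁ : NP ≤ (P₁ : Subgroup G) := by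
      intro y hy
      apply hP₁
      exact ⟨⟨y, hNPN hy⟩, hS₁ (by rw [Subgroup.mem_subgroupOf]; exact hy), rfl⟩
    have hcardP₁ : Nat.card (P₁ : Subgroup G) = Nat.card (P : Subgroup G) := by
      rw [Sylow.card_eq_multiplicity, Sylow.card_eq_multiplicity]
    have hk1 : Nat.card (P : Subgroup G) - Nat.card NP < k := by
      have h1 := card_lt_of_lt hANP
      have h2 := card_lt_of_lt hAltP
      have h3 : Nat.card NP ≤ Nat.card (P : Subgroup G) := Subgroup.card_le_of_le hNPP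
      omega
    obtain ⟨c₁, hc₁, hc₁P⟩ := ih _ hk1 P P₁ NP hNPP hNPP₁ rfl
    -- second application
    obtain ⟨A₂, hA₂⟩ : ∃ A₂ : Subgroup G, A₂ = MulAut.conj (c₀ : G) • NT := ⟨_, rfl⟩
    have hA₂P₁ : A₂ ≤ (P₁ : Subgroup G) := by
      intro y hy
      rw [hA₂, mem_conj_smul] at hy
      obtain ⟨hy', hy''⟩ := hc₀NT _ hy
      apply hP₁
      refine ⟨_, hy'', ?_⟩
      show (c₀ : G) * ((c₀ : G)⁻¹ * y * (c₀ : G)) * (c₀ : G)⁻¹ = y
      group
    have hA₂T : A₂ ≤ (((c₀ : G) • T : Sylow p G) : Subgroup G) := by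
      intro y hy
      rw [hA₂, mem_conj_smul] at hy
      rw [Sylow.coe_subgroup_smul, mem_conj_smul]
      exact hNTT hy
    have hcardA₂ : Nat.card A₂ = Nat.card NT := by rw [hA₂]; exact card_conj_smul _ _
    have hk2 : Nat.card (P₁ : Subgroup G) - Nat.card A₂ < k := by
      have h1 := card_lt_of_lt hANT
      have h2 := card_lt_of_lt hAltP
      have h3 : Nat.card NT ≤ Nat.card (T : Subgroup G) := Subgroup.card_le_of_le hNTT
      rw [hcardP₁, hcardA₂]
      omega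
    obtain ⟨c₂, hc₂, hc₂P⟩ := ih _ hk2 P₁ ((c₀ : G) • T) A₂ hA₂P₁ hA₂T rfl
    have hAA₂ : A ≤ A₂ := by
      intro a ha
      rw [hA₂, mem_conj_smul]
      have h1 := (Subgroup.mem_centralizer_iff.mp hc₀C) a ha
      have h2 : (c₀ : G)⁻¹ * a * (c₀ : G) = a := by
        calc (c₀ : G)⁻¹ * a * (c₀ : G) = (c₀ : G)⁻¹ * (a * (c₀ : G)) := by group
          _ = (c₀ : G)⁻¹ * ((c₀ : G) * a) := by rw [h1]
          _ = a := by group
      rw [h2]
      exact hANT.le ha
    refine ⟨c₁ * c₂ * (c₀ : G), ?_, ?_⟩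
    · exact Subgroup.mul_mem _ (Subgroup.mul_mem _ (Subgroup.centralizer_le hANP.le hc₁)
        (Subgroup.centralizer_le hAA₂ hc₂)) hc₀C
    · intro x hx
      have h1 : (c₀ : G) * x * (c₀ : G)⁻¹ ∈ (((c₀ : G) • T : Sylow p G) : Subgroup G) := by
        rw [Sylow.coe_subgroup_smul, mem_conj_smul]
        have e : (c₀ : G)⁻¹ * ((c₀ : G) * x * (c₀ : G)⁻¹) * (c₀ : G) = x := by group
        rw [e]; exact hx
      have h2 := hc₁P _ (hc₂P _ h1)
      have e : c₁ * c₂ * (c₀ : G) * x * (c₁ * c₂ * (c₀ : G))⁻¹ =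
          c₁ * (c₂ * ((c₀ : G) * x * (c₀ : G)⁻¹) * c₂⁻¹) * c₁⁻¹ := by group
      rw [e]
      exact h2

/-- Under Frobenius' condition a Sylow `p`-subgroup controls its own fusion. -/
theorem frob_fusion {p : ℕ} [Fact p.Prime] {G : Type u} [Group G] [Finite G]
    (hF : FrobCond p G) (P : Sylow p G) (x g : G) (hx : x ∈ (P : Subgroup G))
    (hgx : g * x * g⁻¹ ∈ (P : Subgroup G)) :
    ∃ u ∈ (P : Subgroup G), g * x * g⁻¹ = u * x * u⁻¹ := by
  have hp : p.Prime := Fact.out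
  have hxT : Subgroup.zpowers x ≤ ((g⁻¹ • P : Sylow p G) : Subgroup G) := by
    rw [Subgroup.zpowers_le, Sylow.coe_subgroup_smul, mem_conj_smul, inv_inv]
    exact hgx
  obtain ⟨c, hc, hcT⟩ := sylow_conj_centralizer hF _ P (g⁻¹ • P) (Subgroup.zpowers x)
    (Subgroup.zpowers_le.mpr hx) hxT rfl
  have hn : c * g⁻¹ ∈ Subgroup.normalizer ((P : Subgroup G) : Set G) := by
    apply mem_normalizer_of_conj_le
    intro d hd
    have h1 : g⁻¹ * d * g ∈ ((g⁻¹ • P : Sylow p G) : Subgroup G) := by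
      rw [Sylow.coe_subgroup_smul, mem_conj_smul, inv_inv]
      have e : g * (g⁻¹ * d * g) * g⁻¹ = d := by group
      rw [e]; exact hd
    have h2 := hcT _ h1
    have e : c * g⁻¹ * d * (c * g⁻¹)⁻¹ = c * (g⁻¹ * d * g) * c⁻¹ := by group
    rw [e]; exact h2
  obtain ⟨a, b, hab, haz, hbz, ⟨k, hak⟩, hb⟩ :=
    Cfsg.Agent.Lib.Helper6.exists_p_decomp' p hp (c * g⁻¹)
  have haN : a ∈ Subgroup.normalizer ((P : Subgroup G) : Set G) := (Subgroup.zpowers_le.mpr hn) haz
  have hbN : b ∈ Subgroup.normalizer ((P : Subgroup G) : Set G) := (Subgroup.zpowers_le.mpr hn) hbz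
  have haP : a ∈ (P : Subgroup G) := Cfsg.Agent.Lib.Helper6.mem_sylow_of_mem_normalizer P hak haN
  have hbC : b ∈ Subgroup.centralizer ((P : Subgroup G) : Set G) := hF P P.isPGroup' b hbN hb
  have hcx : c * x * c⁻¹ = x := by
    have h1 := (Subgroup.mem_centralizer_iff.mp hc) x (Subgroup.mem_zpowers x)
    rw [← h1]; group
  refine ⟨a⁻¹, Subgroup.inv_mem _ haP, ?_⟩
  have hg : g = b⁻¹ * a⁻¹ * c := by
    calc g = (c * g⁻¹)⁻¹ * c := by group
      _ = (a * b)⁻¹ * c := by rw [hab]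
      _ = b⁻¹ * a⁻¹ * c := by group
  have h3 : a⁻¹ * x * a ∈ (P : Subgroup G) :=
    Subgroup.mul_mem _ (Subgroup.mul_mem _ (Subgroup.inv_mem _ haP) hx) haP
  have h4 : (a⁻¹ * x * a) * b = b * (a⁻¹ * x * a) := (Subgroup.mem_centralizer_iff.mp hbC) _ h3
  have e1 : g * x * g⁻¹ = b⁻¹ * (a⁻¹ * (c * x * c⁻¹) * a) * b := by
    have e2 : g * x * g⁻¹ = (b⁻¹ * a⁻¹ * c) * x * (b⁻¹ * a⁻¹ * c)⁻¹ := by rw [← hg]
    rw [e2]; group
  calc g * x * g⁻¹ = b⁻¹ * (a⁻¹ * (c * x * c⁻¹) * a) * b := e1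
    _ = b⁻¹ * ((a⁻¹ * x * a) * b) := by rw [hcx]; group
    _ = b⁻¹ * (b * (a⁻¹ * x * a)) := by rw [h4]
    _ = a⁻¹ * x * a⁻¹⁻¹ := by group

open scoped commutatorElement in
/-- If a nontrivial Sylow `p`-subgroup controls its own fusion, there is a normal subgroup of
index `p`. -/
theorem exists_normal_index_p_of_fusion {p : ℕ} [Fact p.Prime] {G : Type u} [Group G] [Finite G]
    (P : Sylow p G) (hP : (P : Subgroup G) ≠ ⊥)
    (hfus : ∀ x ∈ (P : Subgroup G), ∀ g : G, g * x * g⁻¹ ∈ (P : Subgroup G) →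
      ∃ u ∈ (P : Subgroup G), g * x * g⁻¹ = u * x * u⁻¹) :
    ∃ M : Subgroup G, M.Normal ∧ M.index = p := by
  have hp : p.Prime := Fact.out
  have hfoc : (P : Subgroup G).focalSubgroup ≤ ⁅(P : Subgroup G), (P : Subgroup G)⁆ := by
    rw [Subgroup.focalSubgroup_def, Subgroup.closure_le]
    rintro z ⟨hzP, x, hxP, u, rfl⟩
    have h1 : u * x * u⁻¹ ∈ (P : Subgroup G) := by
      have h2 : u * x * u⁻¹ = (x⁻¹ * ⁅x, u⁆)⁻¹ := by rw [commutatorElement_def]; group
      rw [h2]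
      exact Subgroup.inv_mem _ (Subgroup.mul_mem _ (Subgroup.inv_mem _ hxP) hzP)
    obtain ⟨v, hv, hvx⟩ := hfus x hxP u h1
    have h4 : ⁅x, u⁆ = ⁅x, v⁆ := by
      rw [commutatorElement_def, commutatorElement_def]
      calc x * u * x⁻¹ * u⁻¹ = x * (u * x * u⁻¹)⁻¹ := by group
        _ = x * (v * x * v⁻¹)⁻¹ := by rw [hvx]
        _ = x * v * x⁻¹ * v⁻¹ := by group
    rw [h4]
    exact Subgroup.commutator_mem_commutator hxP hv
  have hlt : ⁅(P : Subgroup G), (P : Subgroup G)⁆ < (P : Subgroup G) := by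
    haveI : Nontrivial (P : Subgroup G) := (Subgroup.nontrivial_iff_ne_bot _).mpr hP
    haveI : Group.IsNilpotent (P : Subgroup G) := P.isPGroup'.isNilpotent
    have h1 : commutator (P : Subgroup G) < ⊤ :=
      Group.IsSolvable.commutator_lt_top_of_nontrivial _
    have h2 : (commutator (P : Subgroup G)).map (P : Subgroup G).subtype =
        ⁅(P : Subgroup G), (P : Subgroup G)⁆ := Subgroup.map_subtype_commutator _
    rw [← h2]
    refine lt_of_le_of_ne (Subgroup.map_subtype_le _) ?_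
    intro heq
    apply h1.ne
    apply Subgroup.map_injective (P : Subgroup G).subtype_injective
    rw [heq, ← MonoidHom.range_eq_map, Subgroup.range_subtype]
  have hne : (P : Subgroup G).focalSubgroupOf ≠ ⊤ := by
    intro h
    have h1 : (P : Subgroup G) ≤ (P : Subgroup G).focalSubgroup := Subgroup.subgroupOf_eq_top.mp h
    exact hlt.not_ge (h1.trans hfoc)
  have hQ : IsPGroup p ((P : Subgroup G) ⧸ (P : Subgroup G).focalSubgroupOf) :=
    P.isPGroup'.to_quotient _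
  obtain ⟨m, hm⟩ := IsPGroup.iff_card.mp hQ
  have hm1 : 1 ≤ m := by
    rcases Nat.eq_zero_or_pos m with h0 | h0
    · exfalso
      rw [h0, pow_zero] at hm
      apply hne
      rw [← Subgroup.index_eq_one, Subgroup.index_eq_card]
      exact hm
    · exact h0
  obtain ⟨K, hK⟩ := Sylow.exists_subgroup_card_pow_prime
    (G := (P : Subgroup G) ⧸ (P : Subgroup G).focalSubgroupOf) p (n := m - 1)
    (by rw [hm]; exact pow_dvd_pow p (Nat.sub_le m 1))
  have hKidx : K.index = p := by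
    have h1 := Subgroup.card_mul_index K
    rw [hK, hm] at h1
    have h2 : p ^ (m - 1) * K.index = p ^ (m - 1) * p := by
      rw [h1, ← pow_succ]
      congr 1
      omega
    exact Nat.eq_of_mul_eq_mul_left (pow_pos hp.pos _) h2
  haveI : K.Normal := by
    constructor
    intro n hn g
    have h1 : g * n = n * g := IsMulCommutative.is_comm.comm g n
    have h2 : g * n * g⁻¹ = n := by rw [h1]; group
    rw [h2]; exact hn
  refine ⟨K.comap (Subgroup.transferFocal (P : Subgroup G)), inferInstance, ?_⟩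
  rw [Subgroup.index_comap_of_surjective _ (Subgroup.transferFocal_surjective P)]
  exact hKidx

theorem frobenius_pcompl_aux {p : ℕ} [Fact p.Prime] : ∀ (n : ℕ) (G : Type u) [Group G] [Finite G],
    Nat.card G = n → FrobCond p G → ∀ P : Sylow p G,
    ∃ N : Subgroup G, N.Normal ∧ N.IsComplement' (P : Subgroup G) := by
  intro n
  induction n using Nat.strong_induction_on with
  | _ n ih =>
  intro G _ _ hn hF P
  have hp : p.Prime := Fact.out
  by_cases hP : (P : Subgroup G) = ⊥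
  · exact ⟨⊤, inferInstance, hP ▸ Subgroup.isComplement'_top_bot⟩
  obtain ⟨M, hMn, hMidx⟩ := exists_normal_index_p_of_fusion P hP
    (fun x hx g hgx => frob_fusion hF P x g hx hgx)
  have hMcard : Nat.card M * p = Nat.card G := by rw [← hMidx]; exact Subgroup.card_mul_index M
  have hMlt : Nat.card M < n := by
    rw [← hn, ← hMcard]
    have h1 := hp.one_lt
    have h2 : 0 < Nat.card M := Nat.card_pos
    nlinarith
  obtain ⟨PM⟩ : Nonempty (Sylow p M) := inferInstance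
  obtain ⟨N', hN'n, hN'c⟩ := ih _ hMlt ↥M rfl (frobCond_subgroup hF M) PM
  obtain ⟨j, hj⟩ := IsPGroup.iff_card.mp PM.isPGroup'
  have hN'idx : N'.index = p ^ j := by rw [hN'c.symm.index_eq_card, hj]
  have hN'nd : ¬ p ∣ Nat.card N' := by rw [← hN'c.index_eq_card]; exact PM.not_dvd_index
  have hmemK : ∀ y : G, ∀ hy : y ∈ M, Nat.Coprime (orderOf y) p → (⟨y, hy⟩ : M) ∈ N' := by
    intro y hy hcop
    have h1 : ((⟨y, hy⟩ : M) : M ⧸ N') ^ (p ^ j) = 1 := by
      have h0 := pow_card_eq_one' (G := M ⧸ N') (x := ((⟨y, hy⟩ : M) : M ⧸ N'))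
      rwa [← Subgroup.index_eq_card, hN'idx] at h0
    have h2 : ((⟨y, hy⟩ : M) : M ⧸ N') ^ (orderOf y) = 1 := by
      rw [← QuotientGroup.mk_pow]
      have h0 : (⟨y, hy⟩ : M) ^ orderOf y = 1 := Subtype.ext (by simpa using pow_orderOf_eq_one y)
      rw [h0]; rfl
    have d1 := orderOf_dvd_of_pow_eq_one h1
    have d2 := orderOf_dvd_of_pow_eq_one h2
    have h3 := Nat.eq_one_of_dvd_coprimes (Nat.Coprime.pow_left j hcop.symm) d1 d2
    exact (QuotientGroup.eq_one_iff _).mp (orderOf_eq_one_iff.mp h3)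
  have hKcard : Nat.card (N'.map M.subtype) = Nat.card N' :=
    Subgroup.card_map_of_injective (Subgroup.subtype_injective M)
  refine ⟨N'.map M.subtype, ?_, ?_⟩
  · constructor
    rintro _ ⟨k, hk, rfl⟩ g
    have hgk : g * (k : G) * g⁻¹ ∈ M := hMn.conj_mem _ k.2 g
    refine ⟨⟨_, hgk⟩, hmemK _ hgk ?_, rfl⟩
    rw [orderOf_conj_eq, Subgroup.orderOf_coe]
    have d : orderOf k ∣ Nat.card N' := by
      have h0 := orderOf_dvd_natCard (⟨k, hk⟩ : N')
      rwa [Subgroup.orderOf_mk] at h0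
    exact Nat.Coprime.coprime_dvd_left d ((Nat.Prime.coprime_iff_not_dvd hp).mpr hN'nd).symm
  · have h1 := hN'c.card_mul_card
    rw [hj] at h1
    have hG : Nat.card G = Nat.card N' * p ^ (j + 1) := by
      rw [← hMcard, ← h1, pow_succ]; ring
    have hPcard : Nat.card (P : Subgroup G) = p ^ (j + 1) := by
      rw [Sylow.card_eq_multiplicity, hG,
        Nat.factorization_mul Nat.card_pos.ne' (pow_ne_zero _ hp.ne_zero)]
      simp [Nat.factorization_eq_zero_of_not_dvd hN'nd, hp.factorization_self]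
    apply Subgroup.isComplement'_of_coprime
    · rw [hKcard, hPcard, hG]
    · rw [hKcard, hPcard]
      exact Nat.Coprime.pow_right _ ((Nat.Prime.coprime_iff_not_dvd hp).mpr hN'nd).symm

/-- **Frobenius' normal `p`-complement theorem.** -/
theorem frobenius_pcompl {p : ℕ} [Fact p.Prime] {G : Type u} [Group G] [Finite G]
    (hF : FrobCond p G) (P : Sylow p G) :
    ∃ N : Subgroup G, N.Normal ∧ N.IsComplement' (P : Subgroup G) :=
  frobenius_pcompl_aux _ G rfl hF P

/-- `p'`-elements lie in a normal `p`-complement. -/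
theorem mem_pcompl_of_coprime {p : ℕ} [Fact p.Prime] {G : Type u} [Group G] [Finite G]
    (P : Sylow p G) (N : Subgroup G) [N.Normal] (hc : N.IsComplement' (P : Subgroup G))
    (g : G) (hg : Nat.Coprime (orderOf g) p) : g ∈ N := by
  obtain ⟨j, hj⟩ := IsPGroup.iff_card.mp P.isPGroup'
  have hidx : N.index = p ^ j := by rw [hc.symm.index_eq_card, hj]
  have h1 : (g : G ⧸ N) ^ (p ^ j) = 1 := by
    have h0 := pow_card_eq_one' (G := G ⧸ N) (x := (g : G ⧸ N))
    rwa [← Subgroup.index_eq_card, hidx] at h0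
  have h2 : (g : G ⧸ N) ^ (orderOf g) = 1 := by
    rw [← QuotientGroup.mk_pow, pow_orderOf_eq_one]; rfl
  have d1 := orderOf_dvd_of_pow_eq_one h1
  have d2 := orderOf_dvd_of_pow_eq_one h2
  have h3 := Nat.eq_one_of_dvd_coprimes (Nat.Coprime.pow_left j hg.symm) d1 d2
  exact (QuotientGroup.eq_one_iff _).mp (orderOf_eq_one_iff.mp h3)

/-- A group with a normal `p`-complement satisfies Frobenius' condition. -/
theorem frobCond_of_pcompl {p : ℕ} [Fact p.Prime] {G : Type u} [Group G] [Finite G]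
    (P : Sylow p G) (N : Subgroup G) [hN : N.Normal] (hc : N.IsComplement' (P : Subgroup G)) :
    FrobCond p G := by
  have hp : p.Prime := Fact.out
  intro Q hQ g hg hcop
  have hgN := mem_pcompl_of_coprime P N hc g hcop
  rw [Subgroup.mem_centralizer_iff]
  intro x hx
  have hxQ : x ∈ Q := hx
  have hw1 : g * x * g⁻¹ * x⁻¹ ∈ Q :=
    Q.mul_mem ((Subgroup.mem_normalizer_iff.mp hg x).mp hxQ) (Q.inv_mem hxQ)
  have hw2 : g * x * g⁻¹ * x⁻¹ ∈ N := by
    have h1 : x * g⁻¹ * x⁻¹ ∈ N := hN.conj_mem _ (N.inv_mem hgN) x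
    have e : g * x * g⁻¹ * x⁻¹ = g * (x * g⁻¹ * x⁻¹) := by group
    rw [e]
    exact N.mul_mem hgN h1
  have hw : g * x * g⁻¹ * x⁻¹ = 1 := by
    obtain ⟨k, hk⟩ := (IsPGroup.iff_orderOf.mp hQ) ⟨_, hw1⟩
    rw [Subgroup.orderOf_mk] at hk
    have d1 : orderOf (g * x * g⁻¹ * x⁻¹) ∣ Nat.card N := by
      have h0 := orderOf_dvd_natCard (⟨_, hw2⟩ : N)
      rwa [Subgroup.orderOf_mk] at h0
    have hNnd : ¬ p ∣ Nat.card N := by rw [← hc.index_eq_card]; exact P.not_dvd_index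
    have h3 : Nat.Coprime (Nat.card N) (p ^ k) :=
      Nat.Coprime.pow_right k ((Nat.Prime.coprime_iff_not_dvd hp).mpr hNnd).symm
    exact orderOf_eq_one_iff.mp (Nat.eq_one_of_dvd_coprimes h3 d1 (hk ▸ dvd_rfl))
  calc x * g = (g * x * g⁻¹ * x⁻¹)⁻¹ * (g * x) := by group
    _ = g * x := by rw [hw, inv_one, one_mul]

/-- Frobenius' condition may be checked on the subgroups of one Sylow subgroup. -/
theorem frobCond_of_sylow {p : ℕ} [Fact p.Prime] {G : Type u} [Group G] [Finite G] (P : Sylow p G)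
    (h : ∀ Q : Subgroup G, Q ≤ (P : Subgroup G) → ∀ g ∈ Subgroup.normalizer (Q : Set G),
      Nat.Coprime (orderOf g) p → g ∈ Subgroup.centralizer (Q : Set G)) : FrobCond p G := by
  intro Q hQ g hg hcop
  obtain ⟨h₀, hh₀⟩ := exists_conj_into_sylow P Q hQ
  have hQ'P : MulAut.conj h₀ • Q ≤ (P : Subgroup G) := by
    intro d hd
    rw [mem_conj_smul] at hd
    have h1 := hh₀ _ hd
    have e : h₀ * (h₀⁻¹ * d * h₀) * h₀⁻¹ = d := by group
    rwa [e] at h1
  have hg' : h₀ * g * h₀⁻¹ ∈ Subgroup.normalizer ((MulAut.conj h₀ • Q : Subgroup G) : Set G) := by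
    apply mem_normalizer_of_conj_le
    intro d hd
    rw [mem_conj_smul] at hd ⊢
    have h1 := (Subgroup.mem_normalizer_iff.mp hg _).mp hd
    have e : h₀⁻¹ * (h₀ * g * h₀⁻¹ * d * (h₀ * g * h₀⁻¹)⁻¹) * h₀ = g * (h₀⁻¹ * d * h₀) * g⁻¹ := by
      group
    rw [e]
    exact h1
  have h2 := h _ hQ'P _ hg' (by rw [orderOf_conj_eq]; exact hcop)
  rw [Subgroup.mem_centralizer_iff]
  intro x hx
  have hx' : h₀ * x * h₀⁻¹ ∈ MulAut.conj h₀ • Q := by
    rw [mem_conj_smul]
    have e : h₀⁻¹ * (h₀ * x * h₀⁻¹) * h₀ = x := by group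
    rw [e]; exact hx
  have h3 := (Subgroup.mem_centralizer_iff.mp h2) _ hx'
  have e1 : x * g = h₀⁻¹ * ((h₀ * x * h₀⁻¹) * (h₀ * g * h₀⁻¹)) * h₀ := by group
  have e2 : g * x = h₀⁻¹ * ((h₀ * g * h₀⁻¹) * (h₀ * x * h₀⁻¹)) * h₀ := by group
  rw [e1, e2, h3]

end Cfsg.Agent.Lib.Lead
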