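import Mathlib
import Cfsg.Agent.Lib.Lead.Artin
import Cfsg.Agent.Lib.Lead.Char2

set_option autoImplicit false

namespace Cfsg.Agent.Lib.Lead

open Module Representation

/-- a hom to `ℂˣ` is a character of degree 1 -/
theorem isCharacter_of_hom {G : Type*} [Group G] (μ : G →* ℂˣ) :
    Cfsg.IsCharacter G (fun g => (μ g : ℂ)) := by
  let ρ : Representation ℂ G (Fin 1 → ℂ) :=
    { toFun := fun g => ((μ g : ℂ)) • (1 : Module.End ℂ (Fin 1 → ℂ))
      map_one' := by simp
      map_mul' := by
        intro a b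
        rw [smul_mul_smul_comm, one_mul, map_mul, Units.val_mul] }
  refine ⟨1, ρ, ?_⟩
  funext g
  show LinearMap.trace ℂ _ (((μ g : ℂ)) • (1 : Module.End ℂ (Fin 1 → ℂ))) = _
  rw [map_smul, LinearMap.trace_one]
  simp

/-- a character of degree one is a hom -/
theorem hom_of_isCharacter_one {G : Type*} [Group G] {χ : G → ℂ} (h : Cfsg.IsCharacter G χ)
    (h1 : χ 1 = 1) : ∃ lam : G →* ℂˣ, χ = fun g => (lam g : ℂ) := by
  obtain ⟨n, ρ, rfl⟩ := h
  have hn : n = 1 := by
    have h2 := Representation.char_one ρ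
    rw [h1] at h2
    simp at h2
    exact_mod_cast h2.symm
  subst hn
  exact linear_of_finrank_one ρ (by simp)

/-- transfer of an invariant hom on a finite-index subgroup is the index-th power on it -/
theorem transfer_of_invariant {G : Type*} [Group G] (N : Subgroup G) [N.FiniteIndex]
    {A : Type*} [CommGroup A] (ϕ : N →* A)
    (hinv : ∀ (g : G) (n : N) (h : g⁻¹ * (n : G) * g ∈ N), ϕ ⟨g⁻¹ * n * g, h⟩ = ϕ n) (n : N) :
    MonoidHom.transfer ϕ (n : G) = ϕ n ^ N.index := by
  classical
  haveI : Fintype (G ⧸ N) := N.fintypeQuotientOfFiniteIndex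
  haveI : Fintype (Quotient (MulAction.orbitRel (Subgroup.zpowers (n : G)) (G ⧸ N))) :=
    Fintype.ofFinite _
  rw [MonoidHom.transfer_eq_prod_quotient_orbitRel_zpowers_quot,
    Subgroup.index_eq_sum_minimalPeriod N (n : G), ← Finset.prod_pow_eq_pow_sum]
  refine Finset.prod_congr rfl (fun q _ => ?_)
  have h := hinv q.out.out (n ^ Function.minimalPeriod ((n : G) • ·) q.out)
    (by simpa using QuotientGroup.out_conj_pow_minimalPeriod_mem N (n : G) q.out)
  rw [map_pow] at h
  rw [← h]
  congr 1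

/-- the transfer of a hom killed by `m` is killed by `m` -/
theorem transfer_pow_eq_one {G : Type*} [Group G] (N : Subgroup G) [N.FiniteIndex]
    {A : Type*} [CommGroup A] (ϕ : N →* A) (m : ℕ) (hm : ∀ x : N, ϕ x ^ m = 1) (g : G) :
    MonoidHom.transfer ϕ g ^ m = 1 := by
  classical
  haveI : Fintype (G ⧸ N) := N.fintypeQuotientOfFiniteIndex
  haveI : Fintype (Quotient (MulAction.orbitRel (Subgroup.zpowers g) (G ⧸ N))) :=
    Fintype.ofFinite _
  rw [MonoidHom.transfer_eq_prod_quotient_orbitRel_zpowers_quot, ← Finset.prod_pow]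
  exact Finset.prod_eq_one (fun q _ => hm _)

end Cfsg.Agent.Lib.Lead
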