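import Mathlib
import Cfsg.Agent.Lib.Lead.Invol2
import Cfsg.Agent.Lib.Lead.BaerSuzuki

set_option autoImplicit false

namespace Cfsg.Agent.Lib.Lead

section StrEmb
variable {G : Type*} [Group G] [Finite G]

/-- Elementwise form of the third clause of strong embedding. -/
theorem se_third_iff (H : Subgroup G) :
    (∀ g : G, g ∉ H → Odd (Nat.card ↥(H ⊓ H.map (MulAut.conj g).toMonoidHom))) ↔
    (∀ g : G, ∀ t ∈ H, orderOf t = 2 → g * t * g⁻¹ ∈ H → g ∈ H) := by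
  haveI : Fact (Nat.Prime 2) := ⟨Nat.prime_two⟩
  constructor
  · intro h g t ht ht2 hgt
    by_contra hg
    have hodd := h g hg
    have hmem : g * t * g⁻¹ ∈ H ⊓ H.map (MulAut.conj g).toMonoidHom := by
      refine ⟨hgt, ?_⟩
      exact ⟨t, ht, by simp [MulAut.conj_apply]⟩
    have ho : orderOf (⟨g * t * g⁻¹, hmem⟩ : ↥(H ⊓ H.map (MulAut.conj g).toMonoidHom)) = 2 := by
      rw [Subgroup.orderOf_mk, orderOf_conj_eq]; exact ht2
    have hdvd := orderOf_dvd_natCard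
      (⟨g * t * g⁻¹, hmem⟩ : ↥(H ⊓ H.map (MulAut.conj g).toMonoidHom))
    rw [ho] at hdvd
    exact (Nat.not_even_iff_odd.mpr hodd) (even_iff_two_dvd.mpr hdvd)
  · intro h g hg
    by_contra hodd
    rw [Nat.not_odd_iff_even] at hodd
    obtain ⟨s, hs⟩ := exists_prime_orderOf_dvd_card' 2 (even_iff_two_dvd.mp hodd)
    have hs2 : orderOf (s : G) = 2 := by rw [Subgroup.orderOf_coe]; exact hs
    obtain ⟨hsH, t, htH, hts⟩ := s.2
    have hts' : g * t * g⁻¹ = (s : G) := by simpa [MulAut.conj_apply] using hts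
    have ht2 : orderOf t = 2 := by rw [← orderOf_conj_eq g t, hts']; exact hs2
    exact hg (h g t htH ht2 (by rw [hts']; exact hsH))

/-- Conjugating a `2`-subgroup of `H` into a Sylow `2`-subgroup of `H`, inside `H`. -/
theorem exists_conj_into_sylow_sub (H : Subgroup G) (P : Sylow 2 ↥H) (Q : Subgroup G)
    (hQH : Q ≤ H) (hQ : IsPGroup 2 Q) :
    ∃ h ∈ H, ∀ x ∈ Q, h * x * h⁻¹ ∈ (P : Subgroup ↥H).map H.subtype := by
  haveI : Fact (Nat.Prime 2) := ⟨Nat.prime_two⟩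
  have hQ' : IsPGroup 2 (Q.subgroupOf H) := hQ.comap_subtype
  obtain ⟨h, key⟩ := exists_conj_into_sylow P (Q.subgroupOf H) hQ'
  refine ⟨(h : G), h.2, fun x hx => ?_⟩
  have h1 : (⟨x, hQH hx⟩ : ↥H) ∈ Q.subgroupOf H := by
    rw [Subgroup.mem_subgroupOf]; exact hx
  have h2 := key _ h1
  have h3 := Subgroup.mem_map_of_mem H.subtype h2
  simpa using h3

/-- A nontrivial `2`-subgroup has a central involution. -/
theorem exists_central_invol (Q : Subgroup G) (hQ : IsPGroup 2 Q) (hne : Q ≠ ⊥) :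
    ∃ z ∈ Q, orderOf z = 2 ∧ ∀ x ∈ Q, z * x = x * z := by
  haveI : Fact (Nat.Prime 2) := ⟨Nat.prime_two⟩
  haveI : Nontrivial Q := (Subgroup.nontrivial_iff_ne_bot Q).mpr hne
  haveI := hQ.center_nontrivial
  have hZ : IsPGroup 2 (Subgroup.center Q) := hQ.to_subgroup _
  obtain ⟨k, hk⟩ := IsPGroup.iff_card.mp hZ
  have hk0 : k ≠ 0 := by
    rintro rfl
    rw [pow_zero] at hk
    have h1 := Finite.one_lt_card (α := Subgroup.center Q)
    omega
  have h2dvd : 2 ∣ Nat.card (Subgroup.center Q) := by rw [hk]; exact dvd_pow_self 2 hk0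
  obtain ⟨z₀, hz₀⟩ := exists_prime_orderOf_dvd_card' 2 h2dvd
  refine ⟨((z₀ : Q) : G), (z₀ : Q).2, ?_, ?_⟩
  · rw [Subgroup.orderOf_coe, Subgroup.orderOf_coe]; exact hz₀
  · intro x hx
    have h1 := Subgroup.mem_center_iff.mp z₀.2 ⟨x, hx⟩
    have h2 := congrArg Subtype.val h1
    exact h2.symm

set_option maxHeartbeats 1000000 in
/-- If the normalizers of the nontrivial subgroups of a Sylow `2`-subgroup of `H` lie in `H`,
then `H` is strongly embedded (elementwise form). -/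
theorem se_of_normalizers (H : Subgroup G) (P : Sylow 2 ↥H) (hP : (P : Subgroup ↥H) ≠ ⊥)
    (hN : ∀ X : Subgroup ↥H, X ≤ (P : Subgroup ↥H) → X ≠ ⊥ →
      Subgroup.normalizer ((X.map H.subtype : Subgroup G) : Set G) ≤ H) :
    ∀ g : G, ∀ t ∈ H, orderOf t = 2 → g * t * g⁻¹ ∈ H → g ∈ H := by
  haveI : Fact (Nat.Prime 2) := ⟨Nat.prime_two⟩
  have hPG2 : IsPGroup 2 ((P : Subgroup ↥H).map H.subtype) := P.2.map _
  have hPGH : (P : Subgroup ↥H).map H.subtype ≤ H := by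
    rintro x ⟨y, -, rfl⟩
    exact y.2
  have hPGne : (P : Subgroup ↥H).map H.subtype ≠ ⊥ := by
    intro h
    apply hP
    rw [eq_bot_iff]
    intro y hy
    have h1 : H.subtype y ∈ (P : Subgroup ↥H).map H.subtype := Subgroup.mem_map_of_mem _ hy
    rw [h, Subgroup.mem_bot] at h1
    rw [Subgroup.mem_bot]
    exact Subtype.ext h1
  have hzp : ∀ t : G, orderOf t = 2 → IsPGroup 2 (Subgroup.zpowers t) := fun t ht =>
    IsPGroup.of_card (n := 1) (by rw [Nat.card_zpowers, ht, pow_one])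
  -- step 1: centralizers of involutions of H lie in H
  have hC : ∀ t ∈ H, orderOf t = 2 → Subgroup.centralizer ({t} : Set G) ≤ H := by
    intro t ht ht2 c hc
    obtain ⟨h, hh, key⟩ := exists_conj_into_sylow_sub H P (Subgroup.zpowers t)
      (Subgroup.zpowers_le.mpr ht) (hzp t ht2)
    have ht₁ := key t (Subgroup.mem_zpowers t)
    obtain ⟨y, hyP, hy⟩ := ht₁
    have hy1 : y ≠ 1 := by
      rintro rfl
      have h1 : orderOf (h * t * h⁻¹) = 2 := by rw [orderOf_conj_eq]; exact ht2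
      rw [← hy, map_one, orderOf_one] at h1
      omega
    have hX := hN (Subgroup.zpowers y) (Subgroup.zpowers_le.mpr hyP)
      (fun h0 => hy1 (by
        have h1 : y ∈ Subgroup.zpowers y := Subgroup.mem_zpowers y
        rw [h0, Subgroup.mem_bot] at h1
        exact h1))
    rw [MonoidHom.map_zpowers, hy] at hX
    have hc₁ : h * c * h⁻¹ ∈ Subgroup.normalizer (Subgroup.zpowers (h * t * h⁻¹) : Set G) := by
      apply mem_normalizer_of_conj_le
      intro d hd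
      obtain ⟨j, rfl⟩ := Subgroup.mem_zpowers_iff.mp hd
      rw [Subgroup.mem_centralizer_singleton_iff] at hc
      have e : h * c * h⁻¹ * (h * t * h⁻¹) ^ j * (h * c * h⁻¹)⁻¹ = (h * t * h⁻¹) ^ j := by
        rw [← conj_zpow]
        have e2 : h * c * h⁻¹ * (h * t * h⁻¹) * (h * c * h⁻¹)⁻¹ = h * (c * t) * c⁻¹ * h⁻¹ := by
          group
        rw [e2, hc]
        group
      rw [e]
      exact Subgroup.zpow_mem _ (Subgroup.mem_zpowers _) j
    have h5 := hX hc₁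
    have e : c = h⁻¹ * (h * c * h⁻¹) * h := by group
    rw [e]
    exact H.mul_mem (H.mul_mem (H.inv_mem hh) h5) hh
  -- step 2: central involution of P
  obtain ⟨z, hzP, hz2, hzc⟩ := exists_central_invol _ hPG2 hPGne
  intro g t ht ht2 hgt
  obtain ⟨h₁, hh₁, key₁⟩ := exists_conj_into_sylow_sub H P (Subgroup.zpowers t)
    (Subgroup.zpowers_le.mpr ht) (hzp t ht2)
  have ht₁ := key₁ t (Subgroup.mem_zpowers t)
  have hs2 : orderOf (g * t * g⁻¹) = 2 := by rw [orderOf_conj_eq]; exact ht2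
  have hzt := hzc _ ht₁
  -- z₁ = g₁ z g₁⁻¹ where g₁ = g * h₁⁻¹
  have hz₁2 : orderOf ((g * h₁⁻¹) * z * (g * h₁⁻¹)⁻¹) = 2 := by rw [orderOf_conj_eq]; exact hz2
  have hz₁H : (g * h₁⁻¹) * z * (g * h₁⁻¹)⁻¹ ∈ H := by
    apply hC _ hgt hs2
    rw [Subgroup.mem_centralizer_singleton_iff]
    have e1 : (g * h₁⁻¹) * z * (g * h₁⁻¹)⁻¹ * (g * t * g⁻¹)
        = (g * h₁⁻¹) * (z * (h₁ * t * h₁⁻¹)) * (g * h₁⁻¹)⁻¹ := by group
    have e2 : (g * t * g⁻¹) * ((g * h₁⁻¹) * z * (g * h₁⁻¹)⁻¹)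
        = (g * h₁⁻¹) * ((h₁ * t * h₁⁻¹) * z) * (g * h₁⁻¹)⁻¹ := by group
    rw [e1, e2, hzt]
  have hCz := hC _ hz₁H hz₁2
  have hP₁H : ((P : Subgroup ↥H).map H.subtype).map (MulAut.conj (g * h₁⁻¹)).toMonoidHom ≤ H := by
    rintro x ⟨y, hy, rfl⟩
    apply hCz
    rw [Subgroup.mem_centralizer_singleton_iff]
    have hzy := hzc y hy
    show (MulAut.conj (g * h₁⁻¹)) y * ((g * h₁⁻¹) * z * (g * h₁⁻¹)⁻¹)
      = ((g * h₁⁻¹) * z * (g * h₁⁻¹)⁻¹) * (MulAut.conj (g * h₁⁻¹)) y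
    rw [MulAut.conj_apply]
    have e1 : (g * h₁⁻¹) * y * (g * h₁⁻¹)⁻¹ * ((g * h₁⁻¹) * z * (g * h₁⁻¹)⁻¹)
        = (g * h₁⁻¹) * (y * z) * (g * h₁⁻¹)⁻¹ := by group
    have e2 : ((g * h₁⁻¹) * z * (g * h₁⁻¹)⁻¹) * ((g * h₁⁻¹) * y * (g * h₁⁻¹)⁻¹)
        = (g * h₁⁻¹) * (z * y) * (g * h₁⁻¹)⁻¹ := by group
    rw [e1, e2, hzy]
  obtain ⟨h', hh', key'⟩ := exists_conj_into_sylow_sub H P _ hP₁H (hPG2.map _)
  have hnorm : h' * (g * h₁⁻¹) ∈
      Subgroup.normalizer (((P : Subgroup ↥H).map H.subtype : Subgroup G) : Set G) := by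
    apply mem_normalizer_of_conj_le
    intro d hd
    have h6 := key' ((MulAut.conj (g * h₁⁻¹)) d) (Subgroup.mem_map_of_mem _ hd)
    rw [MulAut.conj_apply] at h6
    have e : h' * (g * h₁⁻¹) * d * (h' * (g * h₁⁻¹))⁻¹
        = h' * ((g * h₁⁻¹) * d * (g * h₁⁻¹)⁻¹) * h'⁻¹ := by group
    rw [e]; exact h6
  have h7 := hN (P : Subgroup ↥H) le_rfl hP hnorm
  have e : g = h'⁻¹ * (h' * (g * h₁⁻¹)) * h₁ := by group
  rw [e]
  exact H.mul_mem (H.mul_mem (H.inv_mem hh') h7) hh₁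

end StrEmb

end Cfsg.Agent.Lib.Lead
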